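import Cfsg.Agent.Lib.J3O.Bas

/-! AL.  `A / ⟨z⟩` is elementary of order 32.  comm: `a b = (a b)⁻¹ · sq`; or `Sect.comm_mem` with `K = zpowers z`.
exists_YA: `β a = ⁅a, x⁆ = a (x a⁻¹ x⁻¹) ∈ A` is multiplicative modulo `z`; `x² ∈ A` acts trivially on `A / ⟨z⟩`, so `β (β a) ∈ ⟨z⟩` (`Y ≤ A1`);
`|Y| / 2 = |A : A1|` (a hom `A →* A ⧸ ⟨z⟩`, or `SzS`'s card_eq_of_hom), so `|Y|² ≤ 128`, `|Y| ≤ 8`.  der: comm_le.  cen: `s ∈ A` or `s ∈ A x`.
nfix: fix_of_cls with der, cen.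
L1.  `H ≤ S`, squares of `H` in `K`, `16 < K.relIndex H`, `N = K ⊓ H`, `|H| = |N| · index`, so `|N| ≤ 4`.  `|N| = 1`: `H` elementary of order `≥ 32` (no64: `= 32`).
`|N| = 2`, `N = ⟨z⟩`: `H = S` gives not_cen (`N` normal of order 2); so `|H| = 64`; `H` is not elementary (no64), `z = a²`, `s z s⁻¹ = (s a s⁻¹)² ∈ {1, z}`.
`|N| = 4`: `H = S`, `W = N` normal, contains all squares and commutators, not central (not_cen), `z ∈ W` central (`Sect.exists_cent_of_norm`), `W ⊓ C(S) = ⟨z⟩`,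
`W = {1, z, w, w z}`, `⁅w, a⁆ ∈ ⟨z⟩`.  If `a` does not centralise `w` then `a² ∈ W ⊓ C(a) = ⟨z⟩`.  Fix such an `s`; `A = {a ∈ S : ⁅s, a⁆ ∈ ⟨z⟩}` is a subgroup of
index `≤ 2` (`⁅s, a b⁆ = ⁅s, a⁆ a ⁅s, b⁆ a⁻¹`).  `a ∈ A` centralising `w`: `s a` does not, `(s a)² = ⁅s, a⁆ a s² a` (check), `s² ∈ ⟨z⟩`, so `a² ∈ ⟨z⟩`.
`A = S` gives not_cen with `Y = ⟨z⟩`. -/

set_option autoImplicit false
set_option linter.unusedSectionVars false
set_option linter.unusedVariables false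

namespace CfsgLib.J3O
open Subgroup Cfsg CfsgLib.Tech CfsgLib.ACT
open scoped commutatorElement

variable {G : Type*} [Group G] [Finite G]

private theorem al_zp {S A : Subgroup G} {z : G} (h : Al S A z) {y : G} : y ∈ zpowers z ↔ y = 1 ∨ y = z := by
  refine ⟨fun ⟨k, e⟩ => ?_, by rintro (rfl | rfl); exacts [one_mem _, mem_zpowers _]⟩
  have h2 : z ^ (2 : ℤ) = 1 := by rw [zpow_two, h.z2]
  rcases Int.even_or_odd' k with ⟨j, rfl | rfl⟩
  · left; rw [← e]; show z ^ (2 * j) = 1; rw [zpow_mul, h2, one_zpow]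
  · right; rw [← e]; show z ^ (2 * j + 1) = z; rw [zpow_add_one, zpow_mul, h2, one_zpow, one_mul]

private theorem al_conj {S A : Subgroup G} {z : G} (h : Al S A z) {y s : G} (hy : y ∈ zpowers z) (hs : s ∈ S) :
    s * y * s⁻¹ = y := by
  rw [zpowers_le.2 h.cen hy s hs, mul_inv_cancel_right]

theorem Al.nm {S A : Subgroup G} {z : G} (h : Al S A z) : S ≤ Nm A := by
  exact idx2_nm h.le (by rw [h.hy.card, h.card])

theorem Al.mul {S A : Subgroup G} {z : G} (h : Al S A z) {x y : G} (hx : x ∈ S) (hy : y ∈ S)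
    (hxA : x ∉ A) (hyA : y ∉ A) : x * y ∈ A := by
  exact idx2_mul h.le (by rw [h.hy.card, h.card]) hx hy hxA hyA

theorem Al.comm {S A : Subgroup G} {z : G} (h : Al S A z) {a b : G} (ha : a ∈ A) (hb : b ∈ A) :
    ⁅a, b⁆ = 1 ∨ ⁅a, b⁆ = z := by
  exact (al_zp h).1 (Sect.comm_mem (fun x hx => (al_zp h).2 (h.sq x hx)) ha hb)

theorem Al.exists_YA {S A : Subgroup G} {z : G} (h : Al S A z) {x : G} (hx : x ∈ S) (hxA : x ∉ A) :
    ∃ Y A1 : Subgroup G, YA S A Y A1 z x := by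
  let Z : Subgroup A := (zpowers z).subgroupOf A
  have zn : Z.Normal := ⟨fun n hn g => mem_subgroupOf.2 (by
    change (g : G) * n * (g : G)⁻¹ ∈ _
    rw [al_conj h (mem_subgroupOf.1 hn) (h.le g.2)]; exact hn)⟩
  have cx : ∀ a ∈ A, x * a * x⁻¹ ∈ A := fun a ha => conj_mem_of_mem_normalizer (h.nm hx) ha
  have bA : ∀ a ∈ A, ⁅a, x⁆ ∈ A := fun a ha => by
    have := mul_mem ha (cx _ (inv_mem ha))
    rwa [commutatorElement_def, mul_assoc, mul_assoc, ← mul_assoc x]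
  let f : A →* A ⧸ Z := MonoidHom.mk' (fun a => ((⟨⁅(a : G), x⁆, bA a a.2⟩ : A) : A ⧸ Z)) fun a b => by
    rw [← QuotientGroup.mk_mul, QuotientGroup.eq]
    refine mem_subgroupOf.2 ?_
    change ⁅(a : G) * b, x⁆⁻¹ * (⁅(a : G), x⁆ * ⁅(b : G), x⁆) ∈ _
    have e : ⁅(a : G) * b, x⁆⁻¹ * (⁅(a : G), x⁆ * ⁅(b : G), x⁆) =
        ⁅(a : G), x⁆⁻¹ * ⁅(a : G), ⁅(b : G), x⁆⁻¹⁆ * ⁅(a : G), x⁆⁻¹⁻¹ * ⁅⁅(a : G), x⁆⁻¹, ⁅(b : G), x⁆⁻¹⁆ := by
      simp only [commutatorElement_def]; group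
    rw [e, al_conj h ((al_zp h).2 (h.comm a.2 (inv_mem (bA _ b.2)))) (h.le (inv_mem (bA _ a.2)))]
    exact mul_mem ((al_zp h).2 (h.comm a.2 (inv_mem (bA _ b.2)))) ((al_zp h).2 (h.comm (inv_mem (bA _ a.2)) (inv_mem (bA _ b.2))))
  have mem1 : ∀ a ∈ A, a ∈ f.ker.map A.subtype ↔ ⁅a, x⁆ ∈ zpowers z := fun a ha =>
    (mem_map_iff_mem (x := (⟨a, ha⟩ : A)) A.subtype_injective).trans (QuotientGroup.eq_one_iff _)
  have memY : ∀ y, y ∈ (f.range.comap (QuotientGroup.mk' Z)).map A.subtype ↔ ∃ a ∈ A, ⁅a, x⁆⁻¹ * y ∈ zpowers z := fun y =>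
    ⟨fun ⟨b, ⟨a, e⟩, e'⟩ => ⟨a, a.2, e' ▸ mem_subgroupOf.1 (QuotientGroup.eq.1 e)⟩, fun ⟨a, ha, e⟩ =>
      ⟨⟨y, (mul_mem_cancel_left (inv_mem (bA a ha))).1 (zpowers_le.2 h.zA e)⟩, ⟨⟨a, ha⟩, QuotientGroup.eq.2 (mem_subgroupOf.2 e)⟩, rfl⟩⟩
  generalize hY : (f.range.comap (QuotientGroup.mk' Z)).map A.subtype = Y at memY
  have YA : Y ≤ A := hY ▸ map_subtype_le _
  have Yx : ∀ y ∈ Y, ⁅y, x⁆ ∈ zpowers z := fun y hy => by
    obtain ⟨a, ha, e⟩ := (memY y).1 hy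
    have e1 := al_conj h e hx
    have c := (al_zp h).2 (h.comm (h.mul hx hx hxA hxA) ha)
    have e2 := al_conj h c (h.le (bA a ha))
    have e3 := al_conj h e (h.le (bA a ha))
    have : ⁅y, x⁆ = ⁅x * x, a⁆ * (⁅a, x⁆ * ⁅a, x⁆) := by
      generalize hu : ⁅a, x⁆⁻¹ * y = u at e1 e3
      have ey : y = ⁅a, x⁆ * u := by rw [← hu]; group
      calc ⁅y, x⁆ = ⁅a, x⁆ * u * (x * u * x⁻¹)⁻¹ * x * ⁅a, x⁆⁻¹ * x⁻¹ := by rw [ey, commutatorElement_def]; group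
        _ = ⁅a, x⁆ * ⁅x * x, a⁆ * ⁅a, x⁆⁻¹ * (⁅a, x⁆ * ⁅a, x⁆) := by
          rw [e1]; simp only [commutatorElement_def]; group
        _ = _ := by rw [e2]
    rw [this]
    exact mul_mem c ((al_zp h).2 (h.sq _ (bA a ha)))
  have YA1 : Y ≤ f.ker.map A.subtype := fun y hy => (mem1 y (YA hy)).2 (Yx y hy)
  have ZY : zpowers z ≤ Y := fun u hu => (memY u).2 ⟨1, one_mem _, by simpa using hu⟩
  have card : Nat.card Y * Nat.card (f.ker.map A.subtype) = 2 * 64 := by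
    have c1 : Nat.card Z = 2 := by
      rw [Nat.card_congr (subgroupOfEquivOfLe (zpowers_le.2 h.zA)).toEquiv, Nat.card_zpowers, ord_two h.z2 h.z1]
    have c2 := QuotientGroup.card_preimage_mk Z (f.range : Set _)
    have c3 := card_mul_index f.ker
    rw [index_ker, h.card] at c3
    rw [← hY, card_subtype, card_subtype]
    change Nat.card (f.range.comap (QuotientGroup.mk' Z)) = Nat.card Z * Nat.card f.range at c2
    rw [c2, c1, mul_assoc, mul_comm (Nat.card f.range), c3]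
  have cen : ∀ y ∈ Y, ∀ s ∈ S, ⁅y, s⁆ ∈ zpowers z := fun y hy s hs => by
    by_cases hsA : s ∈ A
    · exact (al_zp h).2 (h.comm (YA hy) hsA)
    · have ha := h.mul hs (inv_mem hx) hsA (mt inv_mem_iff.1 hxA)
      have := mul_mem ((al_zp h).2 (h.comm (YA hy) ha)) ((al_conj h (Yx y hy) (h.le ha)).symm ▸ Yx y hy :
        s * x⁻¹ * ⁅y, x⁆ * (s * x⁻¹)⁻¹ ∈ zpowers z)
      convert this using 1
      simp only [commutatorElement_def]; group
  refine ⟨Y, f.ker.map A.subtype, ZY (mem_zpowers z), YA1, map_subtype_le _, fun a ha => (mem1 a ha).trans (al_zp h),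
    fun y => (memY y).trans (exists_congr fun a => and_congr_right fun _ => ?_), card, ?_,
    comm_le h.le (by rw [h.hy.card, h.card]) hx hxA (fun s hs y hy => ?_) (fun a ha b hb => ZY ((al_zp h).2 (h.comm ha hb)))
      (fun a ha => (memY _).2 ⟨a, ha, by rw [inv_mul_cancel]; exact one_mem _⟩), fun y hy s hs => (al_zp h).1 (cen y hy s hs)⟩
  · rw [al_zp h, inv_mul_eq_one, inv_mul_eq_iff_eq_mul, eq_comm]
  · have := card_le_of_le YA1
    rcases h.hy.card_cases (YA.trans h.le) with e | e | e | e | e | e | e | e <;> rw [e] at card this ⊢ <;> omega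
  · have := mul_mem (inv_mem (ZY (cen y hy s hs))) hy
    convert this using 1
    simp only [commutatorElement_def]; group

theorem Al.nfix {S A : Subgroup G} {z : G} (h : Al S A z) {n : G} (hn : n ∈ Nm S) : n * z * n⁻¹ = z := by
  obtain ⟨x, hx, hxA⟩ : ∃ x ∈ S, x ∉ A := SetLike.not_le_iff_exists.1 fun e => by
    have := card_le_of_le e
    rw [h.hy.card, h.card] at this; omega
  obtain ⟨Y, A1, k⟩ := h.exists_YA hx hxA
  exact h.hy.fix_of_cls (fun a ha b hb c hc => k.cen _ (k.der a ha b hb) c hc) hn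

/-- `C_A(t)` has index at most two in `A`. -/
theorem Al.card_cent {S A D : Subgroup G} {z : G} (h : Al S A z) (hD : D ≤ A) {t : G}
    (ht : ∀ d ∈ D, ⁅d, t⁆ = 1 ∨ ⁅d, t⁆ = z) : Nat.card D ≤ 2 * Nat.card (D ⊓ Cx t : Subgroup G) := by
  have k : ∀ d, d ∈ Cx t ↔ ⁅d, t⁆ = 1 := fun d =>
    mem_centralizer_singleton_iff.trans commutatorElement_eq_one_iff_mul_comm.symm
  refine card_le_two_mul inf_le_left fun a ha b hb na nb => ⟨mul_mem ha hb, (k _).2 ?_⟩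
  have ea := (ht a ha).resolve_left fun e => na ⟨ha, (k _).2 e⟩
  have eb := (ht b hb).resolve_left fun e => nb ⟨hb, (k _).2 e⟩
  calc ⁅a * b, t⁆ = a * ⁅b, t⁆ * a⁻¹ * ⁅a, t⁆ := by simp only [commutatorElement_def]; group
    _ = 1 := by rw [ea, eb, al_conj h (mem_zpowers z) (h.le (hD ha)), h.z2]

end CfsgLib.J3O
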