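import Cfsg.Agent.Lib.J3O.Bas
import Cfsg.Agent.Lib.SzS.Gen

/-! B1.  nE: `cj s E` is an `E₃₂`.  self: if `y ∈ S - E` centralises `E`, replace it by `y²` if `y² ∉ E` (`|S : E| = 4`, `y⁴ ∈ E`); `M = E ⟨y⟩` is abelian of order 64,
its squares are `1, y²`; `y² ≠ 1` (no64), `s y² s⁻¹` is a square of `M`: not_ab.
frame: `α e = ⁅e, t⁆ = e t e t` is an endomorphism of `E`, `α α = 1`, `V = ker`, `W = im ≤ V`, `|V| |W| = 32`; `|V| = 32`: self; `|V| = 16`: `V ⟨t⟩` is a second `E₃₂`.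
`M = E ⟨t⟩` is normal (index 2).  `s t s⁻¹ = e t` is an involution, so `e ∈ V` (tc).  nV, nW: `s t s⁻¹` acts on `E` as `t`.
`x ∈ S - M`, `β v = ⁅v, x⁆` on `V`; `x² ∈ M` centralises `V`, so `β β = 1` on `V`.  `Z(S) ≤ E` (self), `Z(S) = V ⊓ C(x)`, order `≥ 4`.
For `e ∈ E`: `α (x e x⁻¹) = x (α e) x⁻¹`; so if `x` centralises `W` then `⁅e, x⁆ ∈ V` for all `e ∈ E`.  If `x` centralises `V`: comm_le with `M`, `Y = V`, not_cen.
So `|Z(S)| = 4`, `β V = {1, z}`, `z` central.  `z ∈ W`: if `x` centralises `W` then `W = Z(S)` (orders); else `z = β w ∈ W` (nW). -/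

set_option autoImplicit false
set_option linter.unusedSectionVars false
set_option linter.unusedVariables false

namespace CfsgLib.J3O
open Subgroup Cfsg CfsgLib.Tech CfsgLib.ACT
open scoped commutatorElement

variable {G : Type*} [Group G] [Finite G]

theorem b1_pow {A : Subgroup G} : ∀ (k : ℕ) {x : G}, x ^ 2 ^ k = 1 → x ∉ A → ∃ j : ℕ, x ^ j ∉ A ∧ x ^ j * x ^ j ∈ A
  | 0, x, h, hx => absurd (by rw [show x = 1 by simpa using h]; exact one_mem _) hx
  | k + 1, x, h, hx => by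
    by_cases h2 : x * x ∈ A
    · exact ⟨1, by simpa using hx, by simpa using h2⟩
    obtain ⟨j, hj⟩ := b1_pow k (x := x ^ 2) (by rwa [← pow_mul, ← pow_succ']) (by rwa [sq])
    exact ⟨2 * j, by simpa only [pow_mul] using hj⟩

theorem b1_cm {a c x : G} (h : c * (x * a⁻¹ * x⁻¹) = x * a⁻¹ * x⁻¹ * c) : ⁅a, c * x⁆ = ⁅a, x⁆ := by
  rw [commutatorElement_def, commutatorElement_def, show a * (c * x) * a⁻¹ * (c * x)⁻¹ =
    a * (c * (x * a⁻¹ * x⁻¹)) * c⁻¹ by group, h]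
  group

theorem b1_mem {A : Subgroup G} {a x : G} (hx : x ∈ Nm A) (ha : a ∈ A) : ⁅a, x⁆ ∈ A := by
  have := mul_mem ha (conj_mem_of_mem_normalizer hx (inv_mem ha))
  rwa [← mul_assoc, ← mul_assoc] at this

theorem b1_inv {A : Subgroup G} (hA : El A) {a : G} (ha : a ∈ A) : a⁻¹ = a := inv_eq_of_mul_eq_one_right (hA a ha)

theorem b1_mul {A : Subgroup G} (hA : El A) {a b x : G} (hx : x ∈ Nm A) (ha : a ∈ A) (hb : b ∈ A) :
    ⁅a * b, x⁆ = ⁅a, x⁆ * ⁅b, x⁆ := by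
  rw [commutatorElement_mul_left_eq_conj_mul, hA.ab a ha _ (b1_mem hx hb), mul_inv_cancel_right,
    hA.ab _ (b1_mem hx hb) _ (b1_mem hx ha)]

theorem b1_im {A : Subgroup G} (hA : El A) {x : G} (hx : x ∈ Nm A) (h2 : x * x ∈ Ct A) :
    ∃ K : Subgroup G, (∀ w, w ∈ K ↔ ∃ a ∈ A, w = ⁅a, x⁆) ∧ K ≤ A ⊓ Cx x ∧
      Nat.card A = Nat.card ↥(A ⊓ Cx x) * Nat.card K := by
  let K : Subgroup G :=
    { carrier := {w | ∃ a ∈ A, w = ⁅a, x⁆}
      one_mem' := ⟨1, one_mem _, by simp⟩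
      mul_mem' := by
        rintro _ _ ⟨a, ha, rfl⟩ ⟨b, hb, rfl⟩
        exact ⟨_, mul_mem ha hb, (b1_mul hA hx ha hb).symm⟩
      inv_mem' := by
        rintro _ ⟨a, ha, rfl⟩
        exact ⟨a, ha, b1_inv hA (b1_mem hx ha)⟩ }
  refine ⟨K, fun _ => Iff.rfl, ?_, SzS.card_eq_of_comm (fun a ha => ⟨a, ha, rfl⟩) fun _ ⟨a, ha, e⟩ => ⟨a, ha, e.symm⟩⟩
  rintro _ ⟨a, ha, rfl⟩
  refine ⟨b1_mem hx ha, mem_centralizer_singleton_iff.2 ?_⟩
  conv_lhs => rw [← b1_inv hA (b1_mem hx ha)]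
  rw [commutatorElement_def, show x * (a * x * a⁻¹ * x⁻¹) = x * a * x⁻¹ * (x * x * a⁻¹) * x⁻¹ by group,
    ← h2 _ (inv_mem ha)]
  group

theorem Un.nE {S E : Subgroup G} (h : Un S E) : S ≤ Nm E := fun s hs =>
  mem_normalizer_iff_cj.2 (h.uniq _ ⟨cj_le_iff.2 fun x hx => mul_mem (mul_mem hs (h.e.le hx)) (inv_mem hs), by
    rintro _ ⟨x, hx, rfl⟩
    rw [← map_mul, h.e.el x hx, map_one], (card_cj _ _).trans h.e.card⟩)

theorem Un.self {S E : Subgroup G} (h : Un S E) {s : G} (hs : s ∈ S) (hc : s ∈ Ct E) : s ∈ E := by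
  by_contra hn
  obtain ⟨k, hk⟩ := two_of_mem h.hy.two hs
  obtain ⟨j, h1, h2⟩ := b1_pow k hk hn
  have yS := pow_mem hs j
  have yc := pow_mem hc j
  generalize s ^ j = y at h1 h2 yS yc
  obtain ⟨c, mem⟩ := card_sup_zp (ct_le_nm _ yc) h1 h2
  rw [h.e.card] at c
  have MS : E ⊔ zpowers y ≤ S := sup_le h.e.le (zpowers_le.2 yS)
  have sq : ∀ m ∈ E ⊔ zpowers y, m * m = 1 ∨ m * m = y * y := fun m hm => ((mem m).1 hm).imp (h.e.el m) fun e => by
    rw [← b1_inv h.e.el h2, eq_inv_iff_mul_eq_one, ← h.e.el _ e, mul_assoc m m, ← mul_assoc m y y, yc _ e]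
    group
  by_cases y2 : y * y = 1
  · have := h.hy.no64 MS fun m hm => (sq m hm).elim id fun e => e.trans y2
    omega
  refine h.hy.not_ab MS c (h.e.el.ab.sup (fun a ha b hb => Sect.comm_of_mem_zpowers ha hb)
    (le_ct_comm.1 (zpowers_le.2 yc))) fun m hm => ?_
  rcases sq m hm with e | e <;> rw [e]
  · exact one_mem _
  intro u hu
  have := sq _ (conj_mem_of_mem_normalizer (idx2_nm MS (by rw [c, h.hy.card]) hu) (mem_sup_right (mem_zpowers y)))
  rw [conj_mul, conj_eq_one_iff] at this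
  exact mul_inv_eq_iff_eq_mul.1 (this.resolve_left y2)

theorem Un.frame {S E : Subgroup G} (h : Un S E) {t : G} (ht : t ∈ S) (htE : t ∉ E) (h2 : t * t = 1) :
    ∃ V W z, Bt S E V W t z := by
  have el := h.e.el
  have nE := h.nE
  obtain ⟨W, memW, WV, cE⟩ := b1_im el (nE ht) (by rw [h2]; exact one_mem _)
  set V := E ⊓ Cx t with hV
  have memV : ∀ v, v ∈ V ↔ v ∈ E ∧ v * t = t * v := fun v => and_congr_right fun _ => mem_centralizer_singleton_iff
  have VE : V ≤ E := inf_le_left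
  have elV : El V := fun v hv => el v hv.1
  have tV : t ∈ Ct V := fun v hv => ((memV v).1 hv).2
  have cV : Nat.card V = 8 := by
    have h1 := card_le_of_le WV
    have h3 : Nat.card V ≠ 32 := fun e => htE (h.self ht (eq_of_le_of_card_ge VE (by rw [e, h.e.card]) ▸ tV))
    have h4 : Nat.card V ≠ 16 := fun e => htE (h.uniq (V ⊔ zpowers t) ⟨sup_le (VE.trans h.e.le) (zpowers_le.2 ht),
      el_sup_zp elV tV h2, by
        rw [(card_sup_zp (ct_le_nm _ tV) (fun e => htE e.1) (by rw [h2]; exact one_mem _)).1, e]⟩ ▸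
      mem_sup_right (mem_zpowers t))
    rw [h.e.card] at cE
    rcases h.hy.card_cases (VE.trans h.e.le) with e | e | e | e | e | e | e | e <;> rw [e] at cE h1 <;> omega
  have cW : Nat.card W = 4 := by rw [h.e.card, cV] at cE; omega
  obtain ⟨cM, memM⟩ := card_sup_zp (nE ht) htE (by rw [h2]; exact one_mem _)
  rw [h.e.card] at cM
  set M := E ⊔ zpowers t with hM
  have MS : M ≤ S := sup_le h.e.le (zpowers_le.2 ht)
  have c2 : Nat.card S ≤ 2 * Nat.card M := by rw [cM, h.hy.card]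
  have ti : t⁻¹ = t := inv_eq_of_mul_eq_one_right h2
  have ct : ∀ s : G, s * t * s⁻¹ = ⁅s, t⁆ * t := fun s => by rw [commutatorElement_def, inv_mul_cancel_right]
  have tc : ∀ s ∈ S, ⁅s, t⁆ ∈ V := fun s hs => by
    have h1 : ⁅s, t⁆ ∈ E := by
      rw [commutatorElement_def, ti]
      exact ((memM _).1 (conj_mem_of_mem_normalizer (idx2_nm MS c2 hs) (mem_sup_right (mem_zpowers t)))).resolve_left
        fun e => htE (by simpa [mul_assoc] using conj_mem_of_mem_normalizer' (nE hs) e)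
    have h3 : ⁅s, t⁆ * t * (⁅s, t⁆ * t) = 1 := by rw [← ct, conj_mul, h2, mul_one, mul_inv_cancel]
    exact (memV _).2 ⟨h1, by rw [eq_inv_of_mul_eq_one_left h3, mul_inv_rev, ti, b1_inv el h1]⟩
  have cj : ∀ s ∈ S, ∀ e ∈ E, ⁅s * e * s⁻¹, t⁆ = s * ⁅e, t⁆ * s⁻¹ := fun s hs e he => by
    rw [conjugate_commutatorElement, ct s, b1_cm (el.ab _ (VE (tc s hs)) _
      (conj_mem_of_mem_normalizer (nE ht) (inv_mem (conj_mem_of_mem_normalizer (nE hs) he))))]
  have nV : S ≤ Nm V := fun s hs => mem_normalizer_of_forall fun v hv =>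
    (memV _).2 ⟨conj_mem_of_mem_normalizer (nE hs) hv.1, commutatorElement_eq_one_iff_mul_comm.1 (by
      rw [cj s hs v hv.1, commutatorElement_eq_one_iff_mul_comm.2 (tV v hv), mul_one, mul_inv_cancel])⟩
  have nW : S ≤ Nm W := fun s hs => mem_normalizer_of_forall fun w hw => by
    obtain ⟨e, he, rfl⟩ := (memW w).1 hw
    exact (memW _).2 ⟨_, conj_mem_of_mem_normalizer (nE hs) he, (cj s hs e he).symm⟩
  have MV : M ≤ Ct V := sup_le (fun e he v hv => el.ab v hv.1 e he) (zpowers_le.2 tV)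
  obtain ⟨x, xS, xM⟩ : ∃ x ∈ S, x ∉ M := by
    by_contra hn
    push Not at hn
    have := card_le_of_le (show S ≤ M from hn)
    rw [cM, h.hy.card] at this
    omega
  obtain ⟨K, memK, KZ, cK⟩ := b1_im elV (nV xS) (MV (idx2_mul MS c2 xS xS xM xM))
  have dec : ∀ s ∈ S, s ∉ M → s * x⁻¹ ∈ M := fun s hs hn => idx2_mul MS c2 hs (inv_mem xS) hn (by simpa using xM)
  have ZV : S ⊓ Ct S = V ⊓ Cx x := by
    refine le_antisymm (fun z hz => ⟨(memV z).2 ⟨h.self hz.1 fun e he => hz.2 e (h.e.le he), (hz.2 t ht).symm⟩,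
      mem_centralizer_singleton_iff.2 (hz.2 x xS).symm⟩) fun v hv => ⟨h.e.le hv.1.1, fun s hs => ?_⟩
    by_cases hn : s ∈ M
    · exact (MV hn v hv.1).symm
    · rw [← inv_mul_cancel_right s x, mul_assoc, ← mem_centralizer_singleton_iff.1 hv.2, ← mul_assoc,
        ← MV (dec s hs hn) v hv.1, mul_assoc]
  have cZ : Nat.card ↥(V ⊓ Cx x) = 4 := by
    have h1 := card_le_of_le KZ
    have h3 : Nat.card ↥(V ⊓ Cx x) ≠ 8 := fun e => by
      have e1 : V ⊓ Cx x = V := eq_of_le_of_card_ge inf_le_left (by rw [e, cV])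
      have hn : ∀ s ∈ S, ∀ y ∈ V, s * y * s⁻¹ ∈ V := fun s hs y => conj_mem_of_mem_normalizer (nV hs)
      have k1 : ∀ e ∈ E, ⁅e, x⁆ ∈ V := fun e he => (memV _).2 ⟨b1_mem (nE xS) he,
        commutatorElement_eq_one_iff_mul_comm.1 (by
          have w := WV ((memW _).2 ⟨_, he, rfl⟩)
          rw [commutatorElement_def e, mul_assoc, mul_assoc, ← mul_assoc x, b1_inv el he,
            b1_mul el (nE ht) he (conj_mem_of_mem_normalizer (nE xS) he), cj x xS e he,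
            ← mem_centralizer_singleton_iff.1 (e1.ge w).2, mul_inv_cancel_right, elV _ w])⟩
      refine h.hy.not_cen (comm_le MS c2 xS xM hn (comm_le le_sup_left (by rw [cM, h.e.card])
        (mem_sup_right (mem_zpowers t)) htE (fun s hs => hn s (MS hs)) (fun a ha b hb => ?_)
        fun a ha => WV ((memW _).2 ⟨a, ha, rfl⟩)) fun a ha => ?_) (by rw [← e1, ← ZV]; exact inf_le_right)
      · rw [commutatorElement_eq_one_iff_mul_comm.2 (el.ab a ha b hb)]; exact one_mem _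
      rcases (memM a).1 ha with e | e
      · exact k1 a e
      · rw [show a = a * t * t by rw [mul_assoc, h2, mul_one], commutatorElement_mul_left_eq_conj_mul]
        refine mul_mem (hn _ (h.e.le e) _ ?_) (k1 _ e)
        rw [← commutatorElement_inv]
        exact inv_mem (tc x xS)
    rw [cV] at cK
    rcases h.hy.card_cases ((inf_le_left : V ⊓ Cx x ≤ V).trans (VE.trans h.e.le)) with e | e | e | e | e | e | e | e <;>
      rw [e] at cK h1 <;> omega
  obtain ⟨⟨z, zK⟩, z1, uq⟩ := (Nat.card_eq_two_iff' (1 : K)).1 (by rw [cV, cZ] at cK; omega)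
  have mK : ∀ v ∈ V, ⁅v, x⁆ = 1 ∨ ⁅v, x⁆ = z := fun v hv => or_iff_not_imp_left.2 fun e =>
    congrArg Subtype.val (uq ⟨_, (memK _).2 ⟨v, hv, rfl⟩⟩ fun e' => e (congrArg Subtype.val e'))
  have cx : ∀ v ∈ V, ∀ s ∈ S, s ∉ M → ⁅v, s⁆ = ⁅v, x⁆ := fun v hv s hs hn => by
    rw [← b1_cm (MV (dec s hs hn) _ (conj_mem_of_mem_normalizer (nV xS) (inv_mem hv))).symm, inv_mul_cancel_right]
  refine ⟨V, W, z, h, nE, fun s => h.self, ht, htE, h2, memV, memW, cV, cW, WV, cM, memM, nV, nW, tc, ?_,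
    fun e => z1 (Subtype.ext e), (ZV.ge (KZ zK)).2, fun v hv s hs => ?_, fun y hy hn => ?_, ZV.le.trans inf_le_left,
    ZV ▸ cZ⟩
  · by_cases hw : W ≤ Cx x
    · exact (eq_of_le_of_card_ge (le_inf WV hw) (by rw [cZ, cW])).ge (KZ zK)
    obtain ⟨w, hw, e⟩ := SetLike.not_le_iff_exists.1 hw
    rw [← (mK w (WV hw)).resolve_left fun e' =>
      e (mem_centralizer_singleton_iff.2 (commutatorElement_eq_one_iff_mul_comm.1 e'))]
    exact b1_mem (nW xS) hw
  · by_cases hn : s ∈ M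
    · exact Or.inl (commutatorElement_eq_one_iff_mul_comm.2 (MV hn v hv))
    · rw [cx v hv s hs hn]; exact mK v hv
  · obtain ⟨v, hv, e⟩ := (memK z).1 zK
    exact ⟨v, hv, by rw [cx v hv y hy hn, e]⟩

end CfsgLib.J3O
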