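import Cfsg.Agent.Lib.J3O.Defs
import Cfsg.Agent.Lib.Transfer.Cocycle

/-! TR.  The master transfer lemma. -/

set_option autoImplicit false
set_option linter.unusedSectionVars false
set_option linter.unusedVariables false

namespace CfsgLib.J3O
open Subgroup Cfsg CfsgLib.Tech CfsgLib.ACT
open scoped commutatorElement

variable {G : Type*} [Group G] [Finite G]

theorem hom_triv {A : Type*} [Group A] [Finite A] (hG : ∀ M : Subgroup G, M.index ≠ 2)
    (hA : IsPGroup 2 A) (f : G →* A) (g : G) : f g = 1 := by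
  have hR : IsPGroup 2 f.range := hA.to_subgroup _
  obtain ⟨k, hk⟩ := IsPGroup.iff_card.1 hR
  rcases k with _ | k
  · have : f.range = ⊥ := card_eq_one.1 (by simpa using hk)
    exact mem_bot.1 (this ▸ (⟨g, rfl⟩ : f g ∈ f.range))
  · exfalso
    obtain ⟨K, hK⟩ := Sylow.exists_subgroup_card_pow_prime 2 (G := f.range) (n := k)
      (by rw [hk]; exact pow_dvd_pow 2 (Nat.le_succ k))
    apply hG (K.comap f.rangeRestrict)
    rw [index_comap_of_surjective _ f.rangeRestrict_surjective]
    have := K.card_mul_index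
    rw [hK, hk, pow_succ] at this
    exact Nat.eq_of_mul_eq_mul_left (by positivity) this

theorem Hy.t2 {S Y R : Subgroup G} (h : Hy S) (hY : ∀ a ∈ S, ∀ b ∈ S, ⁅a, b⁆ ∈ Y) {u : G} (huS : u ∈ S)
    (huY : u ∉ Y) (hu : u * u = 1) (hR : IsPGroup 2 R) (hRu : R ≤ Cx u) :
    ∃ g : G, g * u * g⁻¹ ∈ S ∧ cj g R ≤ S ∧ u⁻¹ * (g * u * g⁻¹) ∉ Y := by
  classical
  by_contra hcon
  push Not at hcon
  have := Fintype.ofFinite (G ⧸ S)
  have hN : (Y.subgroupOf S).Normal := ⟨fun y hy s => by
    have h1 := Y.mul_mem (hY s s.2 y y.2) (mem_subgroupOf.1 hy)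
    refine mem_subgroupOf.2 ?_
    have e : ((s * y * s⁻¹ : S) : G) = ⁅(s : G), (y : G)⁆ * y := by
      simp [commutatorElement_def]
    rwa [e]⟩
  let : CommGroup (S ⧸ Y.subgroupOf S) :=
    { (inferInstance : Group (S ⧸ Y.subgroupOf S)) with
      mul_comm := fun a b => by
        induction a using QuotientGroup.induction_on with | H a => ?_
        induction b using QuotientGroup.induction_on with | H b => ?_
        rw [← QuotientGroup.mk_mul, ← QuotientGroup.mk_mul, QuotientGroup.eq]
        refine mem_subgroupOf.2 ?_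
        have h1 := hY _ (S.inv_mem b.2) _ (S.inv_mem a.2)
        have e : (((a * b)⁻¹ * (b * a) : S) : G) = ⁅(b : G)⁻¹, (a : G)⁻¹⁆ := by
          simp [commutatorElement_def, mul_assoc]
        rwa [e] }
  have := Fintype.ofFinite (S ⧸ Y.subgroupOf S)
  let ϕ : S →* S ⧸ Y.subgroupOf S := QuotientGroup.mk' _
  have hc := Transfer.isCocycle_cosetCocycle ϕ
  have htr : Transfer.tr ϕ u = 1 := hom_triv h.idx (h.syl.pgroup.to_quotient _) _ u
  let a := ϕ ⟨u, huS⟩
  have ha2 : a * a = 1 := by
    change ϕ _ * ϕ _ = 1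
    rw [← map_mul]
    have : (⟨u, huS⟩ * ⟨u, huS⟩ : S) = 1 := Subtype.ext hu
    rw [this, map_one]
  have ha1 : a ≠ 1 := fun e => huY (mem_subgroupOf.1 ((QuotientGroup.eq_one_iff _).1 e))
  have heven : ∀ b, b ≠ a → 2 ∣ (Finset.univ.filter fun q : G ⧸ S =>
      u • q = q ∧ Transfer.cosetCocycle ϕ u q = b).card := by
    intro b hb
    let Z : SubMulAction R (G ⧸ S) :=
      { carrier := {q | u • q = q ∧ Transfer.cosetCocycle ϕ u q = b}
        smul_mem' := fun r q hq => by
          have h3 : (r : G) * u * (r : G)⁻¹ = u := by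
            rw [mem_centralizer_singleton_iff.1 (hRu r.2), mul_inv_cancel_right]
          refine ⟨?_, ?_⟩
          · change u • (r : G) • q = (r : G) • q
            rw [← mul_smul, ← mem_centralizer_singleton_iff.1 (hRu r.2), mul_smul, hq.1]
          · change Transfer.cosetCocycle ϕ u ((r : G) • q) = b
            rw [← hq.2, ← hc.conj r hq.1, h3] }
    have e : (Finset.univ.filter fun q : G ⧸ S =>
        u • q = q ∧ Transfer.cosetCocycle ϕ u q = b).card = Nat.card Z := by
      rw [← Fintype.card_subtype, ← Nat.card_eq_fintype_card]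
      rfl
    rw [e]
    by_contra hodd
    obtain ⟨⟨q, hq1, hq2⟩, hq⟩ := hR.nonempty_fixed_point_of_prime_not_dvd_card Z hodd
    induction q using QuotientGroup.induction_on with | H t => ?_
    have h5 := Transfer.smul_mk_eq_iff.1 hq1
    have h6 : t⁻¹ * u * t⁻¹⁻¹ ∈ S := by rwa [inv_inv]
    have h7 := hcon t⁻¹ h6 (cj_le_iff.2 fun r hr => by
      rw [inv_inv]
      exact Transfer.smul_mk_eq_iff.1 (congrArg Subtype.val (hq ⟨r, hr⟩)))
    rw [inv_inv] at h7
    rw [Transfer.cosetCocycle_mk ϕ h5] at hq2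
    apply hb
    rw [← hq2]
    exact (QuotientGroup.eq.2 (mem_subgroupOf.2 h7)).symm
  have e1 : ∏ q ∈ Finset.univ.filter (fun q : G ⧸ S => ¬ u • q = q),
      Transfer.cosetCocycle ϕ u q * a = 1 := by
    refine Finset.prod_involution (fun q _ => u • q) ?_ ?_ ?_ ?_
    · intro q _
      have := hc u u q
      rw [hu, hc.one] at this
      rw [mul_mul_mul_comm, ha2, mul_one, mul_comm, ← this]
    · intro q hq _ h3
      exact (Finset.mem_filter.1 hq).2 h3
    · intro q hq
      refine Finset.mem_filter.2 ⟨Finset.mem_univ _, fun h1 => (Finset.mem_filter.1 hq).2 ?_⟩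
      exact MulAction.injective u h1
    · intro q _
      rw [← mul_smul, hu, one_smul]
  have e2 : ∏ q ∈ Finset.univ.filter (fun q : G ⧸ S => u • q = q),
      Transfer.cosetCocycle ϕ u q * a = 1 := by
    rw [← Finset.prod_fiberwise _ (fun q => Transfer.cosetCocycle ϕ u q)]
    refine Finset.prod_eq_one fun b _ => ?_
    rw [Finset.filter_filter, Finset.prod_congr rfl (g := fun _ => b * a) fun q hq => by
      rw [(Finset.mem_filter.1 hq).2.2], Finset.prod_const]
    by_cases hb : b = a
    · rw [hb, ha2, one_pow]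
    · obtain ⟨m, hm⟩ := heven b hb
      rcases (Finset.univ.filter fun q : G ⧸ S =>
        u • q = q ∧ Transfer.cosetCocycle ϕ u q = b).eq_empty_or_nonempty with he | ⟨q, hq⟩
      · rw [he, Finset.card_empty, pow_zero]
      · obtain ⟨-, hq1, hq2⟩ := Finset.mem_filter.1 hq
        have := hc u u q
        rw [hu, hc.one, hq1, hq2] at this
        rw [hm, pow_mul, pow_two, mul_mul_mul_comm, ← this, ha2, mul_one, one_pow]
  have e3 := Finset.prod_filter_mul_prod_filter_not Finset.univ (fun q : G ⧸ S => u • q = q)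
    (fun q => Transfer.cosetCocycle ϕ u q * a)
  rw [e1, e2, Finset.prod_mul_distrib, ← Transfer.tr_apply, htr, Finset.prod_const, Finset.card_univ,
    ← Nat.card_eq_fintype_card, ← index, one_mul, one_mul] at e3
  have hH : ¬ 2 ∣ S.index := by
    rw [← relIndex_top_right]; exact h.syl.not_dvd
  obtain ⟨m, hm⟩ := Nat.odd_iff.2 (Nat.two_dvd_ne_zero.1 hH)
  rw [hm, pow_succ, pow_mul, pow_two, ha2, one_pow, one_mul] at e3
  exact ha1 e3.symm

end CfsgLib.J3O
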