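import Cfsg.Agent.Lib.J3O.Bas
import Cfsg.Agent.Lib.J3O.Tr

/-! B2.  `M = E ⟨t⟩`, `x ∈ S - M`, `α e = ⁅e, t⁆`, `β e = ⁅e, x⁆` are commuting endomorphisms of `E` (`x t x⁻¹` acts as `t`).  `N(S) ≤ N(E)` (uniq).
nz: if `x² ∉ E` then `x² ∈ E t`; `n x² n⁻¹ = (n x n⁻¹)² ∈ M - E`, so `n` normalises `M` and `V = E ⊓ C(x²)`; `z = ⁅v, x⁆`, `n z n⁻¹ = ⁅n v n⁻¹, n x n⁻¹⁆ ∈ {1, z}`.
If `x² ∈ E`: `Y = {e ∈ E : ⁅e, s⁆ ∈ ⟨z⟩ for all s ∈ S}` is a normal subgroup containing `V` and `d = β e` (`β d = 1`, `α d = β (α e) ∈ ⟨z⟩`); comm_le with `M`, `x`; fix_of_cls.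
nfix: `Z(S) = {1, z, u, u z}`, coset2 with `⊥ ≤ ⟨z⟩` and odd_pow.
cent: let `x ∉ M` centralise `t`.  `x² ∈ M` acts on `E` trivially or as `t`: `β β = 1` or `β β = α` (`β β e = e (x² e x⁻²)`).
(1) `x` centralises `W`: `β E ≤ V`, `β β E ≤ ⟨z⟩`, `|W| = 4`, so `β β = 1`.  `Y = V ⊓ C(x) = Z(S)` contains `W`, `β E`; comm_le (`⁅e t, x⁆ = β e`), not_cen.
(2) `β (α e0) = z`; `d = β e0`, `α d = z`, `d ∉ V`.  `Y = W ⟨d⟩`.  `V ⟨d⟩` has order 16, `e0 ∉ V ⟨d⟩` (`β α = 1` on it), so every `e ∈ E` is `v d^i e0^j`; `β v ∈ ⟨z⟩`, `β d ∈ {1, α e0} ⊆ W`: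
`β E ≤ Y`, `Y` is normal in `S`, comm_le.  `u ∈ Z(S) - ⟨z⟩`: `u ∈ V` so `u ∉ W d`; `u ∉ W`, else `W = Z(S)`.  t2 with `R = S`, nfix. -/

set_option autoImplicit false
set_option linter.unusedSectionVars false
set_option linter.unusedVariables false

namespace CfsgLib.J3O
open Subgroup Cfsg CfsgLib.Tech CfsgLib.ACT
open scoped commutatorElement

variable {G : Type*} [Group G] [Finite G]

namespace B2

theorem zp {z y : G} (h : z * z = 1) : y ∈ zpowers z ↔ y = 1 ∨ y = z := by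
  refine ⟨?_, by rintro (rfl | rfl); exacts [one_mem _, mem_zpowers _]⟩
  rintro ⟨k, rfl⟩
  have h2 : z ^ (2 : ℤ) = 1 := by rw [zpow_two, h]
  rcases Int.even_or_odd' k with ⟨j, rfl | rfl⟩
  · exact Or.inl (by simp [zpow_mul, h2])
  · exact Or.inr (by simp [zpow_add, zpow_mul, h2])

variable {S E V W : Subgroup G} {t z : G} (h : Bt S E V W t z)
include h

theorem iE {a : G} (ha : a ∈ E) : a⁻¹ = a := inv_eq_of_mul_eq_one_right (h.un.e.el a ha)

theorem cE {a b : G} (ha : a ∈ E) (hb : b ∈ E) : a * b = b * a := by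
  rw [← iE h (mul_mem ha hb), mul_inv_rev, iE h ha, iE h hb]

theorem VE : V ≤ E := fun v hv => ((h.memV v).1 hv).1

theorem z2 : z * z = 1 := h.un.e.el z (VE h (h.WV h.zW))

theorem MS : E ⊔ zpowers t ≤ S := sup_le h.un.e.le (zpowers_le.2 h.tS)

theorem idx : Nat.card S ≤ 2 * Nat.card (E ⊔ zpowers t : Subgroup G) := by rw [h.un.hy.card, h.cM]

theorem cjE {s e : G} (hs : s ∈ S) (he : e ∈ E) : s * e * s⁻¹ ∈ E := conj_mem_of_mem_normalizer (h.nE hs) he

theorem nmE {n : G} (hn : n ∈ Nm S) : n ∈ Nm E :=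
  mem_normalizer_iff_cj.2 (h.un.uniq _ ⟨cj_le_iff.2 fun x hx => conj_mem_of_mem_normalizer hn (h.un.e.le hx),
    by rintro _ ⟨a, ha, rfl⟩; rw [← map_mul, h.un.e.el a ha, map_one], (card_cj _ _).trans h.un.e.card⟩)

theorem cz {s y : G} (hs : s ∈ S) (hy : y ∈ zpowers z) : s * y * s⁻¹ = y := by
  rcases (zp (z2 h)).1 hy with rfl | rfl
  · simp
  · rw [h.zc s hs, mul_inv_cancel_right]

theorem dec {m : G} (hm : m * t ∈ E) : m = m * t * t := by rw [mul_assoc, h.t2, mul_one]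

theorem sqM {m : G} (hm : m ∈ E ⊔ zpowers t) : m * m ∈ E := by
  rcases (h.memM m).1 hm with e | e
  · exact mul_mem e e
  · have := mul_mem e (cjE h h.tS e)
    rwa [show m * t * (t * (m * t) * t⁻¹) = m * (t * t) * m by group, h.t2, mul_one] at this

theorem caseA {x n : G} (hx : x ∈ S) (hxM : x ∉ E ⊔ zpowers t) (h2 : x * x ∉ E) (hn : n ∈ Nm S) :
    n * z * n⁻¹ = z := by
  obtain ⟨v, hv, e⟩ := h.mov' x hx hxM
  have sq : ∀ y ∈ S, y * y ∉ E → y * y * t ∈ E := fun y hy h2 =>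
    ((h.memM _).1 (idx2_mul (MS h) (idx h) hy hy (fun e => h2 (sqM h e)) fun e => h2 (sqM h e))).resolve_left h2
  have hx' := conj_mem_of_mem_normalizer hn hx
  have h3 := sq _ hx' fun e => h2 (by
    have := conj_mem_of_mem_normalizer' (nmE h hn) e
    convert this using 1
    group)
  have hv' := conj_mem_of_mem_normalizer (nmE h hn) (VE h hv)
  have c1 : Commute v (x * x) := by
    rw [dec h (sq x hx h2)]
    exact Commute.mul_right (cE h (VE h hv) (sq x hx h2)) ((h.memV v).1 hv).2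
  have c2 : Commute (n * v * n⁻¹) (n * x * n⁻¹ * (n * x * n⁻¹)) := by
    rw [Commute, SemiconjBy, conj_mul, conj_mul, conj_mul, c1.eq]
  have c3 : Commute (n * v * n⁻¹) t := by
    have := c2.inv_right.mul_right (show Commute _ _ from cE h hv' h3)
    rwa [inv_mul_cancel_left] at this
  have e' : ⁅n * v * n⁻¹, n * x * n⁻¹⁆ = n * z * n⁻¹ := by rw [← e, commutatorElement_def, commutatorElement_def]; group
  refine (e' ▸ h.mov _ ((h.memV _).2 ⟨hv', c3⟩) _ hx').resolve_left fun e => h.z1 ?_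
  rwa [mul_inv_eq_one, mul_eq_left] at e

/-- the part of the second centre in `E` -/
def Y : Subgroup G where
  carrier := {e | e ∈ E ∧ ∀ s ∈ S, ⁅e, s⁆ ∈ zpowers z}
  one_mem' := ⟨one_mem _, fun s _ => by simp⟩
  mul_mem' := fun {a b} ha hb => ⟨mul_mem ha.1 hb.1, fun s hs => by
    have := mul_mem (hb.2 s hs) (ha.2 s hs)
    rw [← cz h (h.un.e.le ha.1) (hb.2 s hs)] at this
    convert this using 1
    simp only [commutatorElement_def]
    group⟩
  inv_mem' := fun {a} ha => by rwa [iE h ha.1]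

theorem VY : V ≤ Y h := fun v hv => ⟨VE h hv, fun s hs => (zp (z2 h)).2 (h.mov v hv s hs)⟩

theorem dY {x e : G} (hx : x ∈ S) (hxM : x ∉ E ⊔ zpowers t) (h2 : x * x ∈ E) (he : e ∈ E) : ⁅e, x⁆ ∈ Y h := by
  have cm : ∀ {a s : G}, a ∈ E → s ∈ S → ⁅a, s⁆ = a * (s * a * s⁻¹) := fun ha hs => by
    rw [commutatorElement_def, iE h ha]; group
  have hd : ⁅e, x⁆ ∈ E := cm he hx ▸ mul_mem he (cjE h hx he)
  have mul : ∀ s ∈ S, ∀ s', ⁅⁅e, x⁆, s⁆ ∈ zpowers z → ⁅⁅e, x⁆, s'⁆ ∈ zpowers z → ⁅⁅e, x⁆, s * s'⁆ ∈ zpowers z :=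
    fun s hs s' h1 h2 => by
      have := mul_mem h1 h2
      rw [← cz h hs h2] at this
      convert this using 1
      generalize ⁅e, x⁆ = d
      simp only [commutatorElement_def]
      group
  have one : ∀ s, ⁅e, x⁆ * s = s * ⁅e, x⁆ → ⁅⁅e, x⁆, s⁆ ∈ zpowers z := fun s e => by
    rw [commutatorElement_eq_one_iff_mul_comm.2 e]; exact one_mem _
  have kx : ⁅⁅e, x⁆, x⁆ ∈ zpowers z := one x (by
    rw [cm he hx]
    calc e * (x * e * x⁻¹) * x = x * e * x⁻¹ * (e * (x * x)) * x⁻¹ := by rw [cE h he (cjE h hx he)]; group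
      _ = _ := by rw [cE h he h2]; group)
  have kt : ⁅⁅e, x⁆, t⁆ ∈ zpowers z := by
    have hw : ⁅e, t⁆ ∈ V := h.WV ((h.memW _).2 ⟨e, he, rfl⟩)
    have e1 : x * (t * e * t⁻¹) * x⁻¹ = t * (x * e * x⁻¹) * t⁻¹ := by
      have c := cE h (VE h (h.tc x hx)) (cjE h h.tS (cjE h hx he))
      calc _ = ⁅x, t⁆ * (t * (x * e * x⁻¹) * t⁻¹) * ⁅x, t⁆⁻¹ := by rw [commutatorElement_def]; group
        _ = _ := by rw [c, mul_inv_cancel_right]
    have := (zp (z2 h)).2 (h.mov _ hw x hx)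
    rw [cm (VE h hw) hx, cm he h.tS, ← conj_mul, e1, mul_assoc, ← mul_assoc (t * e * t⁻¹),
      cE h (cjE h h.tS he) (cjE h hx he), mul_assoc (x * e * x⁻¹), conj_mul, ← mul_assoc] at this
    rwa [cm hd h.tS, cm he hx]
  have kM : ∀ s ∈ E ⊔ zpowers t, ⁅⁅e, x⁆, s⁆ ∈ zpowers z := fun s hs => by
    rcases (h.memM s).1 hs with e | e
    · exact one s (cE h hd e)
    · rw [dec h e]
      exact mul _ (h.un.e.le e) _ (one _ (cE h hd e)) kt
  refine ⟨hd, fun s hs => ?_⟩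
  by_cases hM : s ∈ E ⊔ zpowers t
  · exact kM s hM
  · have := idx2_mul (MS h) (idx h) hs (inv_mem hx) hM fun e => hxM (inv_mem_iff.1 e)
    rw [← inv_mul_cancel_right s x]
    exact mul _ (MS h this) _ (kM _ this) kx

theorem caseB {x n : G} (hx : x ∈ S) (hxM : x ∉ E ⊔ zpowers t) (h2 : x * x ∈ E) (hn : n ∈ Nm S) :
    n * z * n⁻¹ = z := by
  refine h.un.hy.fix_of_cls (fun a ha b hb c hc => (zp (z2 h)).1 ((comm_le (Y := Y h) (MS h) (idx h) hx hxM
    (fun s hs y hy => ⟨cjE h hs hy.1, fun s' hs' => ?_⟩) (fun a ha b hb => VY h (comm_le le_sup_left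
      (by rw [h.cM, h.un.e.card]) (mem_sup_right (mem_zpowers t)) h.tE
      (fun s hs y hy => conj_mem_of_mem_normalizer (h.nV (MS h hs)) hy) (fun a ha b hb => ?_)
      (fun a ha => h.WV ((h.memW _).2 ⟨a, ha, rfl⟩)) a ha b hb)) (fun a ha => ?_) a ha b hb).2 c hc)) hn
  · have := hy.2 _ (mul_mem (mul_mem (inv_mem hs) hs') hs)
    rw [← cz h hs this] at this
    convert this using 1
    simp only [commutatorElement_def]
    group
  · rw [commutatorElement_eq_one_iff_mul_comm.2 (cE h ha hb)]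
    exact one_mem _
  · rcases (h.memM a).1 ha with e | e
    · exact dY h hx hxM h2 e
    · have hv := inv_mem (h.tc x hx)
      have := mul_mem (VY h hv) (dY h hx hxM h2 e)
      rw [dec h e]
      convert this using 1
      rw [← mul_inv_cancel_right ⁅x, t⁆⁻¹ (a * t), ← cE h e (VE h hv)]
      simp only [commutatorElement_def]
      group

end B2

open B2

theorem Bt.nz {S E V W : Subgroup G} {t z : G} (h : Bt S E V W t z) {n : G} (hn : n ∈ Nm S) :
    n * z * n⁻¹ = z := by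
  obtain ⟨x, hx, hxM⟩ : ∃ x ∈ S, x ∉ E ⊔ zpowers t := by
    by_contra! hn
    have := card_le_of_le (show S ≤ E ⊔ zpowers t from hn)
    rw [h.un.hy.card, h.cM] at this
    omega
  by_cases h2 : x * x ∈ E
  exacts [caseB h hx hxM h2 hn, caseA h hx hxM h2 hn]

theorem Bt.nfix {S E V W : Subgroup G} {t z : G} (h : Bt S E V W t z) {n u : G} (hn : n ∈ Nm S)
    (hu : u ∈ S) (hc : u ∈ Ct S) : n * u * n⁻¹ = u := by
  have fz : ∀ y ∈ zpowers z, n * y * n⁻¹ = y := fun y hy => by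
    rcases (zp (z2 h)).1 hy with rfl | rfl
    exacts [by simp, h.nz hn]
  by_cases hz : u ∈ zpowers z
  · exact fz u hz
  have c2 : Nat.card (zpowers z) = 2 := by
    rw [Nat.card_zpowers, orderOf_eq_prime ((pow_two z).trans (z2 h)) h.z1]
  have nZ : n ∈ Nm (zpowers z) := mem_normalizer_of_forall fun y hy => by rwa [fz y hy]
  obtain ⟨m, hm, hS⟩ := h.un.hy.odd_pow hn
  have := coset2 (K := ⊥) (L := zpowers z) bot_le (by rw [c2, card_bot]) (by rw [Nm, normalizer_eq_top]; trivial) nZ hm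
    (hc _ hS) (idx2_mul (S := S ⊓ Ct S) (zpowers_le.2 ⟨h.un.e.le (VE h (h.WV h.zW)), h.zc⟩) (by rw [h.cZ, c2])
      (inv_mem (mem_inf.2 ⟨hu, hc⟩)) (mem_inf.2 ⟨conj_mem_of_mem_normalizer hn hu, fun s hs => by
        have := hc _ (conj_mem_of_mem_normalizer' hn hs)
        calc s * (n * u * n⁻¹) = n * (n⁻¹ * s * n * u) * n⁻¹ := by group
          _ = _ := by rw [this]; group⟩) (fun e => hz (inv_mem_iff.1 e)) fun e => hz (by
        have := conj_mem_of_mem_normalizer' nZ e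
        convert this using 1
        group))
  exact (inv_mul_eq_one.1 this).symm

end CfsgLib.J3O
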