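import Cfsg.Agent.Lib.J3O.B2

/-! B3.  The proof is in the header of `B2.lean` (cent). -/

set_option autoImplicit false
set_option linter.unusedSectionVars false
set_option linter.unusedVariables false

namespace CfsgLib.J3O
open Subgroup Cfsg CfsgLib.Tech CfsgLib.ACT
open scoped commutatorElement

variable {G : Type*} [Group G] [Finite G]

theorem b3_cm {E : Subgroup G} (hE : El E) {e : G} (he : e ∈ E) (x : G) : ⁅e, x⁆ = e * (x * e * x⁻¹) := by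
  rw [commutatorElement_def, inv_eq_of_mul_eq_one_right (hE e he)]; group

theorem b3_mem {E : Subgroup G} (hE : El E) {e x : G} (he : e ∈ E) (hx : x ∈ Nm E) : ⁅e, x⁆ ∈ E := by
  rw [b3_cm hE he]; exact mul_mem he (conj_mem_of_mem_normalizer hx he)

theorem b3_mul {E : Subgroup G} (hE : El E) {a b x : G} (ha : a ∈ E) (hb : b ∈ E) (hx : x ∈ Nm E) :
    ⁅a * b, x⁆ = ⁅a, x⁆ * ⁅b, x⁆ := by
  rw [b3_cm hE (mul_mem ha hb), b3_cm hE ha, b3_cm hE hb]
  calc a * b * (x * (a * b) * x⁻¹) = a * (b * (x * a * x⁻¹)) * (x * b * x⁻¹) := by group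
    _ = _ := by rw [hE.ab b hb _ (conj_mem_of_mem_normalizer hx ha)]; group

theorem b3_swap {E : Subgroup G} (hE : El E) {e x t : G} (he : e ∈ E) (hx : x ∈ Nm E) (ht : t ∈ Nm E)
    (hc : x * t = t * x) : ⁅⁅e, x⁆, t⁆ = ⁅⁅e, t⁆, x⁆ := by
  rw [b3_cm hE (b3_mem hE he hx), b3_cm hE (b3_mem hE he ht), b3_cm hE he, b3_cm hE he]
  calc e * (x * e * x⁻¹) * (t * (e * (x * e * x⁻¹)) * t⁻¹)
      = e * ((x * e * x⁻¹) * (t * e * t⁻¹)) * ((t * x) * e * (t * x)⁻¹) := by group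
    _ = e * ((t * e * t⁻¹) * (x * e * x⁻¹)) * ((x * t) * e * (x * t)⁻¹) := by
      rw [hE.ab _ (conj_mem_of_mem_normalizer hx he) _ (conj_mem_of_mem_normalizer ht he), hc]
    _ = _ := by group

theorem b3_sq {E : Subgroup G} (hE : El E) {e x : G} (he : e ∈ E) (hx : x ∈ Nm E) : ⁅⁅e, x⁆, x⁆ = ⁅e, x * x⁆ := by
  rw [b3_cm hE (b3_mem hE he hx), b3_cm hE he, b3_cm hE he]
  calc e * (x * e * x⁻¹) * (x * (e * (x * e * x⁻¹)) * x⁻¹)
      = e * ((x * e * x⁻¹) * (x * e * x⁻¹)) * ((x * x) * e * (x * x)⁻¹) := by group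
    _ = _ := by rw [hE _ (conj_mem_of_mem_normalizer hx he), mul_one]

theorem b3_left {E : Subgroup G} (hE : El E) {e a : G} (he : e ∈ E) (ha : a ∈ E) {t : G} (ht : t ∈ Nm E) :
    ⁅e, a * t⁆ = ⁅e, t⁆ := by
  rw [b3_cm hE he, b3_cm hE he]
  calc e * (a * t * e * (a * t)⁻¹) = e * (a * (t * e * t⁻¹) * a⁻¹) := by group
    _ = _ := by rw [hE.ab a ha _ (conj_mem_of_mem_normalizer ht he), mul_inv_cancel_right]

theorem Bt.cent {S E V W : Subgroup G} {t z : G} (h : Bt S E V W t z) {x : G} (hx : x ∈ S)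
    (hc : x * t = t * x) : x ∈ E ⊔ zpowers t := by
  by_contra hxM
  have hE := h.un.e.el
  have hy := h.un.hy
  have xN := h.nE hx
  have tN := h.nE h.tS
  have VE : V ≤ E := fun v hv => ((h.memV v).1 hv).1
  have WE : W ≤ E := h.WV.trans VE
  have MS : E ⊔ zpowers t ≤ S := sup_le h.un.e.le (zpowers_le.2 h.tS)
  have cS : Nat.card S ≤ 2 * Nat.card (E ⊔ zpowers t : Subgroup G) := by rw [h.cM, hy.card]
  have tt : ∀ m : G, m * t * t = m := fun m => by rw [mul_assoc, h.t2, mul_one]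
  have mV : ∀ e ∈ E, e ∈ V ↔ ⁅e, t⁆ = 1 := fun e he => by
    rw [h.memV, commutatorElement_eq_one_iff_mul_comm, and_iff_right he]
  have aW : ∀ e ∈ E, ⁅e, t⁆ ∈ W := fun e he => (h.memW _).2 ⟨e, he, rfl⟩
  have MW : ∀ a ∈ E ⊔ zpowers t, ∀ b ∈ E ⊔ zpowers t, ⁅a, b⁆ ∈ W :=
    comm_le le_sup_left (by rw [h.cM, h.un.e.card]) (mem_sup_right (mem_zpowers t)) h.tE
      (fun s hs y hy => conj_mem_of_mem_normalizer (h.nW (MS hs)) hy)
      (fun a ha b hb => by rw [commutatorElement_eq_one_iff_mul_comm.2 (hE.ab a ha b hb)]; exact one_mem W) aW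
  -- the commutators with `x`
  have Mx : ∀ Y : Subgroup G, (∀ e ∈ E, ⁅e, x⁆ ∈ Y) → ∀ a ∈ E ⊔ zpowers t, ⁅a, x⁆ ∈ Y := fun Y hY a ha => by
    rcases (h.memM a).1 ha with e | e
    · exact hY a e
    · have : ⁅a, x⁆ = ⁅a * t, x⁆ := by
        simp only [commutatorElement_def]
        rw [mul_assoc a t, ← hc]; group
      exact this ▸ hY _ e
  have bb : (∀ e ∈ E, ⁅⁅e, x⁆, x⁆ = 1) ∨ ∀ e ∈ E, ⁅⁅e, x⁆, x⁆ = ⁅e, t⁆ := by
    rcases (h.memM _).1 (idx2_mul MS cS hx hx hxM hxM) with e | e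
    · exact Or.inl fun a ha => by rw [b3_sq hE ha xN, commutatorElement_eq_one_iff_mul_comm.2 (hE.ab a ha _ e)]
    · exact Or.inr fun a ha => by rw [b3_sq hE ha xN, ← b3_left hE ha e tN, tt]
  have zx : ⁅z, x⁆ = 1 := commutatorElement_eq_one_iff_mul_comm.2 (mem_centralizer_iff.1 h.zc x hx).symm
  have z2 : z * z = 1 := hE z (WE h.zW)
  have not2 : ∀ A : Subgroup G, Nat.card A = 4 → ∃ u ∈ A, u ≠ 1 ∧ u ≠ z := fun A hA => by
    by_contra hn
    push Not at hn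
    have : A ≤ zpowers z := fun u hu => by
      by_cases e : u = 1
      · exact e ▸ one_mem _
      · exact hn u hu e ▸ mem_zpowers _
    have := card_le_of_le this
    rw [hA, Nat.card_zpowers, ord_two z2 h.z1] at this
    omega
  by_cases c1 : ∀ e ∈ E, ⁅⁅e, t⁆, x⁆ = 1
  · have bV : ∀ e ∈ E, ⁅e, x⁆ ∈ V := fun e he =>
      (mV _ (b3_mem hE he xN)).2 (by rw [b3_swap hE he xN tN hc, c1 e he])
    have b1 : ∀ e ∈ E, ⁅⁅e, x⁆, x⁆ = 1 := bb.resolve_right fun hb => by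
      obtain ⟨u, hu, h1, h2⟩ := not2 W h.cW
      obtain ⟨e, he, rfl⟩ := (h.memW u).1 hu
      exact (h.mov _ (bV e he) x hx).elim (fun e' => h1 (hb e he ▸ e')) fun e' => h2 (hb e he ▸ e')
    have cen : ∀ v ∈ V, ⁅v, x⁆ = 1 → v ∈ S ⊓ Ct S := fun v hv hvx => by
      have k : E ⊔ zpowers t ≤ Cx v := sup_le
        (fun e he => mem_centralizer_singleton_iff.2 (hE.ab e he v (VE hv)))
        (zpowers_le.2 (mem_centralizer_singleton_iff.2 ((h.memV v).1 hv).2.symm))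
      have kx : x ∈ Cx v := mem_centralizer_singleton_iff.2 (commutatorElement_eq_one_iff_mul_comm.1 hvx).symm
      refine ⟨h.un.e.le (VE hv), mem_centralizer_iff.2 fun s hs => mem_centralizer_singleton_iff.1 ?_⟩
      by_cases e : s ∈ E ⊔ zpowers t
      · exact k e
      · exact (Subgroup.mul_mem_cancel_right _ kx).1 (k (idx2_mul MS cS hs hx e hxM))
    refine hy.not_cen (Y := S ⊓ Ct S) (comm_le MS cS hx hxM (fun s hs y hy => ?_) (fun a ha b hb => ?_)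
      (Mx _ fun e he => cen _ (bV e he) (b1 e he))) inf_le_right
    · rwa [mem_centralizer_iff.1 hy.2 s hs, mul_inv_cancel_right]
    · obtain ⟨e, he, e'⟩ := (h.memW _).1 (MW a ha b hb)
      exact cen _ (h.WV (MW a ha b hb)) (e' ▸ c1 e he)
  push Not at c1
  obtain ⟨e0, he0, c1⟩ := c1
  have c2 : ⁅⁅e0, t⁆, x⁆ = z := (h.mov _ (h.WV (aW e0 he0)) x hx).resolve_left c1
  obtain ⟨d, hd⟩ : ∃ d, d = ⁅e0, x⁆ := ⟨_, rfl⟩
  have dE : d ∈ E := hd ▸ b3_mem hE he0 xN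
  have ad : ⁅d, t⁆ = z := by rw [hd, b3_swap hE he0 xN tN hc, c2]
  have dV : d ∉ V := fun e => h.z1 (ad ▸ (mV d dE).1 e)
  have d2 := hE d dE
  obtain ⟨cV1, mV1⟩ := card_sup_zp (h.nV (h.un.e.le dE)) dV (d2 ▸ one_mem V)
  obtain ⟨-, mY⟩ := card_sup_zp (h.nW (h.un.e.le dE)) (fun e => dV (h.WV e)) (d2 ▸ one_mem W)
  have dd : ∀ m : G, m * d * d = m := fun m => by rw [mul_assoc, d2, mul_one]
  have V1E : V ⊔ zpowers d ≤ E := sup_le VE (zpowers_le.2 dE)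
  have YE : W ⊔ zpowers d ≤ E := sup_le WE (zpowers_le.2 dE)
  have e0V : e0 ∉ V ⊔ zpowers d := fun e => c1 (by
    rcases (mV1 e0).1 e with e | e
    · rw [(mV e0 he0).1 e, commutatorElement_one_left]
    · rw [← dd e0, b3_mul hE (VE e) dE tN, (mV _ (VE e)).1 e, one_mul, ad, zx])
  have bV : ∀ v ∈ V, ⁅v, x⁆ ∈ W := fun v hv =>
    (h.mov v hv x hx).elim (fun e => e ▸ one_mem W) fun e => e ▸ h.zW
  have bd : ⁅d, x⁆ ∈ W := hd ▸ bb.elim (fun e => e e0 he0 ▸ one_mem W) fun e => e e0 he0 ▸ aW e0 he0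
  have bV1 : ∀ m ∈ V ⊔ zpowers d, ⁅m, x⁆ ∈ W := fun m hm => by
    rcases (mV1 m).1 hm with e | e
    · exact bV m e
    · rw [← dd m, b3_mul hE (VE e) dE xN]; exact mul_mem (bV _ e) bd
  have bE : ∀ e ∈ E, ⁅e, x⁆ ∈ W ⊔ zpowers d := fun e he => (mY _).2 (by
    by_cases e' : e ∈ V ⊔ zpowers d
    · exact Or.inl (bV1 e e')
    · right
      rw [hd, ← b3_mul hE he he0 xN]
      exact bV1 _ (idx2_mul V1E (by rw [cV1, h.cV, h.un.e.card]) he he0 e' e0V))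
  have nm : ∀ s : G, (∀ y ∈ W ⊔ zpowers d, ⁅y, s⁆ ∈ W ⊔ zpowers d) → s ∈ Nm (W ⊔ zpowers d) := fun s hs =>
    mem_normalizer_of_forall fun y hy => (Subgroup.mul_mem_cancel_left _ hy).1 (b3_cm hE (YE hy) s ▸ hs y hy)
  have nM : E ⊔ zpowers t ≤ Nm (W ⊔ zpowers d) := fun s hs =>
    nm s fun y hy => mem_sup_left (MW y (mem_sup_left (YE hy)) s hs)
  have nx : x ∈ Nm (W ⊔ zpowers d) := nm x fun y hy => bE y (YE hy)
  have hY := comm_le (Y := W ⊔ zpowers d) MS cS hx hxM (fun s hs y hy => conj_mem_of_mem_normalizer (by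
      by_cases e : s ∈ E ⊔ zpowers t
      · exact nM e
      · exact (Subgroup.mul_mem_cancel_right _ nx).1 (nM (idx2_mul MS cS hs hx e hxM))) hy)
    (fun a ha b hb => mem_sup_left (MW a ha b hb)) (Mx _ bE)
  obtain ⟨u, hu, u1, uz⟩ := not2 _ h.cZ
  have uV := h.ZV hu
  have u2 := hE u (VE uV)
  have uY : u ∉ W ⊔ zpowers d := fun e => by
    rcases (mY u).1 e with e | e
    · obtain ⟨-, k, -⟩ := bas_four (ord_two u2 u1) (ord_two z2 h.z1) uz (hE.ab u (VE uV) z (WE h.zW))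
      have k1 : zpowers u ⊔ zpowers z = W :=
        eq_of_le_of_card_ge (sup_le (zpowers_le.2 e) (zpowers_le.2 h.zW)) (by rw [k, h.cW])
      have k2 : W ≤ Ct S := k1 ▸ sup_le (zpowers_le.2 hu.2) (zpowers_le.2 h.zc)
      exact c1 (commutatorElement_eq_one_iff_mul_comm.2 (mem_centralizer_iff.1 (k2 (aW e0 he0)) x hx).symm)
    · exact dV ((Subgroup.mul_mem_cancel_left _ uV).1 (h.WV e))
  obtain ⟨g, -, g1, g2⟩ := hy.t2 hY hu.1 uY u2 hy.two
    fun s hs => mem_centralizer_singleton_iff.2 (mem_centralizer_iff.1 hu.2 s hs)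
  rw [h.nfix (mem_normalizer_of_cj_le g1) hu.1 hu.2, inv_mul_cancel] at g2
  exact g2 (one_mem _)

end CfsgLib.J3O
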