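import Cfsg.Agent.Lib.J3O.B1
import Cfsg.Agent.Lib.J3O.B3

/-! B4.  `F = V ⟨t⟩` is elementary of order 16, normal in `S` (nV, tc), `S ⊓ C(t) = F` (cent, memM, memV).
trans: `x ∈ S - M`, `x t x⁻¹ = v0 t`; `v0 ∉ W` (else `v0 = ⁅e, t⁆` and `e⁻¹ x` centralises `t`), `V = W ∪ v0 W`.
exists_h: `t = g e g⁻¹`, `e ∈ E`.  `F ≤ C(t)`; `T` Sylow in `C(e)` containing `E`, `cj (c g⁻¹) F ≤ T` with `c ∈ C(e)`, `cj k T ≤ S`, `cj k E = E` (uniq); `h = k c g⁻¹`:
`F' = cj h F ≤ S`, `h t h⁻¹ ∈ E`.  `F' ≰ E`: else `cj h⁻¹ E ≤ C(F)`; `S` is Sylow in `N(F)`, a conjugate of `cj h⁻¹ E` by `N(F)` lies in `S ⊓ C(F) ≤ F`, `32 ≤ 16`.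
`t' ∈ F' - E`, frame `V', W', z'`; `F' ≤ S ⊓ C(t') = V' ⟨t'⟩`, equal by orders, so `F'` is normal in `S`; conj_norm: `n ∈ N(S)`, `cj n F = F'`; `n⁻¹ h ∈ N(F)` maps `t` into `E ⊓ F = V`.
false: nsc for `E` gives `t`.  `H = N(F)`, `U = {v ∈ F : all H-conjugates lie in V}` is a subgroup of `V`; `F - U` is the `H`-class of `t` (trans).
Two distinct elements of `Z(S)#` outside `U` would be conjugate (burnside + nfix: equal), so `Z(S) ≤ U`; `v = h t h⁻¹ ∈ V - U`, so `|U| = 4`.  The class of `v` has 12 elements,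
`12 |C_H(v)| = |H|`, `M ≤ C_H(v)` has order 64, so `256 ∣ |G|`; but `|G| = 128 · odd`. -/

set_option autoImplicit false
set_option linter.unusedSectionVars false
set_option linter.unusedVariables false

namespace CfsgLib.J3O
open Subgroup Cfsg CfsgLib.Tech CfsgLib.ACT
open scoped commutatorElement

variable {G : Type*} [Group G] [Finite G]

theorem b4_orb {S : Subgroup G} {v : G} {C : Set G} (hc : ∀ s ∈ S, s * v * s⁻¹ ∈ C)
    (hs : ∀ c ∈ C, ∃ s ∈ S, s * v * s⁻¹ = c) : Nat.card S = Nat.card ↥(S ⊓ Cx v) * Nat.card C := by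
  rw [Sect.card_eq_relIndex (Cx v) S, inf_comm]
  congr 1
  refine le_antisymm (Sect.index_le S _ (fun s => s * v * s⁻¹) C hc fun a _ b _ e =>
    mem_centralizer_singleton_iff.2 ?_) ?_
  · calc a⁻¹ * b * v = a⁻¹ * (b * v * b⁻¹) * b := by group
      _ = _ := by rw [← show a * v * a⁻¹ = b * v * b⁻¹ from e]; group
  choose σ h1 h2 using fun z : C => hs z z.2
  refine Nat.card_le_card_of_injective
    (fun z : C => ((⟨σ z, h1 z⟩ : S) : S ⧸ (Cx v).subgroupOf S)) fun a b e => Subtype.ext ?_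
  have e1 : (σ a)⁻¹ * σ b * v = v * ((σ a)⁻¹ * σ b) :=
    mem_centralizer_singleton_iff.1 (mem_subgroupOf.1 (QuotientGroup.eq.1 e))
  rw [← h2, ← h2]
  calc σ a * v * (σ a)⁻¹ = σ a * (v * ((σ a)⁻¹ * σ b)) * (σ b)⁻¹ := by group
    _ = _ := by rw [← e1]; group

theorem b4_el {A : Subgroup G} (h : El A) (g : G) : El (cj g A) := by
  rintro _ ⟨x, hx, rfl⟩
  rw [← map_mul, h x hx, map_one]

theorem Un.b4_cj {S E : Subgroup G} (h : Un S E) {k : G} (hk : cj k E ≤ S) : k ∈ Nm E :=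
  mem_normalizer_iff_cj.2 (h.uniq _ ⟨hk, b4_el h.e.el k, (card_cj _ _).trans h.e.card⟩)

theorem Bt.cent_iff {S E V W : Subgroup G} {t z : G} (h : Bt S E V W t z) :
    El (V ⊔ zpowers t) ∧ Nat.card (V ⊔ zpowers t : Subgroup G) = 16 ∧ S ≤ Nm (V ⊔ zpowers t) ∧
      (∀ f, f ∈ V ⊔ zpowers t ↔ f ∈ V ∨ f * t ∈ V) ∧
      ∀ s ∈ S, s * t = t * s → s ∈ V ⊔ zpowers t := by
  have tV : t ∈ Ct V := fun v hv => ((h.memV v).1 hv).2
  obtain ⟨c, mem⟩ := card_sup_zp (ct_le_nm _ tV) (fun e => h.tE ((h.memV t).1 e).1) (by rw [h.t2]; exact one_mem _)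
  refine ⟨el_sup_zp (fun v hv => h.un.e.el v ((h.memV v).1 hv).1) tV h.t2, by rw [c, h.cV],
    fun s hs => mem_normalizer_of_cj_le ?_, mem, fun s hs e => (mem s).2 ?_⟩
  · rw [cj_sup, cj_zpowers, mem_normalizer_iff_cj.1 (h.nV hs)]
    refine sup_le le_sup_left (zpowers_le.2 ?_)
    rw [← inv_mul_cancel_right (s * t * s⁻¹) t]
    exact mul_mem (mem_sup_left (h.tc s hs)) (mem_sup_right (mem_zpowers t))
  · exact ((h.memM s).1 (h.cent hs e)).imp (fun k => (h.memV _).2 ⟨k, e⟩) fun k =>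
      (h.memV _).2 ⟨k, by rw [← mul_assoc, ← e]⟩

theorem Bt.trans {S E V W : Subgroup G} {t z : G} (h : Bt S E V W t z) {v : G} (hv : v ∈ V) :
    ∃ s ∈ S, s * t * s⁻¹ = v * t := by
  have ct : ∀ s : G, s * t * s⁻¹ = ⁅s, t⁆ * t := fun s => by rw [commutatorElement_def, inv_mul_cancel_right]
  have ES := h.un.e.le
  by_cases hw : v ∈ W
  · obtain ⟨e, he, rfl⟩ := (h.memW v).1 hw
    exact ⟨e, ES he, ct e⟩
  obtain ⟨x, xS, xM⟩ : ∃ x ∈ S, x ∉ E ⊔ zpowers t := by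
    by_contra hn
    push Not at hn
    have := card_le_of_le (show S ≤ E ⊔ zpowers t from hn)
    rw [h.cM, h.un.hy.card] at this
    omega
  have v0 := h.tc x xS
  obtain ⟨e, he, k⟩ := (h.memW _).1 (idx2_mul h.WV (by rw [h.cV, h.cW]) v0 hv (fun k => by
    obtain ⟨e, he, k⟩ := (h.memW _).1 k
    refine xM ((mul_mem_cancel_left (inv_mem (mem_sup_left he))).1 (h.cent (mul_mem (inv_mem (ES he)) xS) ?_))
    calc e⁻¹ * x * t = e⁻¹ * (x * t * x⁻¹) * x := by group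
      _ = _ := by rw [ct, k, ← ct]; group) hw)
  have v1 := ((h.memV _).1 v0).1
  refine ⟨e * x, mul_mem (ES he) xS, ?_⟩
  rw [show e * x * t * (e * x)⁻¹ = e * (x * t * x⁻¹) * e⁻¹ by group, ct x, ← conj_mul, ct e, ← k,
    h.un.e.el.ab e he _ v1, mul_inv_cancel_right, ← mul_assoc, ← mul_assoc, h.un.e.el _ v1, one_mul]

theorem Bt.exists_h {S E V W : Subgroup G} {t z : G} (h : Bt S E V W t z) {e g : G} (he : e ∈ E)
    (ht : t = g * e * g⁻¹) : ∃ k ∈ Nm (V ⊔ zpowers t), k * t * k⁻¹ ∈ V := by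
  have := Fact.mk Nat.prime_two
  obtain ⟨el, cF, nF, -, cen⟩ := h.cent_iff
  set F := V ⊔ zpowers t with hF
  have tF : t ∈ F := mem_sup_right (mem_zpowers t)
  obtain ⟨T, hT, ET⟩ := exists_isSylowIn_ge (H := Cx e) h.un.e.el.two fun a ha =>
    mem_centralizer_singleton_iff.2 (h.un.e.el.ab a ha e he)
  obtain ⟨c, hc, h1⟩ := hT.exists_cj_le (isPGroup_cj g⁻¹ el.two) (by
    rw [show e = g⁻¹ * t * g⁻¹⁻¹ by rw [ht]; group, Cx, ← cj_centralizer_singleton]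
    exact cj_mono _ fun f hf => mem_centralizer_singleton_iff.2 (el.ab f hf t tF))
  obtain ⟨k, hk⟩ := h.un.hy.conj_le hT.pgroup
  have kE := h.un.b4_cj ((cj_mono k ET).trans hk)
  have FS : cj (k * (c * g⁻¹)) F ≤ S := by rw [cj_mul, cj_mul]; exact (cj_mono k h1).trans hk
  have tE : k * (c * g⁻¹) * t * (k * (c * g⁻¹))⁻¹ ∈ E := by
    rw [ht, show k * (c * g⁻¹) * (g * e * g⁻¹) * (k * (c * g⁻¹))⁻¹ = k * (c * e * c⁻¹) * k⁻¹ by group,
      mem_centralizer_singleton_iff.1 hc, mul_inv_cancel_right]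
    exact conj_mem_of_mem_normalizer kE he
  generalize k * (c * g⁻¹) = a at FS tE
  obtain ⟨t', h2, h3⟩ : ∃ t' ∈ cj a F, t' ∉ E := by
    by_contra hn
    push Not at hn
    have h4 : cj a⁻¹ E ≤ Ct F := by
      rw [← cj_inv_cj a F, Ct, ← cj_centralizer]
      exact cj_mono _ fun y hy f hf => h.un.e.el.ab f (hn f hf) y hy
    obtain ⟨n, hn, h5⟩ := (h.un.hy.syl.of_le nF le_top).exists_cj_le (isPGroup_cj a⁻¹ h.un.e.el.two)
      (h4.trans (ct_le_nm _))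
    have h6 := cj_mono n h4
    rw [cj_centralizer, mem_normalizer_iff_cj.1 hn] at h6
    have := card_le_of_le (show cj n (cj a⁻¹ E) ≤ F from fun y hy => cen y (h5 hy) (h6 hy t tF).symm)
    rw [card_cj, card_cj, h.un.e.card, cF] at this
    omega
  obtain ⟨V', W', z', h'⟩ := h.un.frame (FS h2) h3 (b4_el el a t' h2)
  obtain ⟨-, cF', nF', -, cen'⟩ := h'.cent_iff
  have e1 : cj a F = V' ⊔ zpowers t' := eq_of_le_of_card_ge
    (fun y hy => cen' y (FS hy) ((b4_el el a).ab y hy t' h2)) (by rw [cF', card_cj, cF])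
  obtain ⟨n, hn, e2⟩ := h.un.hy.conj_norm nF (g := a) (e1 ▸ nF')
  have h4 : n⁻¹ * a ∈ Nm F := by rw [mem_normalizer_iff_cj, cj_mul, ← e2, cj_inv_cj]
  refine ⟨_, h4, (h.memV _).2 ⟨?_, el.ab _ (conj_mem_of_mem_normalizer h4 tF) t tF⟩⟩
  rw [show n⁻¹ * a * t * (n⁻¹ * a)⁻¹ = n⁻¹ * (a * t * a⁻¹) * n by group]
  exact conj_mem_of_mem_normalizer' (h.un.b4_cj ((cj_mono n h.un.e.le).trans (mem_normalizer_iff_cj.1 hn).le)) tE

theorem Un.false {S E : Subgroup G} (h : Un S E) : False := by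
  have := Fact.mk Nat.prime_two
  obtain ⟨a, ha, g, tS, tE⟩ := h.hy.nsc E h.e.le (fun e => by simpa [e] using h.e.card) h.e.el.ab
  obtain ⟨V, W, z, b⟩ := h.frame tS tE (by rw [conj_mul, h.e.el a ha, mul_one, mul_inv_cancel])
  obtain ⟨k, hk, kV⟩ := b.exists_h ha rfl
  generalize g * a * g⁻¹ = t at b hk kV tS tE
  obtain ⟨el, cF, nF, mem, -⟩ := b.cent_iff
  set F := V ⊔ zpowers t with hF
  have tF : t ∈ F := mem_sup_right (mem_zpowers t)
  obtain ⟨U, mU⟩ : ∃ U : Subgroup G, ∀ v, v ∈ U ↔ ∀ k ∈ Nm F, k * v * k⁻¹ ∈ V :=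
    ⟨⨅ k ∈ Nm F, V.comap (MulAut.conj k).toMonoidHom, fun v => by simp [mem_iInf]⟩
  have UV : U ≤ V := fun v hv => by simpa using (mU v).1 hv 1 (one_mem _)
  have nU : ∀ k ∈ Nm F, k * t * k⁻¹ ∉ U := fun k hk e => tE ((b.memV t).1 (by
    simpa [mul_assoc] using (mU _).1 e _ (inv_mem hk))).1
  have cls : ∀ f ∈ F, f ∉ U → ∃ k ∈ Nm F, k * t * k⁻¹ = f := fun f hf hn => by
    obtain ⟨k, hk, e⟩ : ∃ k ∈ Nm F, k * f * k⁻¹ ∉ V := by simpa [mU] using hn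
    obtain ⟨s, hs, e1⟩ := b.trans (((mem _).1 (conj_mem_of_mem_normalizer hk hf)).resolve_left e)
    rw [mul_assoc _ t t, b.t2, mul_one] at e1
    exact ⟨k⁻¹ * s, mul_mem (inv_mem hk) (nF hs), by
      rw [show k⁻¹ * s * t * (k⁻¹ * s)⁻¹ = k⁻¹ * (s * t * s⁻¹) * k by group, e1]; group⟩
  have ZU : S ⊓ Ct S ≤ U := fun u hu => by
    by_contra hn
    have key : ∀ y ∈ S ⊓ Ct S, y ∉ U → y = u := fun y hy hn' => by
      obtain ⟨c, -, e1⟩ := cls u (mem_sup_left (b.ZV hu)) hn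
      obtain ⟨d, -, e2⟩ := cls y (mem_sup_left (b.ZV hy)) hn'
      obtain ⟨n, h1, h2⟩ := h.hy.burnside hu.1 hu.2 (t := y) (g0 := d * c⁻¹) (by rw [← e1, ← e2]; group) hy.2
      rw [← h2, b.nfix h1 hy.1 hy.2]
    have sub : ((S ⊓ Ct S : Subgroup G) : Set G) ⊆ {1, u} := fun y hy => by
      by_cases h1 : y ∈ U
      · exact Or.inl (mul_eq_left.1 (key _ (mul_mem hu hy) (by rwa [mul_mem_cancel_right h1])))
      · exact Or.inr (key y hy h1)
    have e := (Set.ncard_le_ncard sub).trans (Set.ncard_insert_le 1 {u})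
    rw [Set.ncard_singleton] at e
    have e2 : Nat.card (S ⊓ Ct S : Subgroup G) = ((S ⊓ Ct S : Subgroup G) : Set G).ncard := rfl
    have := b.cZ
    omega
  have cU : Nat.card U = 4 := by
    have h1 := card_le_of_le ZU
    have h2 := card_le_of_le UV
    have h3 : Nat.card U ≠ 8 := fun e => nU k hk ((eq_of_le_of_card_ge UV (by rw [e, b.cV])).ge kV)
    rw [b.cZ] at h1
    rw [b.cV] at h2
    have := h.hy.card_cases (UV.trans fun v hv => h.e.le ((b.memV v).1 hv).1)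
    omega
  have orb := b4_orb (S := Nm F) (v := k * t * k⁻¹) (C := (F : Set G) \ U) (fun s hs => by
    rw [show s * (k * t * k⁻¹) * s⁻¹ = s * k * t * (s * k)⁻¹ by group]
    exact ⟨conj_mem_of_mem_normalizer (mul_mem hs hk) tF, nU _ (mul_mem hs hk)⟩) fun c hc => by
      obtain ⟨s, hs, e⟩ := cls c hc.1 hc.2
      exact ⟨s * k⁻¹, mul_mem hs (inv_mem hk), by rw [← e]; group⟩
  rw [Nat.card_coe_set_eq, Set.ncard_diff (show (U : Set G) ⊆ F from UV.trans le_sup_left),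
    show (F : Set G).ncard = 16 from cF, show (U : Set G).ncard = 4 from cU] at orb
  have MS : E ⊔ zpowers t ≤ S := sup_le h.e.le (zpowers_le.2 tS)
  obtain ⟨v1, v2⟩ := (b.memV _).1 kV
  obtain ⟨c, hc⟩ := card_dvd_of_le (show E ⊔ zpowers t ≤ Nm F ⊓ Cx (k * t * k⁻¹) from le_inf (MS.trans nF) (sup_le
    (fun e he => mem_centralizer_singleton_iff.2 (h.e.el.ab e he _ v1))
    (zpowers_le.2 (mem_centralizer_singleton_iff.2 v2.symm))))
  have e := (h.hy.syl.of_le nF le_top).card_eq_pow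
  have e2 : 8 ≤ (Nat.card (Nm F)).factorization 2 :=
    (Nat.prime_two.pow_dvd_iff_le_factorization Nat.card_pos.ne').1 ⟨c * 3, by rw [orb, hc, b.cM]; ring⟩
  have := Nat.pow_le_pow_right two_pos e2
  rw [← e, h.hy.card] at this
  omega

end CfsgLib.J3O
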