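import Cfsg.Agent.Lib.J3O.Defs

/-! BAS.  Sylow theory and subgroups of index two.
extremal: `S` is Sylow in `C(z)`; conjugate `C_S(t)` by `g0⁻¹` into `C(z)`, then by `c ∈ C(z)` into `S`.
burnside: extremal, `cj g S ≤ S`.  conj_norm: `S` and `cj g⁻¹ S` are Sylow in `N(E)`.
odd_pow: `ACT.exists_two_part`, a 2-element of `N(S)` lies in `S`.
comm_le: every element of `S` is `a` or `a x`; `⁅a x, b⁆`, `⁅a x, b x⁆` expand (or: `S / (Y ⊓ S)` is commutative).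
coset2: `d = y⁻¹ y^r ∈ L`, `y^(r^i) = y d d^r ⋯`; if `d ∉ K` then `y⁻¹ y^(r^i) ∈ L`, and it is in `K` iff `i` is even (induction).
not_ab: `x ∈ S - A`, `y = ⁅a, x⁆ = a (x a⁻¹ x⁻¹)`, `x y x⁻¹ = y⁻¹`, `y² = ⁅a², x⁆ = 1`, so all `⁅a, x⁆` are central: comm_le, not_cen.
If `|A| = 128` in no64 then `S` is abelian.  one_of_syl: in `N(E) / C(E)` the images of `a, b` generate a 2-group, which is conjugate into the image of `T`. -/

set_option autoImplicit false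
set_option linter.unusedSectionVars false
set_option linter.unusedVariables false

namespace CfsgLib.J3O
open Subgroup Cfsg CfsgLib.Tech CfsgLib.ACT
open scoped commutatorElement

variable {G : Type*} [Group G] [Finite G]

theorem Hy.two {S : Subgroup G} (h : Hy S) : IsPGroup 2 S := by
  exact h.syl.pgroup

theorem Hy.conj_le {S R : Subgroup G} (h : Hy S) (hR : IsPGroup 2 R) : ∃ g : G, cj g R ≤ S := by
  obtain ⟨g, -, hg⟩ := h.syl.exists_cj_le hR le_top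
  exact ⟨g, hg⟩

/-- the order of a subgroup of `S` -/
theorem Hy.card_cases {S A : Subgroup G} (h : Hy S) (hA : A ≤ S) :
    Nat.card A = 1 ∨ Nat.card A = 2 ∨ Nat.card A = 4 ∨ Nat.card A = 8 ∨ Nat.card A = 16 ∨
      Nat.card A = 32 ∨ Nat.card A = 64 ∨ Nat.card A = 128 := by
  have h1 := card_dvd_of_le hA
  rw [h.card, show 128 = 2 ^ 7 from rfl, Nat.dvd_prime_pow Nat.prime_two] at h1
  obtain ⟨i, hi, e⟩ := h1
  rw [e]
  interval_cases i <;> simp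

theorem Hy.extremal {S : Subgroup G} (h : Hy S) {z t g0 : G} (hz : z ∈ S) (hc : z ∈ Ct S)
    (ht : t = g0 * z * g0⁻¹) :
    ∃ g : G, g * t * g⁻¹ = z ∧ ∀ s ∈ S, s * t = t * s → g * s * g⁻¹ ∈ S := by
  have hS : IsSylowIn 2 S (Cx z) := h.syl.of_le
    (fun s hs => mem_centralizer_singleton_iff.2 (mem_centralizer_iff.1 hc s hs)) le_top
  obtain ⟨c, hcz, l⟩ := hS.exists_cj_le (isPGroup_cj g0⁻¹ (h.two.to_le (inf_le_left (b := Cx t))))
    (cj_le_iff.2 fun s hs => mem_centralizer_singleton_iff.2 (by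
      have := mem_centralizer_singleton_iff.1 hs.2
      rw [ht] at this
      calc g0⁻¹ * s * g0⁻¹⁻¹ * z = g0⁻¹ * (s * (g0 * z * g0⁻¹)) * g0 := by group
        _ = _ := by rw [this]; group))
  refine ⟨c * g0⁻¹, ?_, fun s hs e => ?_⟩
  · calc c * g0⁻¹ * t * (c * g0⁻¹)⁻¹ = c * z * c⁻¹ := by rw [ht]; group
      _ = z := by rw [mem_centralizer_singleton_iff.1 hcz]; group
  · rw [show c * g0⁻¹ * s * (c * g0⁻¹)⁻¹ = c * (g0⁻¹ * s * g0⁻¹⁻¹) * c⁻¹ by group]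
    exact l (conj_mem_cj.2 (conj_mem_cj.2 ⟨hs, mem_centralizer_singleton_iff.2 e⟩))

theorem Hy.burnside {S : Subgroup G} (h : Hy S) {z t g0 : G} (hz : z ∈ S) (hc : z ∈ Ct S)
    (ht : t = g0 * z * g0⁻¹) (htc : t ∈ Ct S) : ∃ n ∈ Nm S, n * t * n⁻¹ = z := by
  obtain ⟨g, e, hg⟩ := h.extremal hz hc ht
  exact ⟨g, mem_normalizer_of_forall fun s hs => hg s hs (mem_centralizer_iff.1 htc s hs), e⟩

theorem Hy.conj_norm {S E : Subgroup G} (h : Hy S) {g : G} (hE : S ≤ Nm E) (hE' : S ≤ Nm (cj g E)) :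
    ∃ n ∈ Nm S, cj n E = cj g E := by
  have h1 : IsSylowIn 2 (cj g S) (Nm (cj g E)) := by
    rw [Nm, ← cj_normalizer]
    exact (h.syl.of_le hE le_top).cj g
  obtain ⟨c, hc, e⟩ := h1.exists_cj_eq (h.syl.of_le hE' le_top)
  exact ⟨c * g, by rw [mem_normalizer_iff_cj, cj_mul, e], by
    rw [cj_mul, mem_normalizer_iff_cj.1 hc]⟩

theorem Hy.odd_pow {S : Subgroup G} (h : Hy S) {n : G} (hn : n ∈ Nm S) : ∃ m : ℕ, Odd m ∧ n ^ m ∈ S := by
  obtain ⟨m, hm, h2⟩ := exists_two_part n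
  exact ⟨m, hm, mem_of_central h.syl (mem_top _) h2 (pow_mem hn m)⟩

/-- Z* -/
theorem Hy.zstar {S : Subgroup G} (h : Hy S) {z : G} (hz : z ∈ S) (h1 : z ≠ 1) (h2 : z * z = 1) :
    ∃ g : G, g * z * g⁻¹ ∈ S ∧ g * z * g⁻¹ ≠ z := by
  obtain ⟨a, ha, g, h3, h4⟩ := h.nsc (zpowers z) (zpowers_le.2 hz) (by simpa using h1) (by
    rintro _ ⟨i, rfl⟩ _ ⟨j, rfl⟩
    exact zpow_mul_comm z i j)
  rcases bas_zp (ord_two h2 h1) ha with rfl | rfl
  · exact absurd (by simp) h4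
  · exact ⟨g, h3, fun e => h4 (by rw [e]; exact mem_zpowers _)⟩

theorem idx2_mul {A S : Subgroup G} (hA : A ≤ S) (hc : Nat.card S ≤ 2 * Nat.card A) {x y : G}
    (hx : x ∈ S) (hy : y ∈ S) (hxA : x ∉ A) (hyA : y ∉ A) : x * y ∈ A := by
  have h1 := card_mul_relIndex' hA
  have h2 : A.relIndex S ≠ 0 := index_ne_zero_of_finite
  have h3 : A.relIndex S ≠ 1 := fun e => hxA (relIndex_eq_one.1 e hx)
  have h4 : A.relIndex S ≤ 2 :=
    Nat.le_of_mul_le_mul_left (by rw [h1, mul_comm]; exact hc) (Nat.card_pos (α := A))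
  exact (mul_mem_iff_of_index_two (H := A.subgroupOf S) (show A.relIndex S = 2 by omega)
    (a := ⟨x, hx⟩) (b := ⟨y, hy⟩)).2 ⟨fun e => absurd e hxA, fun e => absurd e hyA⟩

theorem idx2_nm {A S : Subgroup G} (hA : A ≤ S) (hc : Nat.card S ≤ 2 * Nat.card A) : S ≤ Nm A := by
  refine fun s hs => mem_normalizer_of_forall fun a ha => ?_
  by_cases h : s ∈ A
  · exact mul_mem (mul_mem h ha) (inv_mem h)
  · exact idx2_mul hA hc (mul_mem hs (hA ha)) (inv_mem hs) (by rwa [mul_mem_cancel_right ha])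
      (by rwa [inv_mem_iff])

/-- converse of `idx2_mul` -/
theorem card_le_two_mul {A S : Subgroup G} (hA : A ≤ S)
    (h : ∀ x ∈ S, ∀ y ∈ S, x ∉ A → y ∉ A → x * y ∈ A) : Nat.card S ≤ 2 * Nat.card A := by
  by_cases h1 : S ≤ A
  · have := card_le_of_le h1
    omega
  obtain ⟨x, hx, hxA⟩ := SetLike.not_le_iff_exists.1 h1
  have h2 : A.relIndex S = 2 := relIndex_eq_two_iff.2 ⟨x, hx, fun b hb => by
    by_cases e : b ∈ A
    · exact Or.inr ⟨e, by rwa [mul_mem_cancel_left e]⟩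
    · exact Or.inl ⟨h b hb x hx e hxA, e⟩⟩
  rw [← card_mul_relIndex' hA, h2, mul_comm]

theorem card_sup_zp {A : Subgroup G} {x : G} (hx : x ∈ Nm A) (hxA : x ∉ A) (h2 : x * x ∈ A) :
    Nat.card (A ⊔ zpowers x : Subgroup G) = 2 * Nat.card A ∧
      ∀ m, m ∈ A ⊔ zpowers x ↔ m ∈ A ∨ m * x ∈ A := by
  have mem : ∀ m, m ∈ A ⊔ zpowers x ↔ m ∈ A ∨ m * x ∈ A := fun m => by
    constructor
    · intro hm
      obtain ⟨a, ha, y, hy, rfl⟩ := (mem_sup_nm (zpowers_le.2 hx)).1 hm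
      obtain ⟨i, rfl⟩ := mem_zpowers_iff.1 hy
      rw [← zpow_two] at h2
      rcases Int.even_or_odd' i with ⟨j, rfl | rfl⟩
      · exact Or.inl (mul_mem ha (by rw [zpow_mul]; exact zpow_mem h2 j))
      · refine Or.inr ?_
        rw [show a * x ^ (2 * j + 1) * x = a * (x ^ (2 : ℤ)) ^ (j + 1) by group]
        exact mul_mem ha (zpow_mem h2 _)
    · rintro (e | e)
      · exact mem_sup_left e
      · rw [show m = m * x * x⁻¹ by group]
        exact mul_mem_sup e (inv_mem (mem_zpowers x))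
  refine ⟨?_, mem⟩
  have h3 : A.relIndex (A ⊔ zpowers x) = 2 :=
    relIndex_eq_two_iff.2 ⟨x, mem_sup_right (mem_zpowers x), fun b hb => by
      by_cases e : b ∈ A
      · exact Or.inr ⟨e, by rwa [mul_mem_cancel_left e]⟩
      · exact Or.inl ⟨((mem b).1 hb).resolve_left e, e⟩⟩
  rw [← card_mul_relIndex' le_sup_left, h3, mul_comm]

theorem el_sup_zp {A : Subgroup G} {x : G} (hA : El A) (hx : x ∈ Ct A) (h2 : x * x = 1) :
    El (A ⊔ zpowers x) := by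
  refine hA.sup ?_ (le_ct_comm.2 (zpowers_le.2 hx))
  rintro _ ⟨i, rfl⟩
  change x ^ i * x ^ i = 1
  rw [← (Commute.refl x).mul_zpow, h2, one_zpow]

theorem card_sup_mul {A B : Subgroup G} (h : B ≤ Nm A) :
    Nat.card (A ⊔ B : Subgroup G) * Nat.card (A ⊓ B : Subgroup G) = Nat.card A * Nat.card B := by
  rw [sup_comm, inf_comm, Core.card_sup_mul_card_inf_of_le_normalizer h, mul_comm]

theorem comm_le {A S Y : Subgroup G} (hA : A ≤ S) (hc : Nat.card S ≤ 2 * Nat.card A) {x : G}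
    (hx : x ∈ S) (hxA : x ∉ A) (hn : ∀ s ∈ S, ∀ y ∈ Y, s * y * s⁻¹ ∈ Y)
    (h1 : ∀ a ∈ A, ∀ b ∈ A, ⁅a, b⁆ ∈ Y) (h2 : ∀ a ∈ A, ⁅a, x⁆ ∈ Y) : ∀ a ∈ S, ∀ b ∈ S, ⁅a, b⁆ ∈ Y := by
  have mul : ∀ s t u : G, t ∈ S → ⁅s, t⁆ ∈ Y → ⁅s, u⁆ ∈ Y → ⁅s, t * u⁆ ∈ Y := fun s t u ht e1 e2 => by
    rw [show ⁅s, t * u⁆ = ⁅s, t⁆ * (t * ⁅s, u⁆ * t⁻¹) by simp only [commutatorElement_def]; group]
    exact mul_mem e1 (hn t ht _ e2)
  have symm : ∀ s t : G, ⁅s, t⁆ ∈ Y → ⁅t, s⁆ ∈ Y := fun s t e => by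
    rw [← commutatorElement_inv]; exact inv_mem e
  have gen : ∀ s : G, (∀ b ∈ A, ⁅s, b⁆ ∈ Y) → ⁅s, x⁆ ∈ Y → ∀ b ∈ S, ⁅s, b⁆ ∈ Y := fun s e1 e2 b hb => by
    by_cases e : b ∈ A
    · exact e1 b e
    · have h3 := idx2_mul hA hc hb (inv_mem hx) e (by rwa [inv_mem_iff])
      simpa using mul s _ x (hA h3) (e1 _ h3) e2
  exact fun a ha => gen a (fun b hb => symm _ _ (gen b (h1 b hb) (h2 b hb) a ha))
    (symm _ _ (gen x (fun b hb => symm _ _ (h2 b hb)) (by simp) a ha))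

theorem coset2 {K L : Subgroup G} (hK : K ≤ L) (hc : Nat.card L ≤ 2 * Nat.card K) {r y : G}
    (hrK : r ∈ Nm K) (hrL : r ∈ Nm L) {m : ℕ} (hm : Odd m) (hy : r ^ m * y = y * r ^ m)
    (h : y⁻¹ * (r * y * r⁻¹) ∈ L) : y⁻¹ * (r * y * r⁻¹) ∈ K := by
  by_contra hd
  have key : ∀ i : ℕ, y⁻¹ * (r ^ i * y * (r ^ i)⁻¹) ∈ L ∧
      (y⁻¹ * (r ^ i * y * (r ^ i)⁻¹) ∈ K ↔ Even i) := fun i => by
    induction i with
    | zero => simp
    | succ i ih =>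
      rw [show y⁻¹ * (r ^ (i + 1) * y * (r ^ (i + 1))⁻¹) =
        y⁻¹ * (r * y * r⁻¹) * (r * (y⁻¹ * (r ^ i * y * (r ^ i)⁻¹)) * r⁻¹) by group, Nat.even_add_one,
        ← ih.2]
      have h1 := conj_mem_of_mem_normalizer hrL ih.1
      refine ⟨mul_mem h h1, fun e e' => hd ?_, fun e => idx2_mul hK hc h h1 hd fun e' => e ?_⟩
      · rwa [mul_mem_cancel_right (conj_mem_of_mem_normalizer hrK e')] at e
      · simpa [mul_assoc] using conj_mem_of_mem_normalizer' hrK e'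
  exact Nat.not_even_iff_odd.2 hm ((key m).2.1 (by rw [hy]; simp))

theorem Hy.not_cen {S Y : Subgroup G} (h : Hy S) (hY : ∀ a ∈ S, ∀ b ∈ S, ⁅a, b⁆ ∈ Y) (hc : Y ≤ Ct S) :
    False := by
  obtain ⟨a, ha, b, hb, c, hc', ne⟩ := h.cls
  exact ne (commutatorElement_eq_one_iff_mul_comm.2
    (mem_centralizer_iff.1 (hc (hY a ha b hb)) c hc').symm)

theorem Hy.not_ab {S A : Subgroup G} (h : Hy S) (hA : A ≤ S) (hc : Nat.card A = 64) (ha : Ab A)
    (hs : ∀ a ∈ A, a * a ∈ Ct S) : False := by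
  have h2 : Nat.card S ≤ 2 * Nat.card A := by rw [h.card, hc]
  obtain ⟨x, hx, hxA⟩ := SetLike.not_le_iff_exists.1 fun e : S ≤ A => by
    have := card_le_of_le e
    rw [h.card, hc] at this
    omega
  have xn := idx2_nm hA h2 hx
  refine h.not_cen (comm_le (Y := Ct S) hA h2 hx hxA (fun s hs y hy => ?_) (fun a ha' b hb => ?_)
    fun a ha' => mem_centralizer_iff.2 fun s hs' => ?_) le_rfl
  · rwa [mem_centralizer_iff.1 hy s hs, mul_inv_cancel_right]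
  · rw [commutatorElement_eq_one_iff_mul_comm.2 (ha a ha' b hb)]; exact one_mem _
  have a1 : x * a⁻¹ * x⁻¹ ∈ A := conj_mem_of_mem_normalizer xn (inv_mem ha')
  have e : ⁅a, x⁆ = a * (x * a⁻¹ * x⁻¹) := by rw [commutatorElement_def]; group
  have yA : ⁅a, x⁆ ∈ A := by rw [e]; exact mul_mem ha' a1
  have yy : ⁅a, x⁆ * ⁅a, x⁆ = 1 := by
    calc ⁅a, x⁆ * ⁅a, x⁆ = a * (x * a⁻¹ * x⁻¹ * a) * (x * a⁻¹ * x⁻¹) := by rw [e]; group
      _ = a * a * x * (a * a)⁻¹ * x⁻¹ := by rw [ha _ a1 a ha']; group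
      _ = 1 := by rw [← mem_centralizer_iff.1 (hs a ha') x hx]; group
  have xy : x * ⁅a, x⁆ = ⁅a, x⁆ * x := by
    calc x * ⁅a, x⁆ = x * a * x⁻¹ * (x * x * a⁻¹) * x⁻¹ := by rw [e]; group
      _ = ⁅a, x⁆⁻¹ * x := by
        rw [ha _ (idx2_mul hA h2 hx hx hxA hxA) _ (inv_mem ha'), e]; group
      _ = ⁅a, x⁆ * x := by rw [inv_eq_of_mul_eq_one_right yy]
  by_cases e1 : s ∈ A
  · exact ha s e1 _ yA
  · have h3 := ha _ (idx2_mul hA h2 hs' (inv_mem hx) e1 (by rwa [inv_mem_iff])) _ yA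
    calc s * ⁅a, x⁆ = s * x⁻¹ * (x * ⁅a, x⁆) := by group
      _ = s * x⁻¹ * ⁅a, x⁆ * x := by rw [xy]; group
      _ = ⁅a, x⁆ * s := by rw [h3]; group

theorem Hy.no64 {S A : Subgroup G} (h : Hy S) (hA : A ≤ S) (he : El A) : Nat.card A ≤ 32 := by
  have h1 : Nat.card A ≠ 64 := fun e =>
    h.not_ab hA e he.ab fun a ha => by rw [he a ha]; exact one_mem _
  have h2 : Nat.card A ≠ 128 := fun e => by
    have e1 : A = S := eq_of_le_of_card_ge hA (by rw [h.card, e])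
    rw [e1] at he
    exact h.not_cen (Y := ⊥) (fun a ha b hb =>
      mem_bot.2 (commutatorElement_eq_one_iff_mul_comm.2 (he.ab a ha b hb))) bot_le
  have := h.card_cases hA
  omega

theorem Hy.le16 {S A : Subgroup G} (h : Hy S) (hno : ∀ E, ¬ E32 S E) (hA : A ≤ S) (he : El A) :
    Nat.card A ≤ 16 := by
  have h1 := h.no64 hA he
  have h2 : Nat.card A ≠ 32 := fun e => hno A ⟨hA, he, e⟩
  have := h.card_cases hA
  omega

theorem Hy.fix_of_cls {S : Subgroup G} (h : Hy S) {z : G}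
    (hz : ∀ a ∈ S, ∀ b ∈ S, ∀ c ∈ S, ⁅⁅a, b⁆, c⁆ = 1 ∨ ⁅⁅a, b⁆, c⁆ = z) {n : G} (hn : n ∈ Nm S) :
    n * z * n⁻¹ = z := by
  obtain ⟨a, ha, b, hb, c, hc, ne⟩ := h.cls
  have e := (hz a ha b hb c hc).resolve_left ne
  have h1 := hz _ (conj_mem_of_mem_normalizer hn ha) _ (conj_mem_of_mem_normalizer hn hb) _
    (conj_mem_of_mem_normalizer hn hc)
  rw [← conjugate_commutatorElement, ← conjugate_commutatorElement, e] at h1
  exact h1.resolve_left fun e1 => ne (by rw [e]; simpa using e1)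

theorem one_of_syl {E T : Subgroup G} (hT : IsSylowIn 2 T (Nm E))
    (h : ∀ a ∈ T, ∀ b ∈ T, a ∉ Ct E → b ∉ Ct E → a * a ∈ Ct E → b * b ∈ Ct E → a⁻¹ * b ∈ Ct E) :
    One E := by
  intro a ha b hb a1 b1 a2 b2 ab
  have : ((Ct E).subgroupOf (Nm E)).Normal := normal_subgroupOf_centralizer_normalizer _
  let π := QuotientGroup.mk' ((Ct E).subgroupOf (Nm E))
  have k : ∀ x : Nm E, π x = 1 ↔ (x : G) ∈ Ct E := fun x => QuotientGroup.eq_one_iff x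
  have hs : Function.Surjective π := QuotientGroup.mk'_surjective _
  have hP := IsSylowIn.of_sylow_top (hT.toSylow.mapSurjective hs)
  have ea : π ⟨a, ha⟩ * π ⟨a, ha⟩ = 1 := by rw [← map_mul, k]; exact a2
  have eb : π ⟨b, hb⟩ * π ⟨b, hb⟩ = 1 := by rw [← map_mul, k]; exact b2
  have ec : π ⟨a, ha⟩ * π ⟨b, hb⟩ = π ⟨b, hb⟩ * π ⟨a, ha⟩ := by
    rw [← commutatorElement_eq_one_iff_mul_comm, ← map_commutatorElement, k]; exact ab
  obtain ⟨g, -, l⟩ := hP.exists_cj_le (two_sup (two_of_sq ea).zpowers (two_of_sq eb).zpowers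
    ((zpowers_le.2 (mem_centralizer_iff.2 (by
        rintro _ ⟨i, rfl⟩
        exact (Commute.zpow_left ec i).eq))).trans (ct_le_nm _))) le_top
  obtain ⟨u, hu, eu⟩ := l (conj_mem_cj.2 (mem_sup_left (mem_zpowers _)))
  obtain ⟨v, hv, ev⟩ := l (conj_mem_cj.2 (mem_sup_right (mem_zpowers _)))
  have h1 := h u hu v hv (fun e => a1 ((k ⟨a, ha⟩).1 (by simpa [eu] using (k u).2 e)))
    (fun e => b1 ((k ⟨b, hb⟩).1 (by simpa [ev] using (k v).2 e)))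
    ((k (u * u)).1 (by rw [map_mul, eu, conj_mul, ea]; simp))
    ((k (v * v)).1 (by rw [map_mul, ev, conj_mul, eb]; simp))
  have h2 := (k (u⁻¹ * v)).2 h1
  rw [map_mul, map_inv, eu, ev, conj_inv, conj_mul] at h2
  exact (k (⟨a, ha⟩⁻¹ * ⟨b, hb⟩)).1 (by rw [map_mul, map_inv]; simpa using h2)

end CfsgLib.J3O
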