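import Cfsg.Agent.Lib.J3O.Tv

/-! CYa.  First part of CY (see `Cy.lean` for the plan). -/

set_option autoImplicit false
set_option linter.unusedSectionVars false
set_option linter.unusedVariables false

namespace CfsgLib.J3O
open Subgroup Cfsg CfsgLib.Tech CfsgLib.ACT
open scoped commutatorElement

variable {G : Type*} [Group G] [Finite G]

section

variable {S Z1 E : Subgroup G} {c : G} (h : Cy S Z1 c)
include h

theorem Cy.zz : c * c * (c * c) = 1 := by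
  have := pow_orderOf_eq_one c
  rw [h.c4] at this
  rw [← this, ← pow_two c, ← pow_add]

theorem Cy.z1 : c * c ≠ 1 := fun e => by
  have := orderOf_dvd_of_pow_eq_one (show c ^ 2 = 1 by rw [pow_two, e])
  rw [h.c4] at this
  omega

theorem Cy.inv_sq : c⁻¹ * c⁻¹ = c * c := by
  rw [← mul_inv_rev, inv_eq_of_mul_eq_one_right h.zz]

theorem Cy.zp {x : G} (hx : x ∈ zpowers c) : x = 1 ∨ x = c * c ∨ x = c ∨ x = c⁻¹ := by
  obtain ⟨i, rfl⟩ := mem_zpowers_iff.1 hx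
  rw [← zpow_mod_orderOf, h.c4]
  have k : c ^ (3 : ℤ) = c⁻¹ := eq_inv_of_mul_eq_one_left (by
    rw [← h.zz, ← mul_assoc, zpow_ofNat, pow_three'])
  obtain e | e | e | e : i % (4 : ℕ) = 0 ∨ i % (4 : ℕ) = 1 ∨ i % (4 : ℕ) = 2 ∨ i % (4 : ℕ) = 3 := by omega
  all_goals rw [e]
  exacts [.inl (zpow_zero c), .inr (.inr (.inl (zpow_one c))), .inr (.inl (zpow_two c)), .inr (.inr (.inr k))]

theorem Cy.zp_sq {x : G} (hx : x ∈ zpowers c) (xx : x * x = 1) : x = 1 ∨ x = c * c := by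
  rcases h.zp hx with e | e | rfl | rfl
  exacts [.inl e, .inr e, absurd xx h.z1, absurd (h.inv_sq.symm.trans xx) h.z1]

theorem Cy.pm {n : G} (hn : n * c * n⁻¹ ∈ zpowers c) : n * c * n⁻¹ = c ∨ n * c * n⁻¹ = c⁻¹ := by
  have k : n * c * n⁻¹ * (n * c * n⁻¹) ≠ 1 := fun e => h.z1 (by rw [conj_mul] at e; simpa using e)
  rcases h.zp hn with e | e | e
  exacts [absurd (by rw [e, mul_one]) k, absurd (by rw [e, h.zz]) k, e]

theorem Cy.fix_z {n : G} (hn : n * c * n⁻¹ ∈ zpowers c) : n * (c * c) * n⁻¹ = c * c := by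
  rw [← conj_mul]
  rcases h.pm hn with e | e <;> rw [e]
  exact h.inv_sq

theorem Cy.conj_c {s : G} (hs : s ∈ S) : s * c * s⁻¹ ∈ zpowers c := by
  have := mul_mem (h.der s hs c h.cS) (mem_zpowers c)
  rwa [commutatorElement_def, inv_mul_cancel_right] at this

theorem Cy.zC : c * c ∈ Ct S := fun s hs => mul_inv_eq_iff_eq_mul.1 (h.fix_z (h.conj_c hs))

theorem Cy.zZ : c * c ∈ Z1 := (h.mem _).2 ⟨mul_mem h.cS h.cS, h.zC, h.zz⟩

theorem Cy.cC : c ∉ Ct S := fun k => h.hy.not_cen h.der (zpowers_le.2 k)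

theorem Cy.nm_c {n : G} (hn : n ∈ Nm S) : n * c * n⁻¹ ∈ zpowers c := by
  by_contra k
  refine h.hy.not_cen (Y := zpowers (c * c)) (fun a ha b hb => ?_) (zpowers_le.2 h.zC)
  have m := h.der _ (conj_mem_of_mem_normalizer hn ha) _ (conj_mem_of_mem_normalizer hn hb)
  rw [← conjugate_commutatorElement] at m
  rcases h.zp (h.der a ha b hb) with e | e | e | e <;> rw [e] at m ⊢
  · exact one_mem _
  · exact mem_zpowers _
  · exact absurd m k
  · exact absurd (by simpa [mul_assoc] using inv_mem m) k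

omit h in
theorem cya_nm_ct {n : G} (hn : n ∈ Nm S) : n ∈ Nm (Ct S) := by
  rw [mem_normalizer_iff_cj] at hn ⊢
  rw [cj_centralizer, hn]

omit h in
theorem cya_nm_sup {A B : Subgroup G} {n : G} (hA : n ∈ Nm A) (hB : n ∈ Nm B) : n ∈ Nm (A ⊔ B) := by
  rw [mem_normalizer_iff_cj] at hA hB ⊢
  rw [cj_sup, hA, hB]

theorem Cy.Z1S : Z1 ≤ S := fun v hv => ((h.mem v).1 hv).1

theorem Cy.Z1C : Z1 ≤ Ct S := fun v hv => ((h.mem v).1 hv).2.1

theorem Cy.Z1el : El Z1 := fun v hv => ((h.mem v).1 hv).2.2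

theorem Cy.Z1E (hE : E ≤ S) (he : El E) (hc : Nat.card E = 16) : Z1 ≤ E := by
  have k := h.hy.le16 h.no (sup_le hE h.Z1S)
    (he.sup h.Z1el fun e he' v hv => (h.Z1C hv e (hE he')).symm)
  exact le_sup_right.trans (eq_of_le_of_card_ge le_sup_left (k.trans hc.ge)).ge

/-- the action of an element of `S` on `E = Z1 ∪ j Z1` -/
theorem Cy.act (hE : E ≤ S) (he : El E) (hc : Nat.card E = 16) {j y d : G} (hj : j ∈ E) (jZ : j ∉ Z1)
    (hy : y ∈ S) (e : y * j * y⁻¹ = j * d) (dC : d ∈ Ct S) {v : G} (hv : v ∈ E) (vZ : v ∉ Z1) :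
    y * v * y⁻¹ = v * d := by
  have m := idx2_mul (h.Z1E hE he hc) (by rw [hc, h.c1]) hj hv jZ vZ
  have k : v = j * (j * v) := by rw [← mul_assoc, he j hj, one_mul]
  generalize j * v = u at m k
  rw [k, ← conj_mul, e, h.Z1C m y hy, mul_inv_cancel_right, mul_assoc, mul_assoc, dC u (h.Z1S m)]

theorem Cy.ex_j (hc : Nat.card E = 16) : ∃ j ∈ E, j ∉ Z1 := by
  by_contra! k
  have := card_le_of_le k
  rw [hc, h.c1] at this
  omega

theorem Cy.alike (hE : E ≤ S) (he : El E) (hc : Nat.card E = 16) {a b : G} (ha : a ∈ S) (hb : b ∈ S)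
    (na : a ∈ Nm E) (nb : b ∈ Nm E) (ca : a ∉ Ct E) (cb : b ∉ Ct E) : a⁻¹ * b ∈ Ct E := by
  obtain ⟨j, hj, jZ⟩ := h.ex_j hc
  have key : ∀ y ∈ S, y ∈ Nm E → y ∉ Ct E → ∀ v ∈ E, v ∉ Z1 → y * v * y⁻¹ = v * (c * c) :=
    fun y hy ny cy v hv vZ => by
      have m : ⁅y, j⁆ ∈ E := mul_mem (conj_mem_of_mem_normalizer ny hj) (inv_mem hj)
      have e : y * j * y⁻¹ = ⁅y, j⁆ * j := by rw [commutatorElement_def, inv_mul_cancel_right]
      rcases h.zp_sq (h.der y hy j (hE hj)) (he _ m) with k | k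
      · refine absurd (fun u hu => ?_) cy
        by_cases uZ : u ∈ Z1
        · exact (h.Z1C uZ y hy).symm
        · exact (mul_inv_eq_iff_eq_mul.1 ((h.act hE he hc hj jZ hy (d := 1) (by rw [e, k, one_mul, mul_one])
            (one_mem _) hu uZ).trans (mul_one u))).symm
      · exact h.act hE he hc hj jZ hy (by rw [e, k, h.zC j (hE hj)]) h.zC hv vZ
  intro u hu
  by_cases uZ : u ∈ Z1
  · exact (h.Z1C uZ _ (mul_mem (inv_mem ha) hb)).symm
  · have := (key a ha na ca u hu uZ).trans (key b hb nb cb u hu uZ).symm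
    calc _ = a⁻¹ * (a * u * a⁻¹) * b := by group
      _ = _ := by rw [this]; group

end

theorem Cy.nfix {S Z1 : Subgroup G} {c : G} (h : Cy S Z1 c) {n : G} (hn : n ∈ Nm S) :
    n * (c * c) * n⁻¹ = c * c ∧ n ∈ Nm Z1 :=
  ⟨h.fix_z (h.nm_c hn), mem_normalizer_of_forall fun v hv => (h.mem _).2
    ⟨conj_mem_of_mem_normalizer hn (h.Z1S hv), conj_mem_of_mem_normalizer (cya_nm_ct hn) (h.Z1C hv),
      by rw [conj_mul, h.Z1el v hv]; group⟩⟩

theorem Cy.odd_triv {S Z1 : Subgroup G} {c : G} (h : Cy S Z1 c) {r : G} (hr : r ∈ Nm S)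
    (ho : Odd (orderOf r)) {y : G} (hy : y ∈ S) : y⁻¹ * (r * y * r⁻¹) ∈ Z1 := by
  have e : r ^ orderOf r * y = y * r ^ orderOf r := by simp
  have nc : r ∈ Nm (zpowers c) :=
    mem_normalizer_of_cj_le (by rw [cj_zpowers]; exact zpowers_le.2 (h.nm_c hr))
  have nZ := bas_nm_inf hr (cya_nm_ct hr)
  have mM : ∀ {x}, x ∈ S ⊓ Cx c ↔ x ∈ S ∧ x * c * x⁻¹ = c := fun {x} => by
    rw [mem_inf, mem_centralizer_singleton_iff, mul_inv_eq_iff_eq_mul]
  have nM : r ∈ Nm (S ⊓ Cx c) := bas_nm_inf hr (by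
    have := cya_nm_ct nc
    rwa [Ct, zpowers_eq_closure, centralizer_closure] at this)
  have c32 := (card_sup_zp (A := S ⊓ Ct S) (x := c) (bas_nm_inf (le_normalizer h.cS)
    (cya_nm_ct (le_normalizer h.cS))) (fun k => h.cC k.2) ⟨mul_mem h.cS h.cS, h.zC⟩).1
  have c64 : Nat.card (S ⊓ Cx c : Subgroup G) ≤ 64 := by
    have k : Nat.card (S ⊓ Cx c : Subgroup G) ≠ 128 := fun k => h.cC fun s hs =>
      mem_centralizer_singleton_iff.1 ((eq_of_le_of_card_ge inf_le_left (h.hy.card.trans k.symm).le).ge hs).2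
    have := h.hy.card_cases (inf_le_left : S ⊓ Cx c ≤ S)
    omega
  refine coset2 (L := S ⊓ Ct S) (le_inf h.Z1S h.Z1C) (by rw [h.cZ, h.c1]) (h.nfix hr).2 nZ ho e ?_
  refine coset2 (L := S ⊓ Ct S ⊔ zpowers c) le_sup_left c32.le nZ (cya_nm_sup nZ nc) ho e ?_
  refine coset2 (L := S ⊓ Cx c) (sup_le (fun x (hx : x ∈ S ⊓ Ct S) => mM.2 ⟨hx.1, by rw [← hx.2 c h.cS]; simp⟩)
    (zpowers_le.2 (mM.2 ⟨h.cS, by simp⟩))) (by rw [c32, h.cZ]; omega) (cya_nm_sup nZ nc) nM ho e ?_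
  refine coset2 (L := S) inf_le_left (card_le_two_mul inf_le_left fun a ha b hb na nb =>
    mM.2 ⟨mul_mem ha hb, ?_⟩) nM hr ho e (mul_mem (inv_mem hy) (conj_mem_of_mem_normalizer hr hy))
  have ea := (h.pm (h.conj_c ha)).resolve_left fun k => na (mM.2 ⟨ha, k⟩)
  have eb := (h.pm (h.conj_c hb)).resolve_left fun k => nb (mM.2 ⟨hb, k⟩)
  calc _ = a * (b * c * b⁻¹) * a⁻¹ := by group
    _ = (a * c * a⁻¹)⁻¹ := by rw [eb]; group
    _ = _ := by rw [ea, inv_inv]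

theorem Cy.e16 {S Z1 E : Subgroup G} {c : G} (h : Cy S Z1 c) (hE : E ≤ S) (he : El E)
    (hc : Nat.card E = 16) :
    ∃ s ∈ S, Tv E Z1 s (c * c) ∧
      ∀ y ∈ Nm E, Two y → y ∈ Ct E ∨ ∃ g ∈ Nm E, y⁻¹ * (g * s * g⁻¹) ∈ Ct E := by
  have := Fact.mk Nat.prime_two
  obtain ⟨j, hj, jZ⟩ := h.ex_j hc
  have ZE := h.Z1E hE he hc
  have jj := he j hj
  obtain ⟨s, hs, e⟩ : ∃ s ∈ S, s * j * s⁻¹ = j * (c * c) := by
    obtain ⟨y, hy, ny⟩ : ∃ y ∈ S, y * j ≠ j * y := by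
      by_contra! k
      exact jZ ((h.mem j).2 ⟨hE hj, k, jj⟩)
    have e : y * j * y⁻¹ = ⁅y, j⁆ * j := by rw [commutatorElement_def, inv_mul_cancel_right]
    have k : ∀ d ∈ S, ⁅y, j⁆ = d → d * d = c * c → ∃ s ∈ S, s * j * s⁻¹ = j * (c * c) := fun d hd e1 e2 => by
      have e3 : d * j * (d * j) = 1 := by rw [← e1, ← e, conj_mul, jj]; group
      refine ⟨d, hd, ?_⟩
      rw [h.zC j (hE hj), ← e2, mul_assoc, mul_assoc, mul_right_inj, eq_inv_of_mul_eq_one_left e3,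
        mul_inv_rev, inv_eq_of_mul_eq_one_right jj]
    rcases h.zp (h.der y hy j (hE hj)) with e' | e' | e' | e'
    · exact absurd (commutatorElement_eq_one_iff_mul_comm.1 e') ny
    · exact ⟨y, hy, by rw [e, e', h.zC j (hE hj)]⟩
    · exact k c h.cS e' rfl
    · exact k _ (inv_mem h.cS) e' h.inv_sq
  have fix : ∀ v ∈ Z1, s * v * s⁻¹ = v := fun v hv => mul_inv_eq_iff_eq_mul.2 (h.Z1C hv s hs)
  have mov : ∀ v ∈ E, v ∉ Z1 → s * v * s⁻¹ = v * (c * c) := fun v => h.act hE he hc hj jZ hs e h.zC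
  have ns : s ∈ Nm E := mem_normalizer_of_forall fun v hv => by
    by_cases k : v ∈ Z1
    · rwa [fix v k]
    · rw [mov v hv k]
      exact mul_mem hv (ZE h.zZ)
  obtain ⟨T, hT, le⟩ := exists_isSylowIn_ge (h.hy.two.to_le (inf_le_left : S ⊓ Nm E ≤ S)) inf_le_right
  obtain ⟨k, hk⟩ := h.hy.conj_le hT.pgroup
  have al : ∀ a ∈ T, ∀ b ∈ T, a ∉ Ct E → b ∉ Ct E → a⁻¹ * b ∈ Ct E := fun a ha b hb ca cb => by
    have n : ∀ {x}, x ∈ T → k * x * k⁻¹ ∈ Nm (cj k E) := fun hx => by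
      rw [Nm, ← cj_normalizer, conj_mem_cj]; exact hT.le hx
    have m : ∀ {x}, k * x * k⁻¹ ∈ Ct (cj k E) ↔ x ∈ Ct E := by
      intro x; rw [Ct, ← cj_centralizer, conj_mem_cj]
    have := h.alike ((cj_mono k ((le_inf hE le_normalizer).trans le)).trans hk) (fun x hx => by
        have := he _ (mem_cj.1 hx)
        calc _ = k * (k⁻¹ * x * k * (k⁻¹ * x * k)) * k⁻¹ := by group
          _ = _ := by rw [this]; group) ((card_cj k E).trans hc)
      (cj_le_iff.1 hk a ha) (cj_le_iff.1 hk b hb) (n ha) (n hb) (mt m.1 ca) (mt m.1 cb)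
    refine m.1 ?_
    convert this using 1
    group
  refine ⟨s, hs, ⟨he, ZE, ns, h.zZ, h.z1, fix, mov, ⟨j, hj, jZ⟩,
    one_of_syl hT fun a ha b hb ca cb _ _ => al a ha b hb ca cb⟩, fun y hy h2 =>
    two_act hT (le ⟨hs, ns⟩) (fun k => h.z1 ?_) al hy h2⟩
  rwa [← k j hj, mul_inv_cancel_right, left_eq_mul] at e

end CfsgLib.J3O
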