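import Cfsg.Agent.Lib.J3O.Tv
import Cfsg.Agent.Lib.J3O.Tr
import Cfsg.Agent.Lib.J3O.Cya

/-! CY.  `z = c²`; `s c s⁻¹ = ⁅s, c⁆ c ∈ ⟨c⟩`, so `⟨c⟩` is normal in `S`, `z ∈ Z1`; elements of `⟨c⟩` of square 1 are `1, z`.  `c ∉ C(S)` (not_cen).
nm_c: some `⁅a, b⁆` is `c` or `c⁻¹` (else not_cen with `⟨z⟩`), so `n c n⁻¹ ∈ ⟨c⟩` for `n ∈ N(S)`; `n` fixes `z` and normalises `Z1`, `Z = S ⊓ C(S)`, `Z ⟨c⟩`, `M = S ⊓ C(c)`.
odd_triv: chain `Z1 ≤ Z ≤ Z ⟨c⟩ ≤ M ≤ S` of orders `8, 16, 32, ≤ 64` and `|S| ≤ 2 |M|`; coset2 four times with `m = orderOf r`.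
e16: `E Z1` is elementary, le16, so `Z1 ≤ E`, index 2.  For `y ∈ S ⊓ N(E)`, `e ∈ E`: `⁅y, e⁆ ∈ ⟨c⟩ ⊓ E ≤ ⟨z⟩`.  `j ∈ E - Z1` is not central: `⁅y0, j⁆ ∈ {z, c, c⁻¹}`;
if it is `c^±` then `(c^± j)² = 1`, `j` inverts `c`, `⁅c, j⁆ = c² = z`.  So some `s ∈ S` has `⁅s, j⁆ = z`; it acts on `E = Z1 ∪ j Z1` as the transvection.
`T` Sylow in `N(E)` containing `S ⊓ N(E)`; `cj k T ≤ S`... `E ≤ T`, apply the above to `cj k E`: two elements of `T - C(E)` act alike.  one_of_syl, two_act.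
fixU: `y` a 2-element of `N(E)`, `n ∈ N(S)`, `v ∈ Z1`.  `n = p r` with `p` a 2-element and `r` of odd order, both powers of `n`; `p ∈ S`, so `n v n⁻¹ = r v r⁻¹`.
`r` normalises `E` (odd_triv), two_act, Tv.odd_comm.
false: `U = closure {v⁻¹ n v n⁻¹}` `≤ Z1` is `N(S)`-invariant, `≠ ⊥` by t2 (`Y = ⟨c⟩`, `u ∈ Z1 - ⟨z⟩`, `R = S`).  nsc: `u ∈ U`, `j = g u g⁻¹ ∈ S - U`.  `j` central: burnside.
Else `E = Z1 ⟨j⟩` has order 16, `k` extremal, `E' = cj k E ≤ S`, `s` from e16 for `E`; `k s k⁻¹` is a 2-element of `N(E')`, centralises `U ∋ u = k j k⁻¹` (fixU), so `s` centralises `j`. -/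

set_option autoImplicit false
set_option linter.unusedSectionVars false
set_option linter.unusedVariables false

namespace CfsgLib.J3O
open Subgroup Cfsg CfsgLib.Tech CfsgLib.ACT
open scoped commutatorElement

variable {G : Type*} [Group G] [Finite G]

theorem Cy.fixU {S Z1 E : Subgroup G} {c : G} (h : Cy S Z1 c) (hE : E ≤ S) (he : El E)
    (hc : Nat.card E = 16) {y n v : G} (hy : y ∈ Nm E) (h2 : Two y) (hn : n ∈ Nm S) (hv : v ∈ Z1) :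
    v⁻¹ * (n * v * n⁻¹) ∈ Cx y := by
  obtain ⟨r, hr, ho, e⟩ : ∃ r ∈ Nm S, Odd (orderOf r) ∧ n * v * n⁻¹ = r * v * r⁻¹ := by
    obtain ⟨m, hm, hS⟩ := h.hy.odd_pow hn
    obtain ⟨k, o, ho, e⟩ := Nat.exists_eq_two_pow_mul_odd (orderOf_pos n).ne'
    have c1 : (2 ^ k).Coprime m := (Nat.coprime_two_left.2 hm).pow_left k
    obtain ⟨l, hl⟩ := (Nat.modEq_iff_dvd' (Nat.one_le_pow _ _ (by positivity))).1 (Nat.ModEq.pow_totient c1).symm
    obtain ⟨i, hi⟩ : 2 ^ k ∣ (2 ^ k) ^ m.totient := dvd_pow_self _ (Nat.totient_pos.2 hm.pos).ne'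
    have e1 : (2 ^ k) ^ m.totient = 1 + m * l := by
      have : 1 ≤ (2 ^ k) ^ m.totient := Nat.one_le_pow _ _ (by positivity)
      omega
    refine ⟨n ^ (2 ^ k) ^ m.totient, pow_mem hn _, ho.of_dvd_nat (orderOf_dvd_of_pow_eq_one ?_), ?_⟩
    · rw [← pow_mul, hi, mul_right_comm, ← e, pow_mul, pow_orderOf_eq_one, one_pow]
    · have c := mem_centralizer_iff.1 ((h.mem v).1 hv).2.1 _ (S.pow_mem hS l)
      rw [e1, pow_add, pow_one, pow_mul, mul_assoc n _ v, c]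
      group
  obtain ⟨s, -, hT, hd⟩ := h.e16 hE he hc
  have rE : r ∈ Nm E := mem_normalizer_of_forall fun a ha => by
    simpa using E.mul_mem ha (hT.le (h.odd_triv hr ho (hE ha)))
  obtain ⟨f1, f2⟩ := h.nfix hr
  have uE : v⁻¹ * (r * v * r⁻¹) ∈ E := hT.le (Z1.mul_mem (Z1.inv_mem hv) (conj_mem_of_mem_normalizer f2 hv))
  rw [e]
  rcases hd y hy h2 with k | ⟨g, hg, k⟩
  · exact mem_centralizer_singleton_iff.2 (mem_centralizer_iff.1 k _ uE)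
  · have k1 : Commute _ _ := mem_centralizer_singleton_iff.1 (hT.odd_comm hg rE f1 f2 ho hv)
    have k2 : Commute _ _ := mem_centralizer_iff.1 k _ uE
    have := k1.mul_right k2.inv_right
    rw [mul_inv_rev, inv_inv, mul_inv_cancel_left] at this
    exact mem_centralizer_singleton_iff.2 this

theorem Cy.false {S Z1 : Subgroup G} {c : G} (h : Cy S Z1 c) : False := by
  set U := closure {u | ∃ n ∈ Nm S, ∃ v ∈ Z1, u = v⁻¹ * (n * v * n⁻¹)} with hU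
  have UZ : U ≤ Z1 := (closure_le _).2 (by
    rintro _ ⟨n, hn, v, hv, rfl⟩
    exact Z1.mul_mem (Z1.inv_mem hv) (conj_mem_of_mem_normalizer (h.nfix hn).2 hv))
  have ZS : Z1 ≤ S := fun v hv => ((h.mem v).1 hv).1
  have ZC : Z1 ≤ Ct S := fun v hv => ((h.mem v).1 hv).2.1
  have Zel : El Z1 := fun v hv => ((h.mem v).1 hv).2.2
  have nU : ∀ n ∈ Nm S, ∀ u ∈ U, n * u * n⁻¹ ∈ U := fun n hn => cj_le_iff.1 (by
    rw [hU, cj, MonoidHom.map_closure]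
    refine closure_mono ?_
    rintro _ ⟨_, ⟨m, hm, v, hv, rfl⟩, rfl⟩
    refine ⟨n * m * n⁻¹, mul_mem (mul_mem hn hm) (inv_mem hn), n * v * n⁻¹,
      conj_mem_of_mem_normalizer (h.nfix hn).2 hv, ?_⟩
    simp only [MulEquiv.toMonoidHom_eq_coe, MonoidHom.coe_coe, MulAut.conj_apply]
    group)
  have U0 : U ≠ ⊥ := fun e => by
    obtain ⟨u, hu, hc⟩ : ∃ u ∈ Z1, u ∉ zpowers c := by
      by_contra k
      push Not at k
      have := card_le_of_le (show Z1 ≤ zpowers c from k)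
      rw [h.c1, Nat.card_zpowers, h.c4] at this
      omega
    obtain ⟨g, -, h2, h3⟩ := h.hy.t2 h.der (ZS hu) hc (Zel u hu) h.hy.two
      fun s hs => mem_centralizer_singleton_iff.2 (mem_centralizer_iff.1 (ZC hu) s hs)
    have : u⁻¹ * (g * u * g⁻¹) ∈ U := subset_closure ⟨g, mem_normalizer_of_cj_le h2, u, hu, rfl⟩
    rw [e, mem_bot] at this
    exact h3 (this ▸ one_mem _)
  obtain ⟨u, hu, g, jS, jU⟩ := h.hy.nsc U (UZ.trans ZS) U0 fun a ha b hb => Zel.ab a (UZ ha) b (UZ hb)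
  have uZ := UZ hu
  have jj : g * u * g⁻¹ * (g * u * g⁻¹) = 1 := by
    rw [show g * u * g⁻¹ * (g * u * g⁻¹) = g * (u * u) * g⁻¹ by group, Zel u uZ]; group
  by_cases jc : g * u * g⁻¹ ∈ Ct S
  · obtain ⟨n, hn, e⟩ := h.hy.burnside (ZS uZ) (ZC uZ) rfl jc
    refine jU ?_
    have := nU n⁻¹ (inv_mem hn) u hu
    rwa [show n⁻¹ * u * n⁻¹⁻¹ = g * u * g⁻¹ by conv_lhs => rw [← e]
                                               group] at this
  obtain ⟨k, ek, hk⟩ := h.hy.extremal (ZS uZ) (ZC uZ) (t := g * u * g⁻¹) rfl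
  generalize g * u * g⁻¹ = j at jS jU jj jc ek hk
  have jZ : j ∈ Ct Z1 := le_ct_comm.1 ZC jS
  have jZ' : j ∉ Z1 := fun e => jc (ZC e)
  have el := el_sup_zp Zel jZ jj
  have cd := (card_sup_zp (ct_le_nm _ jZ) jZ' (by rw [jj]; exact one_mem _)).1
  rw [h.c1] at cd
  have jE : j ∈ Z1 ⊔ zpowers j := mem_sup_right (mem_zpowers j)
  have ES : Z1 ⊔ zpowers j ≤ S := sup_le ZS (zpowers_le.2 jS)
  obtain ⟨s, hs, hT, -⟩ := h.e16 ES el cd
  have le : U ≤ Cx (k * s * k⁻¹) := (closure_le _).2 (by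
    rintro _ ⟨n, hn, v, hv, rfl⟩
    refine h.fixU (E := cj k (Z1 ⊔ zpowers j)) (cj_le_iff.2 fun a ha => hk a (ES ha) (el.ab a ha j jE))
      (fun a ha => ?_) (by rw [card_cj, cd]) ?_ ((two_of_mem h.hy.two hs).conj k) hn hv
    · have := el _ (mem_cj.1 ha)
      calc a * a = k * (k⁻¹ * a * k * (k⁻¹ * a * k)) * k⁻¹ := by group
        _ = 1 := by rw [this]; group
    · rw [Nm, ← cj_normalizer]
      exact conj_mem_cj.2 hT.nm)
  have c1 := mem_centralizer_singleton_iff.1 (le hu)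
  have c2 : s * j * s⁻¹ = j := by
    calc s * j * s⁻¹ = k⁻¹ * (k * s * k⁻¹ * (k * j * k⁻¹)) * k * s⁻¹ := by group
      _ = k⁻¹ * (k * j * k⁻¹ * (k * s * k⁻¹)) * k * s⁻¹ := by rw [ek, c1]
      _ = j := by group
  rw [hT.mov j jE jZ'] at c2
  exact hT.w1 (by simpa using c2)

end CfsgLib.J3O
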