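import Mathlib
import Cfsg.Agent.Lib.ACT.Bas
import Cfsg.Agent.Lib.Sect.Basic

/-! Definitions for S3228 (Sylow 2-subgroups of order 128).  See `plans/J3O.md`. -/

set_option autoImplicit false

namespace CfsgLib.J3O
open Subgroup Cfsg CfsgLib.Tech CfsgLib.ACT
open scoped commutatorElement

variable {G : Type*} [Group G]

/-- The standing hypothesis on the Sylow 2-subgroup `S`. -/
structure Hy (S : Subgroup G) : Prop where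
  syl : IsSylowIn 2 S ⊤
  card : Nat.card S = 128
  n7 : ¬ 7 ∣ Nat.card G
  idx : ∀ M : Subgroup G, M.index ≠ 2
  nsc : ∀ A ≤ S, A ≠ ⊥ → Ab A → ∃ a ∈ A, ∃ g : G, g * a * g⁻¹ ∈ S ∧ g * a * g⁻¹ ∉ A
  cls : ∃ a ∈ S, ∃ b ∈ S, ∃ c ∈ S, ⁅⁅a, b⁆, c⁆ ≠ 1

/-- An elementary abelian subgroup of order 32 of `S`. -/
structure E32 (S E : Subgroup G) : Prop where
  le : E ≤ S
  el : El E
  card : Nat.card E = 32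

/-- `A` has order 64 and all its squares lie in the central subgroup `⟨z⟩` of `S`. -/
structure Al (S A : Subgroup G) (z : G) : Prop where
  hy : Hy S
  le : A ≤ S
  card : Nat.card A = 64
  zA : z ∈ A
  z1 : z ≠ 1
  z2 : z * z = 1
  cen : z ∈ Ct S
  sq : ∀ a ∈ A, a * a = 1 ∨ a * a = z

/-- `Y / ⟨z⟩` is the image and `A1 / ⟨z⟩` the kernel of `a ↦ ⁅a, x⁆` on `A / ⟨z⟩`. -/
structure YA (S A Y A1 : Subgroup G) (z x : G) : Prop where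
  zY : z ∈ Y
  YA1 : Y ≤ A1
  A1A : A1 ≤ A
  mem1 : ∀ a ∈ A, a ∈ A1 ↔ ⁅a, x⁆ = 1 ∨ ⁅a, x⁆ = z
  memY : ∀ y, y ∈ Y ↔ ∃ a ∈ A, y = ⁅a, x⁆ ∨ y = ⁅a, x⁆ * z
  card : Nat.card Y * Nat.card A1 = 128
  le8 : Nat.card Y ≤ 8
  der : ∀ a ∈ S, ∀ b ∈ S, ⁅a, b⁆ ∈ Y
  cen : ∀ y ∈ Y, ∀ s ∈ S, ⁅y, s⁆ = 1 ∨ ⁅y, s⁆ = z

/-- Involutions of `N(E) / C(E)` which commute are equal. -/
def One (E : Subgroup G) : Prop :=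
  ∀ a ∈ Nm E, ∀ b ∈ Nm E, a ∉ Ct E → b ∉ Ct E → a * a ∈ Ct E → b * b ∈ Ct E → ⁅a, b⁆ ∈ Ct E →
    a⁻¹ * b ∈ Ct E

/-- `s` induces on `E` the transvection with axis `Y` and centre `w`. -/
structure Tv (E Y : Subgroup G) (s w : G) : Prop where
  el : El E
  le : Y ≤ E
  nm : s ∈ Nm E
  wY : w ∈ Y
  w1 : w ≠ 1
  fix : ∀ e ∈ Y, s * e * s⁻¹ = e
  mov : ∀ e ∈ E, e ∉ Y → s * e * s⁻¹ = e * w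
  ne : ∃ e ∈ E, e ∉ Y
  one : One E

/-- The data of the case without `E₃₂`. -/
structure N3 (S A B : Subgroup G) (z t x s : G) : Prop where
  al : Al S A z
  no : ∀ E, ¬ E32 S E
  BA : B ≤ A
  el : El B
  cB : Nat.card B = 16
  tB : t ∈ B
  zB : z ∈ B
  xS : x ∈ S
  xA : x ∉ A
  x2 : x * x = 1 ∨ x * x = t
  xt : x * t = t * x
  xB : ∀ b ∈ B, ⁅b, x⁆ = 1 ∨ ⁅b, x⁆ = t
  sA : s ∈ A
  st : ⁅s, t⁆ = z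

/-- `S' = ⟨c⟩` is cyclic of order four, `Z(S)` has order 16 and `Z1 = Ω₁ Z(S)` has order 8. -/
structure Cy (S Z1 : Subgroup G) (c : G) : Prop where
  hy : Hy S
  no : ∀ E, ¬ E32 S E
  cS : c ∈ S
  c4 : orderOf c = 4
  der : ∀ a ∈ S, ∀ b ∈ S, ⁅a, b⁆ ∈ zpowers c
  cZ : Nat.card (S ⊓ Ct S : Subgroup G) = 16
  c1 : Nat.card Z1 = 8
  mem : ∀ v, v ∈ Z1 ↔ v ∈ S ∧ v ∈ Ct S ∧ v * v = 1

/-- Two `E₃₂` which generate `D₈ × E₈`. -/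
structure M2 (S E1 E2 : Subgroup G) (e1 e2 z : G) : Prop where
  al : Al S (E1 ⊔ E2) z
  h1 : E32 S E1
  h2 : E32 S E2
  c0 : Nat.card (E1 ⊓ E2 : Subgroup G) = 16
  m1 : e1 ∈ E1
  n1 : e1 ∉ E2
  m2 : e2 ∈ E2
  n2 : e2 ∉ E1
  ze : ⁅e1, e2⁆ = z
  z0 : z ∈ E1 ⊓ E2
  nm1 : E1 ⊔ E2 ≤ Nm E1
  nm2 : E1 ⊔ E2 ≤ Nm E2
  dec1 : ∀ a ∈ E1, a ∈ E1 ⊓ E2 ∨ e1 * a ∈ E1 ⊓ E2
  dec2 : ∀ a ∈ E2, a ∈ E1 ⊓ E2 ∨ e2 * a ∈ E1 ⊓ E2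
  dec : ∀ a ∈ E1 ⊔ E2, ∃ v ∈ E1 ⊓ E2, a = v ∨ a = e1 * v ∨ a = e2 * v ∨ a = e1 * e2 * v
  inv : ∀ a ∈ E1 ⊔ E2, a * a = 1 → a ∈ E1 ∨ a ∈ E2
  cen : ∀ a ∈ E1 ⊔ E2, a ∈ Ct (E1 ⊔ E2) ↔ a ∈ E1 ⊓ E2
  two : ∀ E, E32 S E → E ≤ E1 ⊔ E2 → E = E1 ∨ E = E2

/-- A unique `E₃₂`. -/
structure Un (S E : Subgroup G) : Prop where
  hy : Hy S
  e : E32 S E
  uniq : ∀ E', E32 S E' → E' = E

/-- The frame of an involution `t` outside the unique `E₃₂`: `V = C_E(t)`, `W = [E, t]`,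
`M = E ⟨t⟩`, `⟨z⟩ = [V, S]`. -/
structure Bt (S E V W : Subgroup G) (t z : G) : Prop where
  un : Un S E
  nE : S ≤ Nm E
  self : ∀ s ∈ S, s ∈ Ct E → s ∈ E
  tS : t ∈ S
  tE : t ∉ E
  t2 : t * t = 1
  memV : ∀ v, v ∈ V ↔ v ∈ E ∧ v * t = t * v
  memW : ∀ w, w ∈ W ↔ ∃ e ∈ E, w = ⁅e, t⁆
  cV : Nat.card V = 8
  cW : Nat.card W = 4
  WV : W ≤ V
  cM : Nat.card (E ⊔ zpowers t : Subgroup G) = 64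
  memM : ∀ m, m ∈ E ⊔ zpowers t ↔ m ∈ E ∨ m * t ∈ E
  nV : S ≤ Nm V
  nW : S ≤ Nm W
  tc : ∀ s ∈ S, ⁅s, t⁆ ∈ V
  zW : z ∈ W
  z1 : z ≠ 1
  zc : z ∈ Ct S
  mov : ∀ v ∈ V, ∀ s ∈ S, ⁅v, s⁆ = 1 ∨ ⁅v, s⁆ = z
  mov' : ∀ x ∈ S, x ∉ E ⊔ zpowers t → ∃ v ∈ V, ⁅v, x⁆ = z
  ZV : S ⊓ Ct S ≤ V
  cZ : Nat.card (S ⊓ Ct S : Subgroup G) = 4

end CfsgLib.J3O
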