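import Cfsg.Agent.Lib.J3O.Bas

/-! FIX.  fix3: the image `X` of `N0` in `MulAut Z0` (or `Perm Z0`) is a 3-group: if a prime `p` divides the order of an element, `p ≠ 2, 7`, a power of order `p` has a
fixed subgroup containing `z` of order `2, 4, 8` and `≡ 16 mod p` (`IsPGroup.card_modEq_card_fixedPoints`), so `p = 3`.  The fixed subgroup of `X` has order `≡ 16 mod 3`, divides 16, is `≠ 1`.
exists_f: `F = Z0 ⊓ C(N0)` is `x`-invariant.  `β v = ⁅v, x⁆ = v x v x⁻¹` is an endomorphism of `Z0` with `β β = 1`; `C1 = β⁻¹ ⟨z⟩`, `Y0 = β(Z0) ⟨z⟩ ≤ C1`, `|Y0| |C1| = 32`,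
so `|Y0| ≤ 4`, `|C1| ≥ 8`.  `F = Z0`: `f ∈ C1 - Y0`.  `|F| = 4`: `F = {1, z, f, f z} ≤ C1`; if `f ∉ Y0` done.  Else `Y0 = F`, `|C1| = 8`.  For `n ∈ N0`, `k = ⁅n, x⁆ ∈ N0` acts trivially on
`Z0 / F` (`x` does, `n` normalises `F`) and on `F`, so `k² ∈ C(Z0)`, so `k ∈ C(Z0)` (odd).  Thus `n` normalises `C1`; `v⁻¹ v^n ∈ C1` and `∈ F` (coset2 twice), `n² ∈ C(Z0)`, `n ∈ C(Z0)`: `F = Z0`. -/

set_option autoImplicit false
set_option linter.unusedSectionVars false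
set_option linter.unusedVariables false

namespace CfsgLib.J3O
open Subgroup Cfsg CfsgLib.Tech CfsgLib.ACT
open scoped commutatorElement

variable {G : Type*} [Group G] [Finite G]

private theorem fix_mod {Z : Type*} [Group Z] [Finite Z] (hc : Nat.card Z = 16) {p : ℕ} (hp : p.Prime)
    {X : Subgroup (MulAut Z)} (hX : IsPGroup p X) {z : Z} (hz1 : z ≠ 1) (hz : ∀ σ ∈ X, σ z = z) :
    16 ≡ Nat.card (FixedPoints.subgroup X Z) [MOD p] ∧ (Nat.card (FixedPoints.subgroup X Z) = 2 ∨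
      Nat.card (FixedPoints.subgroup X Z) = 4 ∨ Nat.card (FixedPoints.subgroup X Z) = 8 ∨ X = ⊥) ∧
      (X = ⊥ ∨ Nat.card (FixedPoints.subgroup X Z) ≠ 16) := by
  haveI := Fact.mk hp
  have h1 : 16 ≡ Nat.card (FixedPoints.subgroup X Z) [MOD p] := hc ▸ hX.card_modEq_card_fixedPoints Z
  have h2 : Nat.card (FixedPoints.subgroup X Z) ∣ 2 ^ 4 := by
    have := card_subgroup_dvd_card (FixedPoints.subgroup X Z)
    rwa [hc] at this
  have h3 : Nat.card (FixedPoints.subgroup X Z) ≠ 1 := fun e =>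
    hz1 ((eq_bot_iff_forall _).1 (card_eq_one.1 e) z fun σ => hz σ σ.2)
  have h4 : Nat.card (FixedPoints.subgroup X Z) = 16 → X = ⊥ := fun e => by
    have := eq_top_of_card_eq _ (e.trans hc.symm)
    refine (eq_bot_iff_forall _).2 fun σ hσ => MulEquiv.ext fun v => ?_
    exact (this.ge (mem_top v) : v ∈ FixedPoints.subgroup X Z) ⟨σ, hσ⟩
  refine ⟨h1, ?_, by tauto⟩
  obtain ⟨i, hi, e⟩ := (Nat.dvd_prime_pow Nat.prime_two).1 h2
  interval_cases i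
  · exact absurd e h3
  · exact Or.inl e
  · exact Or.inr (Or.inl e)
  · exact Or.inr (Or.inr (Or.inl e))
  · exact Or.inr (Or.inr (Or.inr (h4 e)))

theorem fix3 {Z0 N0 : Subgroup G} {z : G} (h7 : ¬ 7 ∣ Nat.card G) (he : El Z0) (hc : Nat.card Z0 = 16)
    (hz : z ∈ Z0) (hz1 : z ≠ 1) (hN : N0 ≤ Nm Z0) (hNz : N0 ≤ Cx z)
    (ho : ∀ n ∈ N0, ∃ m : ℕ, Odd m ∧ n ^ m ∈ Ct Z0) :
    Nat.card (Z0 ⊓ Ct N0 : Subgroup G) = 4 ∨ N0 ≤ Ct Z0 := by
  let f : N0 →* MulAut Z0 := Z0.normalizerMonoidHom.comp (inclusion hN)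
  have fv : ∀ (n : N0) (v : Z0), (f n v : G) = n * v * (n : G)⁻¹ := fun _ _ => rfl
  have f1 : ∀ n : N0, f n = 1 ↔ (n : G) ∈ Ct Z0 := fun n => by
    rw [mem_centralizer_iff]
    refine ⟨fun e v hv => ?_, fun e => MulEquiv.ext fun v => Subtype.ext ?_⟩
    · have := fv n ⟨v, hv⟩
      rw [e] at this
      exact (mul_inv_eq_iff_eq_mul.1 this.symm).symm
    · rw [fv, ← e v v.2, mul_inv_cancel_right]; rfl
  have hz1' : (⟨z, hz⟩ : Z0) ≠ 1 := fun e => hz1 (congrArg Subtype.val e)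
  have fz : ∀ σ ∈ f.range, σ ⟨z, hz⟩ = ⟨z, hz⟩ := by
    rintro _ ⟨n, rfl⟩
    refine Subtype.ext ?_
    rw [fv, mem_centralizer_singleton_iff.1 (hNz n.2), mul_inv_cancel_right]
  have h3 : IsPGroup 3 f.range := by
    refine IsPGroup.of_card (Nat.eq_prime_pow_of_unique_prime_dvd Nat.card_pos.ne' fun {p} hp hd => ?_)
    haveI := Fact.mk hp
    obtain ⟨⟨σ, hσ0⟩, hσ⟩ := exists_prime_orderOf_dvd_card' p hd
    rw [orderOf_mk] at hσ
    obtain ⟨n, rfl⟩ := hσ0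
    have p2 : p ≠ 2 := by
      rintro rfl
      obtain ⟨m, hm, e⟩ := ho n n.2
      have : f n ^ m = 1 := by rw [← map_pow, f1]; exact e
      exact (Nat.not_even_iff_odd.2 hm) (even_iff_two_dvd.2 (hσ ▸ orderOf_dvd_of_pow_eq_one this))
    have p7 : p ≠ 7 := by
      rintro rfl
      exact h7 (hd.trans ((card_range_dvd f).trans (card_subgroup_dvd_card N0)))
    obtain ⟨k1, k2, -⟩ := fix_mod hc hp (X := zpowers (f n))
      (IsPGroup.of_card (n := 1) (by rw [Nat.card_zpowers, hσ, pow_one])) hz1'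
      fun σ hσ => fz σ (zpowers_le.2 (show f n ∈ f.range from ⟨n, rfl⟩) hσ)
    rcases k2 with k | k | k | k
    · rw [k] at k1
      have : p ∣ 2 * 7 := (Nat.modEq_iff_dvd' (by norm_num)).1 k1.symm
      rcases (Nat.Prime.dvd_mul hp).1 this with e | e
      · exact absurd ((Nat.prime_dvd_prime_iff_eq hp Nat.prime_two).1 e) p2
      · exact absurd ((Nat.prime_dvd_prime_iff_eq hp (by norm_num)).1 e) p7
    · rw [k] at k1
      have : p ∣ 2 ^ 2 * 3 := (Nat.modEq_iff_dvd' (by norm_num)).1 k1.symm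
      rcases (Nat.Prime.dvd_mul hp).1 this with e | e
      · exact absurd ((Nat.prime_dvd_prime_iff_eq hp Nat.prime_two).1 (hp.dvd_of_dvd_pow e)) p2
      · exact (Nat.prime_dvd_prime_iff_eq hp Nat.prime_three).1 e
    · rw [k] at k1
      have : p ∣ 2 ^ 3 := (Nat.modEq_iff_dvd' (by norm_num)).1 k1.symm
      exact absurd ((Nat.prime_dvd_prime_iff_eq hp Nat.prime_two).1 (hp.dvd_of_dvd_pow this)) p2
    · rw [zpowers_eq_bot] at k
      rw [k, orderOf_one] at hσ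
      exact absurd hσ.symm hp.one_lt.ne'
  obtain ⟨k1, k2, -⟩ := fix_mod hc Nat.prime_three h3 hz1' fz
  have e : (FixedPoints.subgroup f.range Z0).map Z0.subtype = Z0 ⊓ Ct N0 := by
    ext v
    constructor
    · rintro ⟨v, hv, rfl⟩
      refine ⟨v.2, mem_centralizer_iff.2 fun n hn => ?_⟩
      have : (f ⟨n, hn⟩ v : G) = v := congrArg Subtype.val (hv ⟨_, ⟨n, hn⟩, rfl⟩)
      rw [fv] at this
      exact mul_inv_eq_iff_eq_mul.1 this
    · rintro ⟨hv, hv'⟩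
      refine ⟨⟨v, hv⟩, ?_, rfl⟩
      rintro ⟨_, n, rfl⟩
      refine Subtype.ext ((fv n ⟨v, hv⟩).trans ?_)
      rw [mem_centralizer_iff.1 hv' n n.2, mul_inv_cancel_right]
  rcases k2 with k | k | k | k
  · rw [k] at k1; exact absurd k1 (by decide)
  · left; rw [← e, card_map_of_injective Z0.subtype_injective, k]
  · rw [k] at k1; exact absurd k1 (by decide)
  · exact Or.inr fun n hn => (f1 ⟨n, hn⟩).1 ((eq_bot_iff_forall _).1 k _ ⟨_, rfl⟩)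

private theorem cnt {Z0 : Subgroup G} {z x : G} (he : El Z0) (hc : Nat.card Z0 = 16) (hz : z ∈ Z0) (hz1 : z ≠ 1)
    (hx : x ∈ Nm Z0) : ∃ C Y : Subgroup G, C ≤ Z0 ∧ (∀ v ∈ Z0, v ∈ C ↔ ⁅v, x⁆ = 1 ∨ ⁅v, x⁆ = z) ∧
      (∀ y, y ∈ Y ↔ ∃ v ∈ Z0, y = ⁅v, x⁆ ∨ y = ⁅v, x⁆ * z) ∧ Nat.card Y * Nat.card C = 32 := by
  have hab := he.ab
  have cx : ∀ v ∈ Z0, x * v * x⁻¹ ∈ Z0 := fun v hv => (mem_normalizer_iff.1 hx v).1 hv
  have hm : ∀ v ∈ Z0, ⁅v, x⁆ ∈ Z0 := fun v hv => by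
    have := mul_mem hv (cx _ (inv_mem hv))
    rwa [commutatorElement_def, mul_assoc, mul_assoc, ← mul_assoc x]
  let β : Z0 →* Z0 := MonoidHom.mk' (fun v => ⟨⁅(v : G), x⁆, hm v v.2⟩) fun u v => Subtype.ext (by
    have := hab _ (hm v v.2) _ (cx _ (inv_mem u.2))
    calc ⁅(u : G) * v, x⁆ = u * (⁅(v : G), x⁆ * (x * (u : G)⁻¹ * x⁻¹)) := by simp only [commutatorElement_def]; group
      _ = _ := by rw [this]; simp only [commutatorElement_def, coe_mul]; group)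
  have βv : ∀ v : Z0, (β v : G) = ⁅(v : G), x⁆ := fun _ => rfl
  let D : Subgroup Z0 := zpowers ⟨z, hz⟩
  have o2 : orderOf (⟨z, hz⟩ : Z0) = 2 := by rw [orderOf_mk]; exact ord_two (he z hz) hz1
  have mD : ∀ v : Z0, v ∈ D ↔ (v : G) = 1 ∨ (v : G) = z := fun v =>
    ⟨fun h => (bas_zp o2 h).imp (congrArg Subtype.val) (congrArg Subtype.val), by
      rintro (h | h)
      · rw [show v = 1 from Subtype.ext h]; exact one_mem _
      · rw [show v = ⟨z, hz⟩ from Subtype.ext h]; exact mem_zpowers _⟩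
  haveI : D.Normal := ⟨fun a ha g => by
    rwa [show g * a * g⁻¹ = a from Subtype.ext (by
      rw [coe_mul, coe_mul, coe_inv, hab _ g.2 _ a.2, mul_inv_cancel_right])]⟩
  let q := (QuotientGroup.mk' D).comp β
  refine ⟨q.ker.map Z0.subtype, (q.range.comap (QuotientGroup.mk' D)).map Z0.subtype, map_subtype_le _,
    fun v hv => ?_, fun y => ?_, ?_⟩
  · rw [show v = Z0.subtype ⟨v, hv⟩ from rfl, mem_map_iff_mem Z0.subtype_injective, MonoidHom.mem_ker,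
      MonoidHom.comp_apply, QuotientGroup.mk'_apply, QuotientGroup.eq_one_iff, mD]
    rfl
  · constructor
    · rintro ⟨y, ⟨v, e⟩, rfl⟩
      refine ⟨v, v.2, ?_⟩
      have := (mD _).1 (QuotientGroup.eq.1 e)
      rw [coe_mul, coe_inv, inv_mul_eq_one, inv_mul_eq_iff_eq_mul, βv] at this
      exact this.imp Eq.symm id
    · rintro ⟨v, hv, e⟩
      have hy : y ∈ Z0 := by
        rcases e with rfl | rfl
        exacts [hm v hv, mul_mem (hm v hv) hz]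
      refine ⟨⟨y, hy⟩, ⟨⟨v, hv⟩, QuotientGroup.eq.2 ((mD _).2 ?_)⟩, rfl⟩
      rw [coe_mul, coe_inv, inv_mul_eq_one, inv_mul_eq_iff_eq_mul, βv]
      exact e.imp Eq.symm id
  · rw [card_map_of_injective Z0.subtype_injective, card_map_of_injective Z0.subtype_injective]
    have h1 : Nat.card (q.range.comap (QuotientGroup.mk' D)) = Nat.card D * Nat.card q.range :=
      QuotientGroup.card_preimage_mk D q.range
    have h2 := q.ker.card_mul_index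
    rw [index_ker, hc] at h2
    rw [h1, Nat.card_zpowers, o2, mul_assoc, mul_comm (Nat.card q.range), h2]
    norm_num

theorem exists_f {Z0 N0 : Subgroup G} {z x : G} (h7 : ¬ 7 ∣ Nat.card G) (he : El Z0)
    (hc : Nat.card Z0 = 16) (hz : z ∈ Z0) (hz1 : z ≠ 1) (hN : N0 ≤ Nm Z0) (hNz : N0 ≤ Cx z)
    (ho : ∀ n ∈ N0, ∃ m : ℕ, Odd m ∧ n ^ m ∈ Ct Z0) (hx : x ∈ Nm Z0) (hxz : x * z = z * x)
    (hx2 : x * x ∈ Ct Z0) (hxN : x ∈ Nm N0) :
    ∃ f ∈ Z0, f ∈ Ct N0 ∧ (⁅f, x⁆ = 1 ∨ ⁅f, x⁆ = z) ∧ ∀ v ∈ Z0, f ≠ ⁅v, x⁆ ∧ f ≠ ⁅v, x⁆ * z := by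
  obtain ⟨C, Y, hC, mC, mY, cYC⟩ := cnt he hc hz hz1 hx
  have hab := he.ab
  have inv : ∀ v ∈ Z0, v⁻¹ = v := fun v hv => inv_eq_of_mul_eq_one_right (he v hv)
  have cx : ∀ v ∈ Z0, x * v * x⁻¹ ∈ Z0 := fun v hv => (mem_normalizer_iff.1 hx v).1 hv
  have cm : ∀ v ∈ Z0, ⁅v, x⁆ = v * (x * v * x⁻¹) := fun v hv => by
    rw [commutatorElement_def, inv v hv]; group
  have xz : x * z * x⁻¹ = z := by rw [hxz, mul_inv_cancel_right]
  have YC : Y ≤ C := fun y hy => by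
    obtain ⟨v, hv, e⟩ := (mY y).1 hy
    have h1 : x * ⁅v, x⁆ * x⁻¹ = ⁅v, x⁆ := by
      rw [cm v hv, hab _ hv _ (cx v hv)]
      calc _ = x * (x * v * x⁻¹ * v) * x⁻¹ := by group
        _ = (x * x) * v * (x * x)⁻¹ * (x * v * x⁻¹) := by group
        _ = _ := by rw [← mem_centralizer_iff.1 hx2 v hv, mul_inv_cancel_right, hab _ hv _ (cx v hv)]
    have h2 : ⁅v, x⁆ ∈ Z0 := by rw [cm v hv]; exact mul_mem hv (cx v hv)
    have h3 : y ∈ Z0 ∧ x * y * x⁻¹ = y := by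
      rcases e with rfl | rfl
      · exact ⟨h2, h1⟩
      · refine ⟨mul_mem h2 hz, ?_⟩
        conv_rhs => rw [← h1, ← xz]
        group
    rw [mC y h3.1, cm y h3.1, h3.2]
    exact Or.inl (he y h3.1)
  have c1 := card_le_of_le YC
  have fin : ∀ f ∈ C, f ∉ Y → f ∈ Ct N0 → ∃ f ∈ Z0, f ∈ Ct N0 ∧ (⁅f, x⁆ = 1 ∨ ⁅f, x⁆ = z) ∧
      ∀ v ∈ Z0, f ≠ ⁅v, x⁆ ∧ f ≠ ⁅v, x⁆ * z := fun f hf hfY hfN =>
    ⟨f, hC hf, hfN, (mC f (hC hf)).1 hf, fun v hv =>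
      ⟨fun e => hfY ((mY f).2 ⟨v, hv, Or.inl e⟩), fun e => hfY ((mY f).2 ⟨v, hv, Or.inr e⟩)⟩⟩
  have c2 : Nat.card Y ≤ 5 := by nlinarith
  rcases fix3 h7 he hc hz hz1 hN hNz ho with h4 | h4
  swap
  · obtain ⟨f, hf, hfY⟩ : ∃ f ∈ C, f ∉ Y := by
      by_contra! hh
      have c3 : Nat.card C ≤ Nat.card Y := card_le_of_le hh
      nlinarith
    exact fin f hf hfY (le_ct_comm.1 h4 (hC hf))
  set F := Z0 ⊓ Ct N0 with hF
  have zF : z ∈ F := ⟨hz, mem_centralizer_iff.2 fun n hn => mem_centralizer_singleton_iff.1 (hNz hn)⟩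
  have o2 : orderOf z = 2 := ord_two (he z hz) hz1
  have xF : ∀ f ∈ F, x * f * x⁻¹ ∈ F := fun f hf => ⟨cx f hf.1, mem_centralizer_iff.2 fun n hn => by
    have := mem_centralizer_iff.1 hf.2 _ ((mem_normalizer_iff.1 (inv_mem hxN) n).1 hn)
    calc _ = x * (x⁻¹ * n * x⁻¹⁻¹ * f) * x⁻¹ := by group
      _ = _ := by rw [this]; group⟩
  have FC : F ≤ C := fun f hf => by
    rw [mC f hf.1, cm f hf.1]
    by_cases h1 : f ∈ zpowers z
    · rcases bas_zp o2 h1 with rfl | rfl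
      · simp
      · rw [xz]; exact Or.inl (he _ hz)
    refine bas_zp o2 (idx2_mul (zpowers_le.2 zF) (by rw [h4, Nat.card_zpowers, o2]) hf (xF f hf) h1 fun h2 => h1 ?_)
    rcases bas_zp o2 h2 with e | e
    · rw [conj_eq_one_iff.1 e]; exact one_mem _
    · rw [← xz, mul_left_inj, mul_right_inj] at e
      rw [e]; exact mem_zpowers _
  by_cases hFY : F ≤ Y
  swap
  · obtain ⟨f, hf, hfY⟩ := SetLike.not_le_iff_exists.1 hFY
    exact fin f (FC hf) hfY hf.2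
  exfalso
  have c3 := card_le_of_le hFY
  have c4 : Nat.card Y = 4 := by
    rcases (by omega : Nat.card Y = 4 ∨ Nat.card Y = 5) with e | e
    · exact e
    · rw [e] at cYC; omega
  have c5 : Nat.card C = 8 := by rw [c4] at cYC; omega
  have eY : F = Y := eq_of_le_of_card_ge hFY (by rw [c4, h4])
  have βF : ∀ v ∈ Z0, ⁅v, x⁆ ∈ F := fun v hv => eY ▸ (mY _).2 ⟨v, hv, Or.inl rfl⟩
  have nF : ∀ n ∈ N0, ∀ f ∈ F, n * f * n⁻¹ = f := fun n hn f hf => by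
    rw [mem_centralizer_iff.1 hf.2 n hn, mul_inv_cancel_right]
  have triv : ∀ n ∈ N0, (∀ v ∈ Z0, v⁻¹ * (n * v * n⁻¹) ∈ F) → n ∈ Ct Z0 := fun n hn hv => by
    obtain ⟨_, ⟨m, rfl⟩, e⟩ := ho n hn
    have h2 : n ^ 2 ∈ Ct Z0 := mem_centralizer_iff.2 fun v hv' => by
      have h1 := nF n hn _ (hv v hv')
      have h3 := he _ (hv v hv').1
      symm
      rw [← mul_inv_eq_iff_eq_mul, sq]
      calc _ = v * (v⁻¹ * (n * v * n⁻¹)) * (n * (v⁻¹ * (n * v * n⁻¹)) * n⁻¹) := by group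
        _ = v := by rw [h1, mul_assoc, h3, mul_one]
    rwa [pow_succ, pow_mul, mul_mem_cancel_left (pow_mem h2 m)] at e
  have nZ : ∀ n ∈ N0, ∀ v ∈ Z0, n * v * n⁻¹ ∈ Z0 := fun n hn v hv => (mem_normalizer_iff.1 (hN hn) v).1 hv
  have kC : ∀ n ∈ N0, n * x * n⁻¹ * x⁻¹ ∈ Ct Z0 := fun n hn => by
    refine triv _ ?_ fun v hv => ?_
    · have := mul_mem hn ((mem_normalizer_iff.1 hxN _).1 (inv_mem hn))
      rwa [← mul_assoc, ← mul_assoc] at this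
    · have hw : x⁻¹ * v * x ∈ Z0 := by simpa using (mem_normalizer_iff.1 (inv_mem hx) v).1 hv
      have hu : n⁻¹ * (x⁻¹ * v * x) * n ∈ Z0 := by simpa using nZ _ (inv_mem hn) _ hw
      have h1 := βF _ hw
      have h2 := βF _ hu
      have h3 := nF n hn _ h2
      rw [← h3, cm _ hu] at h2
      rw [cm _ hw] at h1
      have h5 := mul_mem (inv_mem h1) h2
      have h6 : v⁻¹ * (n * x * n⁻¹ * x⁻¹ * v * (n * x * n⁻¹ * x⁻¹)⁻¹) = (x⁻¹ * v * x * (x * (x⁻¹ * v * x) * x⁻¹))⁻¹ *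
        (n * (n⁻¹ * (x⁻¹ * v * x) * n * (x * (n⁻¹ * (x⁻¹ * v * x) * n) * x⁻¹)) * n⁻¹) := by group
      rwa [h6]
  have nC : ∀ n ∈ N0, n ∈ Nm C := fun n hn => mem_normalizer_fintype fun v hv => by
    have hv' := hC hv
    have hw := nZ n hn v hv'
    have h1 : ⁅n * v * n⁻¹, x⁆ = n * ⁅v, x⁆ * n⁻¹ := by
      have := mem_centralizer_iff.1 (kC n hn) _ (cx _ hw)
      rw [cm _ hw, cm _ hv', ← mul_inv_cancel_right (x * (n * v * n⁻¹) * x⁻¹) (n * x * n⁻¹ * x⁻¹), this]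
      group
    refine (mC _ hw).2 ?_
    rw [h1, nF n hn _ (βF v hv')]
    exact (mC v hv').1 hv
  have all : N0 ≤ Ct Z0 := fun n hn => triv n hn fun v hv => by
    obtain ⟨m, hm, e⟩ := ho n hn
    have e' := (mem_centralizer_iff.1 e v hv).symm
    have nF' : n ∈ Nm F := mem_normalizer_fintype fun f hf => by rw [nF n hn f hf]; exact hf
    exact coset2 FC (by rw [c5, h4]) nF' (nC n hn) hm e'
      (coset2 hC (by rw [hc, c5]) (nC n hn) (hN hn) hm e' (mul_mem (inv_mem hv) (nZ n hn v hv)))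
  rw [hF, inf_eq_left.2 (le_ct_comm.1 all), hc] at h4
  exact absurd h4 (by norm_num)

end CfsgLib.J3O
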