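import Mathlib
import Cfsg.Agent.S2135
import Cfsg.Agent.Lib.J3O.Defs

/-! J3T.  Transport S2135 along the isomorphism: all involutions of `G` are conjugate, and every involution `z` has `C(z) ⊵ Q`
extraspecial of order 32 with `C(z) / Q ≅ A₅`.  `Z(S)` has only one involution: let `z ≠ v` be involutions of `Z(S)`, `C = C(z) ≥ S ≥ Q`,
`Z(Q) = Q' = ⟨z⟩`.  `v` centralises `Q`, `v ∉ Q`, so `D = C_C(Q)` covers the simple group `C / Q`, `S = Q (S ⊓ D)`, `S ⊓ D` has order at most 8 and central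
elements `z, v`, so it is abelian and `S' = ⟨z⟩`.  By Burnside `v = n z n⁻¹` with `n ∈ N(S)`, which fixes `z`.
(The J3 library, S0455 S0456 S2228, may have `C_C(Q) ≤ Q` directly.) -/

set_option autoImplicit false

namespace CfsgLib.J3O
open Cfsg Subgroup

theorem concl_of_j3 {G : Type*} [Group G] [Finite G] (h : Spor.IsoJ3 G) (S : Sylow 2 G) :
    IsCyclic ↥(Subgroup.center ↥(S : Subgroup G)) ∧
      ∀ z : G, z ∈ (S : Subgroup G) → (∀ s ∈ (S : Subgroup G), s * z = z * s) → orderOf z = 2 →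
        ∃ (E : Subgroup ↥(Subgroup.centralizer ({z} : Set G))) (_ : E.Normal), Nat.card ↥E = 32 ∧
          Nonempty ((↥(Subgroup.centralizer ({z} : Set G)) ⧸ E) ≃* ↥(alternatingGroup (Fin 5))) := by
  obtain ⟨F, _, _, ω, hF, hω, ⟨e⟩⟩ := h
  have h := CfsgLib.J3.Hyp.of_card hF hω
  obtain ⟨Q, z, q, u, n, y, r, A⟩ := CfsgLib.HJC.amal_J3 (e.trans h.nonempty_equiv.some)
  obtain ⟨R, hR, h2, h3, -, -, ⟨h6⟩, h7⟩ := CfsgLib.HJC.shape A
  have := Fact.mk Nat.prime_two
  constructor
  · obtain ⟨P, hP⟩ := ((IsPGroup.of_card (p := 2) (n := 5) h3).map (centralizer {z}).subtype).exists_le_sylow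
    obtain ⟨g, rfl⟩ := MulAction.exists_smul_eq G P S
    have key : ∀ w : center ↥((g • P : Sylow 2 G) : Subgroup G), ∀ x ∈ R,
        (x : G) * (g⁻¹ * w.1.1 * g) = g⁻¹ * w.1.1 * g * x := fun w x hx => by
      have h1 : g * x * g⁻¹ ∈ ((g • P : Sylow 2 G) : Subgroup G) := by
        rw [Tech.coe_smul_sylow]
        exact Tech.conj_mem_cj.2 (hP ⟨x, hx, rfl⟩)
      have h4 : g * x * g⁻¹ * w.1.1 = w.1.1 * (g * x * g⁻¹) := congrArg Subtype.val (mem_center_iff.1 w.2 ⟨_, h1⟩)
      calc (x : G) * (g⁻¹ * w.1.1 * g) = g⁻¹ * (g * x * g⁻¹ * w.1.1) * g := by group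
        _ = _ := by rw [h4]; group
    have zz : z ∈ centralizer ({z} : Set G) := mem_centralizer_singleton_iff.2 rfl
    have zR : (⟨z, zz⟩ : centralizer ({z} : Set G)) ∈ R :=
      h7 fun x _ => Subtype.ext (mem_centralizer_singleton_iff.1 x.2)
    have h8 := Nat.card_le_card_of_injective (fun w : center ↥((g • P : Sylow 2 G) : Subgroup G) =>
      (⟨⟨⟨g⁻¹ * w.1.1 * g, mem_centralizer_singleton_iff.2 (key w _ zR).symm⟩,
        h7 fun x hx => Subtype.ext (key w x hx)⟩,
        mem_center_iff.2 fun x => Subtype.ext (Subtype.ext (key w x.1 x.2))⟩ : center R)) fun w w' e => by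
      have : g⁻¹ * w.1.1 * g = g⁻¹ * w'.1.1 * g := congrArg (fun x : center R => x.1.1.1) e
      exact Subtype.ext (Subtype.ext (mul_left_cancel (mul_right_cancel this)))
    rw [h2.2] at h8
    refine isCyclic_of_card_dvd_prime (p := 2) ?_
    have : 0 < Nat.card (center ↥((g • P : Sylow 2 G) : Subgroup G)) := Nat.card_pos
    generalize Nat.card (center ↥((g • P : Sylow 2 G) : Subgroup G)) = m at *
    interval_cases m <;> decide
  · intro t _ _ ht
    obtain ⟨c, rfl⟩ := isConj_iff.1 (CfsgLib.HJC.isConj_of_card A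
      (by rw [Nat.card_congr e.toEquiv, h.card_J3]; norm_num) A.pre.es.orderOf_eq ht)
    let φ := (Tech.cjEquiv c (centralizer {z})).trans (MulEquiv.subgroupCongr (Tech.cj_centralizer_singleton c z))
    have hN : (R.map φ.toMonoidHom).Normal := hR.map φ.toMonoidHom φ.surjective
    have hN' : (R.map (φ : centralizer ({z} : Set G) →* centralizer ({c * z * c⁻¹} : Set G))).Normal := hN
    exact ⟨R.map φ.toMonoidHom, hN, (card_map_of_injective φ.injective).trans h3,
      ⟨(QuotientGroup.congr R _ φ rfl).symm.trans h6⟩⟩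

end CfsgLib.J3O
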