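import Cfsg.Agent.Lib.J3O.Al

/-! L1.  The proof is in the header of `Al.lean`. -/

set_option autoImplicit false
set_option linter.unusedSectionVars false
set_option linter.unusedVariables false

namespace CfsgLib.J3O
open Subgroup Cfsg CfsgLib.Tech CfsgLib.ACT
open scoped commutatorElement

variable {G : Type*} [Group G] [Finite G]

private theorem l1_two {N : Subgroup G} (h : Nat.card N = 2) :
    ∃ z ∈ N, z ≠ 1 ∧ z * z = 1 ∧ ∀ y ∈ N, y = 1 ∨ y = z := by
  obtain ⟨⟨z, hz⟩, z1, u⟩ := (Nat.card_eq_two_iff' (1 : N)).1 h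
  have k : ∀ y ∈ N, y = 1 ∨ y = z := fun y hy => or_iff_not_imp_left.2 fun e =>
    congrArg Subtype.val (u ⟨y, hy⟩ fun e' => e (congrArg Subtype.val e'))
  have z1' : z ≠ 1 := fun e => z1 (Subtype.ext e)
  exact ⟨z, hz, z1', (k _ (mul_mem hz hz)).resolve_right fun e => z1' (mul_eq_left.1 e), k⟩

private theorem l1_four {S W : Subgroup G} (h : Hy S) (hW : W ≤ S) (c4 : Nat.card W = 4) (sq : ∀ x ∈ S, x * x ∈ W) :
    ∃ A z, Al S A z := by
  have cm : ∀ a ∈ S, ∀ b ∈ S, ⁅a, b⁆ ∈ W := fun a ha b hb => Sect.comm_mem sq ha hb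
  have nW : ∀ a ∈ S, ∀ w ∈ W, a * w * a⁻¹ ∈ W := fun a ha w hw => Sect.conj_mem sq ha (hW hw) hw
  have half : ∀ D : Subgroup G, D ≤ W → D ≠ ⊥ → ¬ W ≤ D → Nat.card D = 2 := fun D hD h1 h2 => by
    have e1 : Nat.card D ≠ 1 := fun e => h1 (card_eq_one.1 e)
    have e2 : Nat.card D ≠ 4 := fun e => h2 (eq_of_le_of_card_ge hD (by omega)).ge
    have := card_le_of_le hD
    rcases h.card_cases (hD.trans hW) with e | e | e | e | e | e | e | e <;> omega
  have := Fact.mk Nat.prime_two
  have nc : ¬ W ≤ Ct S := h.not_cen cm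
  have C1 : W ⊓ Ct S ≠ ⊥ := Core.inf_centralizer_ne_bot_of_isPGroup (h.two.to_le hW) h.two
    (fun a ha => mem_normalizer_of_forall (nW a ha)) fun e => by rw [e, card_bot] at c4; omega
  have c2 := half _ inf_le_left C1 fun e => nc (e.trans inf_le_right)
  generalize hC : W ⊓ Ct S = C at C1 c2
  have CW : C ≤ W := hC ▸ inf_le_left
  have cc : ∀ y ∈ C, ∀ a ∈ S, a * y * a⁻¹ = y := fun y hy a ha => by
    rw [(hC.ge hy).2 a ha, mul_inv_cancel_right]
  have ncs : ∀ a ∈ S, ¬ W ≤ Cx a → a * a ∈ C := fun a ha n => by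
    have l : C ≤ W ⊓ Cx a := fun y hy => ⟨CW hy, mem_centralizer_singleton_iff.2 ((hC.ge hy).2 a ha).symm⟩
    exact (eq_of_le_of_card_ge l (by
      rw [c2, half _ inf_le_left (fun e => C1 (eq_bot_iff.2 (e ▸ l))) fun e => n (e.trans inf_le_right)])).ge
      ⟨sq a ha, mem_centralizer_singleton_iff.2 (mul_assoc _ _ _)⟩
  obtain ⟨s, hs, ns⟩ : ∃ s ∈ S, ¬ W ≤ Cx s := by
    by_contra! k
    exact nc fun w hw a ha => (mem_centralizer_singleton_iff.1 (k a ha hw)).symm
  have ex : ∀ a b : G, ⁅s, a * b⁆ = ⁅s, a⁆ * (a * ⁅s, b⁆ * a⁻¹) := fun a b => by simp only [commutatorElement_def]; group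
  let A : Subgroup G :=
    { carrier := {a | a ∈ S ∧ ⁅s, a⁆ ∈ C}
      one_mem' := ⟨one_mem _, by simp⟩
      mul_mem' := fun {a b} ha hb => ⟨mul_mem ha.1 hb.1, by rw [ex, cc _ hb.2 a ha.1]; exact mul_mem ha.2 hb.2⟩
      inv_mem' := fun {a} ha => ⟨inv_mem ha.1, by
        have := inv_mem ha.2
        rw [← cc _ this _ (inv_mem ha.1)] at this
        convert this using 1
        simp only [commutatorElement_def]; group⟩ }
  have AS : A ≤ S := fun a ha => ha.1
  have i2 : Nat.card S ≤ 2 * Nat.card A := card_le_two_mul AS fun a ha b hb na nb => ⟨mul_mem ha hb, by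
    rw [ex]
    refine idx2_mul CW (by omega) (cm s hs a ha) (nW a ha _ (cm s hs b hb)) (fun e => na ⟨ha, e⟩) fun e => nb ⟨hb, ?_⟩
    have := cc _ e _ (inv_mem ha)
    rw [← this] at e
    simpa [mul_assoc] using e⟩
  have sA : ∀ a ∈ A, a * a ∈ C := fun a ha => by
    by_cases k : W ≤ Cx a
    · have h1 := ncs _ (mul_mem hs ha.1) fun e => ns fun w hw => mem_centralizer_singleton_iff.2 (by
        have e1 := mem_centralizer_singleton_iff.1 (e hw)
        have e2 := mem_centralizer_singleton_iff.1 (k hw)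
        exact mul_right_cancel (b := a) (by rw [mul_assoc, e1, mul_assoc, mul_assoc, e2]))
      have h2 := ncs s hs ns
      have e : s * a * (s * a) = ⁅s, a⁆ * (a * (s * s) * a⁻¹) * (a * a) := by simp only [commutatorElement_def]; group
      rw [e, cc _ h2 a ha.1] at h1
      exact (mul_mem_cancel_left (mul_mem ha.2 h2)).1 h1
    · exact ncs a ha.1 k
  obtain ⟨z, hz, z1, z2, u⟩ := l1_two c2
  refine ⟨A, z, h, AS, ?_, ⟨hW (CW hz), ?_⟩, z1, z2, (hC.ge hz).2, fun a ha => u _ (sA a ha)⟩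
  · have ne : Nat.card A ≠ 128 := fun e => by
      rw [eq_of_le_of_card_ge AS (by rw [e, h.card])] at sA
      exact h.not_cen (Y := C) (fun a ha b hb => Sect.comm_mem sA ha hb) (hC.ge.trans inf_le_right)
    rw [h.card] at i2
    rcases h.card_cases AS with e | e | e | e | e | e | e | e <;> omega
  · rw [commutatorElement_def, cc z hz s hs, mul_inv_cancel]; exact one_mem _

theorem Hy.l1 {S : Subgroup G} (h : Hy S) (hs : ¬ Sect.SR 16 S) :
    (∃ E, E32 S E) ∨ ∃ A z, Al S A z := by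
  unfold Sect.SR at hs
  push Not at hs
  obtain ⟨H, hH, K, hK, i⟩ := hs
  have e := Sect.card_eq_relIndex K H
  have sq : ∀ x ∈ H, x * x ∈ K ⊓ H := fun x hx => ⟨hK x hx, mul_mem hx hx⟩
  have le : K ⊓ H ≤ H := inf_le_right
  generalize K ⊓ H = N at e sq le
  have cH := h.card_cases hH
  have top : Nat.card H = 128 → H = S := fun e => eq_of_le_of_card_ge hH (by rw [e, h.card])
  rcases h.card_cases (le.trans hH) with c | c | c | c | c | c | c | c <;> rw [c] at e
  · have el : El H := fun x hx => mem_bot.1 ((card_eq_one.1 c).le (sq x hx))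
    have := h.no64 hH el
    exact Or.inl ⟨H, hH, el, by omega⟩
  · obtain ⟨z, hz, z1, z2, u⟩ := l1_two c
    have ne : Nat.card H ≠ 128 := fun e => by
      obtain rfl := top e
      refine h.not_cen (Y := N) (fun a ha b hb => Sect.comm_mem sq ha hb) fun y hy a ha => ?_
      rcases u y hy with rfl | rfl
      · simp
      · exact mul_inv_eq_iff_eq_mul.1 ((u _ (Sect.conj_mem sq ha (le hy) hy)).resolve_left (by simpa using z1))
    have c64 : Nat.card H = 64 := by omega
    obtain ⟨a, ha, ea⟩ : ∃ a ∈ H, a * a = z := by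
      by_contra! k
      have := h.no64 hH fun x hx => (u _ (sq x hx)).resolve_right (k x hx)
      omega
    refine Or.inr ⟨H, z, h, hH, c64, le hz, z1, z2, fun s hs => ?_, fun a ha => u _ (sq a ha)⟩
    have := u _ (sq _ (conj_mem_of_mem_normalizer (idx2_nm hH (by rw [h.card, c64]) hs) ha))
    rw [conj_mul, ea] at this
    exact mul_inv_eq_iff_eq_mul.1 (this.resolve_left (by simpa using z1))
  · obtain rfl := top (by omega)
    exact Or.inr (l1_four h le c sq)
  all_goals omega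

end CfsgLib.J3O
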