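import Cfsg.Agent.Lib.J3O.Al

/-! M2.  exists_M2: `A = E1 ⊔ E2` has order 64 (card_sup_mul), `E1, E2` have index 2, `Z0 = E1 ⊓ E2` is central in `A`; `z = ⁅e1, e2⁆ ∈ Z0` (comm_mem_inf),
`z ≠ 1` (else `A` is elementary, no64), `(e1 e2 v)² = z`.  `A` is normal in `S`, `s z s⁻¹` is a square `≠ 1` in `A`.  two: `E ≤ E1 ∪ E2` (inv); a group is not a union of two proper subgroups.
inf16: `|E ⊔ E'| ≤ 128` gives `|E ⊓ E'| ≥ 8`, `≠ 32`.  If 8: `S = E ⊔ E'`, `Y = E ⊓ E'` is central and contains all commutators (`⁅e e', f f'⁆`; mem_sup_nm, comm_mem_inf): not_cen.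
swap: `N = S ⊓ N(E1)`, `E1 < N < S`, order 64, `x ∈ S - N`, `E2 = cj x E1 ≤ N`, `|E1 ⊔ E2| ≤ 64`. -/

set_option autoImplicit false
set_option linter.unusedSectionVars false
set_option linter.unusedVariables false

namespace CfsgLib.J3O
open Subgroup Cfsg CfsgLib.Tech CfsgLib.ACT
open scoped commutatorElement

variable {G : Type*} [Group G] [Finite G]

theorem m2_lt {A B : Subgroup G} (h : A < B) : Nat.card A < Nat.card B :=
  lt_of_le_of_ne (card_le_of_le h.le) fun e => h.ne (eq_of_le_of_card_ge h.le e.ge)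

theorem m2_ex {A B : Subgroup G} (h : Nat.card (A ⊓ B : Subgroup G) < Nat.card A) : ∃ a ∈ A, a ∉ B :=
  SetLike.not_le_iff_exists.1 fun e => by rw [inf_eq_left.2 e] at h; exact lt_irrefl _ h

theorem m2_inv {A : Subgroup G} (h : El A) {a : G} (ha : a ∈ A) : a⁻¹ = a := inv_eq_of_mul_eq_one_right (h a ha)

theorem Hy.exists_M2 {S E1 E2 : Subgroup G} (h : Hy S) (h1 : E32 S E1) (h2 : E32 S E2)
    (hn : E2 ≤ Nm E1) (hc : Nat.card (E1 ⊓ E2 : Subgroup G) = 16) : ∃ e1 e2 z, M2 S E1 E2 e1 e2 z := by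
  have cA : Nat.card (E1 ⊔ E2 : Subgroup G) = 64 := by
    have := card_sup_mul hn
    rw [hc, h1.card, h2.card] at this
    omega
  have le : E1 ⊔ E2 ≤ S := sup_le h1.le h2.le
  have nm1 : E1 ⊔ E2 ≤ Nm E1 := idx2_nm le_sup_left (by rw [cA, h1.card])
  have nm2 : E1 ⊔ E2 ≤ Nm E2 := idx2_nm le_sup_right (by rw [cA, h2.card])
  obtain ⟨e1, m1, n1⟩ := m2_ex (A := E1) (B := E2) (by rw [hc, h1.card]; norm_num)
  obtain ⟨e2, m2, n2⟩ := m2_ex (A := E2) (B := E1) (by rw [inf_comm, hc, h2.card]; norm_num)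
  have dec1 : ∀ a ∈ E1, a ∈ E1 ⊓ E2 ∨ e1 * a ∈ E1 ⊓ E2 := fun a ha => or_iff_not_imp_left.2 fun k =>
    idx2_mul inf_le_left (by rw [hc, h1.card]) m1 ha (fun e => n1 e.2) k
  have dec2 : ∀ a ∈ E2, a ∈ E1 ⊓ E2 ∨ e2 * a ∈ E1 ⊓ E2 := fun a ha => or_iff_not_imp_left.2 fun k =>
    idx2_mul inf_le_right (by rw [hc, h2.card]) m2 ha (fun e => n2 e.1) k
  have ct : E1 ⊓ E2 ≤ Ct (E1 ⊔ E2) := le_ct_comm.1 (sup_le
    (fun a ha => mem_centralizer_iff.2 fun v hv => h1.el.ab v hv.1 a ha)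
    fun a ha => mem_centralizer_iff.2 fun v hv => h2.el.ab v hv.2 a ha)
  have cm : ∀ v ∈ E1 ⊓ E2, ∀ a ∈ E1 ⊔ E2, a * v = v * a := fun v hv a ha => mem_centralizer_iff.1 (ct hv) a ha
  have dec : ∀ a ∈ E1 ⊔ E2, ∃ v ∈ E1 ⊓ E2, a = v ∨ a = e1 * v ∨ a = e2 * v ∨ a = e1 * e2 * v := fun a ha => by
    obtain ⟨x, hx, y, hy, rfl⟩ := (mem_sup_nm hn).1 ha
    have ex : x = e1 * (e1 * x) := by rw [← mul_assoc, h1.el e1 m1, one_mul]
    have ey : y = e2 * (e2 * y) := by rw [← mul_assoc, h2.el e2 m2, one_mul]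
    rcases dec1 x hx with kx | kx <;> rcases dec2 y hy with ky | ky <;> refine ⟨_, mul_mem kx ky, ?_⟩
    · exact .inl rfl
    · exact .inr (.inr (.inl (by rw [← mul_assoc, cm x kx e2 (mem_sup_right m2), mul_assoc, ← ey])))
    · exact .inr (.inl (by rw [← mul_assoc, ← ex]))
    · exact .inr (.inr (.inr (by
        rw [mul_assoc, ← mul_assoc e2, cm _ kx e2 (mem_sup_right m2), mul_assoc (e1 * x), ← ey, ← mul_assoc, ← ex])))
  have z0 : ⁅e1, e2⁆ ∈ E1 ⊓ E2 := comm_mem_inf m1 m2 (nm2 (mem_sup_left m1)) (nm1 (mem_sup_right m2))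
  have mA := mul_mem (mem_sup_left (T := E2) m1) (mem_sup_right m2)
  have sz : ∀ v ∈ E1 ⊓ E2, e1 * e2 * v * (e1 * e2 * v) = ⁅e1, e2⁆ := fun v hv => by
    rw [commutatorElement_def, m2_inv h1.el m1, m2_inv h2.el m2, mul_assoc, ← mul_assoc v, ← cm v hv _ mA,
      mul_assoc _ v, h1.el v hv.1, mul_one, ← mul_assoc]
  have sq : ∀ a ∈ E1 ⊔ E2, (a ∈ E1 ∨ a ∈ E2) ∨ a * a = ⁅e1, e2⁆ := fun a ha => by
    obtain ⟨v, hv, e | e | e | e⟩ := dec a ha <;> rw [e]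
    exacts [.inl (.inl hv.1), .inl (.inl (mul_mem m1 hv.1)), .inl (.inr (mul_mem m2 hv.2)), .inr (sz v hv)]
  have sq' : ∀ a ∈ E1 ⊔ E2, a * a = 1 ∨ a * a = ⁅e1, e2⁆ := fun a ha =>
    (sq a ha).imp (fun k => k.elim (h1.el a) (h2.el a)) id
  have z1 : ⁅e1, e2⁆ ≠ 1 := fun e => by
    have := h.no64 le fun a ha => (sq' a ha).elim id fun k => k.trans e
    omega
  have nc : e1 * e2 ≠ e2 * e1 := fun e => z1 (commutatorElement_eq_one_iff_mul_comm.2 e)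
  have inv : ∀ a ∈ E1 ⊔ E2, a * a = 1 → a ∈ E1 ∨ a ∈ E2 := fun a ha k =>
    (sq a ha).resolve_right fun e => z1 (e.symm.trans k)
  refine ⟨e1, e2, _, ⟨h, le, cA, mem_sup_left z0.1, z1, h1.el _ z0.1, mem_centralizer_iff.2 fun s hs => ?_, sq'⟩, h1, h2,
    hc, m1, n1, m2, n2, rfl, z0, nm1, nm2, dec1, dec2, dec, inv, fun a ha => ⟨fun k => ?_, fun k => ct k⟩,
    fun E hE hle => ?_⟩
  · have k := sq' _ (conj_mem_of_mem_normalizer (idx2_nm le (by rw [cA, h.card]) hs) mA)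
    have e := sz 1 (one_mem _)
    rw [mul_one] at e
    rw [conj_mul, e] at k
    rcases k with k | k
    · exact absurd (conj_eq_one_iff.1 k) z1
    · exact mul_inv_eq_iff_eq_mul.1 k
  · obtain ⟨v, hv, e | e | e | e⟩ := dec a ha <;> rw [e] at k ⊢
    · exact hv
    all_goals rw [mul_mem_cancel_right (ct hv), mem_centralizer_iff] at k
    · exact absurd (k e2 (mem_sup_right m2)).symm nc
    · exact absurd (k e1 (mem_sup_left m1)) nc
    · have := k e1 (mem_sup_left m1)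
      rw [mul_assoc] at this
      exact absurd (mul_left_cancel this) nc
  · refine or_iff_not_imp_left.2 fun k => ?_
    obtain ⟨x, hx, hx1⟩ := SetLike.not_le_iff_exists.1 fun e => k (eq_of_le_of_card_ge e (by rw [hE.card, h1.card]))
    have hx2 := (inv x (hle hx) (hE.el x hx)).resolve_left hx1
    refine eq_of_le_of_card_ge (fun y hy => ?_) (by rw [hE.card, h2.card])
    rcases inv y (hle hy) (hE.el y hy) with k1 | k1
    · rcases inv _ (hle (mul_mem hx hy)) (hE.el _ (mul_mem hx hy)) with k2 | k2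
      · exact absurd ((mul_mem_cancel_right k1).1 k2) hx1
      · exact (mul_mem_cancel_left hx2).1 k2
    · exact k1

theorem M2.symm {S E1 E2 : Subgroup G} {e1 e2 z : G} (h : M2 S E1 E2 e1 e2 z) : M2 S E2 E1 e2 e1 z := by
  have e : e1 * e2 = e2 * e1 * z := by
    rw [← h.ze, commutatorElement_def, m2_inv h.h1.el h.m1, m2_inv h.h2.el h.m2]
    calc e1 * e2 = e2 * (e1 * e1) * e2 * e1 * e2 := by rw [h.h1.el _ h.m1, mul_one, h.h2.el _ h.m2, one_mul]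
      _ = _ := by group
  refine ⟨sup_comm E1 E2 ▸ h.al, h.h2, h.h1, inf_comm E1 E2 ▸ h.c0, h.m2, h.n2, h.m1, h.n1, ?_, inf_comm E1 E2 ▸ h.z0,
    sup_comm E1 E2 ▸ h.nm2, sup_comm E1 E2 ▸ h.nm1, inf_comm E1 E2 ▸ h.dec2, inf_comm E1 E2 ▸ h.dec1, fun a ha => ?_,
    sup_comm E1 E2 ▸ fun a ha k => (h.inv a ha k).symm, sup_comm E1 E2 ▸ inf_comm E1 E2 ▸ h.cen,
    sup_comm E1 E2 ▸ fun E hE k => (h.two E hE k).symm⟩
  · rw [← commutatorElement_inv, h.ze, m2_inv h.h1.el h.z0.1]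
  · rw [sup_comm] at ha
    rw [inf_comm]
    obtain ⟨v, hv, k | k | k | k⟩ := h.dec a ha
    exacts [⟨v, hv, .inl k⟩, ⟨v, hv, .inr (.inr (.inl k))⟩, ⟨v, hv, .inr (.inl k)⟩,
      ⟨z * v, mul_mem h.z0 hv, .inr (.inr (.inr (by rw [k, e, mul_assoc])))⟩]

theorem Hy.inf16 {S E E' : Subgroup G} (h : Hy S) (h1 : E32 S E) (h2 : E32 S E') (hn : S ≤ Nm E)
    (hn' : S ≤ Nm E') (hne : E ≠ E') : Nat.card (E ⊓ E' : Subgroup G) = 16 := by
  have le : E ⊔ E' ≤ S := sup_le h1.le h2.le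
  have c1 := card_sup_mul (h2.le.trans hn)
  have c2 := card_le_of_le le
  have c3 : Nat.card (E ⊓ E' : Subgroup G) < Nat.card E := m2_lt (lt_of_le_of_ne inf_le_left fun e =>
    hne (eq_of_le_of_card_ge (inf_eq_left.1 e) (by rw [h1.card, h2.card])))
  rw [h1.card, h2.card] at c1
  rw [h.card] at c2
  rw [h1.card] at c3
  by_contra k
  have c4 : Nat.card (E ⊔ E' : Subgroup G) = 128 := by
    rcases h.card_cases (inf_le_left.trans h1.le : E ⊓ E' ≤ S) with e | e | e | e | e | e | e | e <;> rw [e] at c1 c3 <;> omega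
  have e : E ⊔ E' = S := eq_of_le_of_card_ge le (by rw [c4, h.card])
  have key : ∀ a ∈ S, ∀ b, (∀ x ∈ E, ⁅x, b⁆ ∈ E ⊓ E') → (∀ x ∈ E', ⁅x, b⁆ ∈ E ⊓ E') → ⁅a, b⁆ ∈ E ⊓ E' :=
    fun a ha b k1 k2 => by
      obtain ⟨x, hx, y, hy, rfl⟩ := (mem_sup_nm (h2.le.trans hn)).1 (e.ge ha)
      rw [show ⁅x * y, b⁆ = x * ⁅y, b⁆ * x⁻¹ * ⁅x, b⁆ by simp only [commutatorElement_def]; group]
      exact mul_mem (conj_mem_of_mem_normalizer (bas_nm_inf (hn (h1.le hx)) (hn' (h1.le hx))) (k2 y hy)) (k1 x hx)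
  refine h.not_cen (Y := E ⊓ E') (fun a ha b hb => key a ha b (fun x hx => ?_) fun x hx => ?_) (e ▸ le_ct_comm.1 (sup_le
    (fun a ha => mem_centralizer_iff.2 fun v hv => h1.el.ab v hv.1 a ha)
    fun a ha => mem_centralizer_iff.2 fun v hv => h2.el.ab v hv.2 a ha)) <;> rw [← commutatorElement_inv] <;>
    refine inv_mem (key b hb x (fun y hy => ?_) fun y hy => ?_)
  · rw [commutatorElement_eq_one_iff_mul_comm.2 (h1.el.ab y hy x hx)]; exact one_mem _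
  · exact inf_comm E' E ▸ comm_mem_inf hy hx (hn (h2.le hy)) (hn' (h1.le hx))
  · exact comm_mem_inf hy hx (hn' (h1.le hy)) (hn (h2.le hx))
  · rw [commutatorElement_eq_one_iff_mul_comm.2 (h2.el.ab y hy x hx)]; exact one_mem _

theorem Hy.swap {S E1 : Subgroup G} (h : Hy S) (h1 : E32 S E1) (hn : ¬ S ≤ Nm E1) :
    ∃ x ∈ S, cj x E1 ≤ Nm E1 ∧ Nat.card (E1 ⊓ cj x E1 : Subgroup G) = 16 := by
  obtain ⟨x, hx, hxn⟩ := SetLike.not_le_iff_exists.1 hn
  have l1 : E1 < S ⊓ Nm E1 := lt_inf_normalizer_of_lt h.two (lt_of_le_of_ne h1.le fun e => hn (e ▸ le_normalizer))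
  have c1 := m2_lt l1
  have c2 : Nat.card (S ⊓ Nm E1 : Subgroup G) < Nat.card S := m2_lt (lt_of_le_of_ne inf_le_left fun e => hn (inf_eq_left.1 e))
  rw [h1.card] at c1
  rw [h.card] at c2
  have c3 : Nat.card (S ⊓ Nm E1 : Subgroup G) = 64 := by
    have := h.card_cases (inf_le_left : S ⊓ Nm E1 ≤ S)
    omega
  have l2 : cj x E1 ≤ S ⊓ Nm E1 := (cj_mono x l1.le).trans
    (mem_normalizer_iff_cj.1 (idx2_nm inf_le_left (by rw [c3, h.card]) hx)).le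
  have c4 := card_sup_mul (l2.trans inf_le_right)
  have c5 := card_le_of_le (sup_le l1.le l2)
  have c6 : Nat.card (E1 ⊓ cj x E1 : Subgroup G) < Nat.card E1 := m2_lt (lt_of_le_of_ne inf_le_left fun e =>
    hxn (mem_normalizer_iff_cj.2 (eq_of_le_of_card_ge (inf_eq_left.1 e) (by rw [card_cj])).symm))
  rw [card_cj, h1.card] at c4
  rw [c3] at c5
  rw [h1.card] at c6
  refine ⟨x, hx, l2.trans inf_le_right, ?_⟩
  rcases h.card_cases (inf_le_left.trans h1.le : E1 ⊓ cj x E1 ≤ S) with e | e | e | e | e | e | e | e <;>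
    rw [e] at c4 c6 ⊢ <;> omega

end CfsgLib.J3O
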