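import Cfsg.Agent.Lib.J3O.M2
import Cfsg.Agent.Lib.J3O.Fix
import Cfsg.Agent.Lib.J3O.Tr

/-! MA.  `A = E1 ⊔ E2`, `Z0 = E1 ⊓ E2`, `cj x E1 = E2`, so `x ∉ A`, `cj x E2 = E1` (`x² ∈ A`), and every element of `S - A` swaps `E1, E2`.
YZ: `y = ⁅a, x⁆ (z)`, `⁅a, x⁆ = a (x a⁻¹ x⁻¹)`.  `a ∈ E1 - Z0`: the second factor is in `E2 - Z0`, the product is not in `Z0`; same for `E2`.
`a = e1 e2 v = e1 e1' v'` with `e1' = x e1 x⁻¹`: `x a⁻¹ x⁻¹ = (x v'⁻¹ x⁻¹) (x² e1 x⁻²) e1'`, `x² e1 x⁻² ∈ {e1, e1 z}`, `e1 e1' e1 e1' = z`.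
caseA, (i) some `E3 ≰ A`: `E3 ⊓ A` has order `≥ 16`, is elementary so lies in `E1` or `E2`, and is centralised by `x' ∈ E3 - A`, which swaps: `E3 ⊓ A = Z0`, `Z0 ≤ C(S)`.
`N0 = N(S)` normalises `Z(S) = Z0` (central elements lie in `A`; cen), fixes `z` (nfix), odd_pow.  exists_f, `f ∉ Y` (YZ), t2 with `R = S`.
(ii) all `E₃₂` lie in `A`, so are `E1, E2`.  `N0 = N(E1) ⊓ N(E2)` normalises `A`, `Z0`, fixes `z` (`n z n⁻¹` is a square `≠ 1` of `A`), `x ∈ N(N0)`.  A 2-element `n` of `N0` is in `A`: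
`cj k (A ⟨n⟩) ≤ S`, `{cj k E1, cj k E2} = {E1, E2}`, `k n k⁻¹ ∈ S` normalises them so is in `A = cj k A`.  exists_two_part gives the odd power.
t2 with `R = A`: `cj g A ≤ S`, `g ∈ N0` or `g x⁻¹ ∈ N0`, `g f g⁻¹ ∈ {f, f z}`. -/

set_option autoImplicit false
set_option linter.unusedSectionVars false
set_option linter.unusedVariables false

namespace CfsgLib.J3O
open Subgroup Cfsg CfsgLib.Tech CfsgLib.ACT
open scoped commutatorElement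

variable {G : Type*} [Group G] [Finite G]

theorem M2.ma_x {S E1 E2 : Subgroup G} {e1 e2 z x : G} (h : M2 S E1 E2 e1 e2 z) (hx : x ∈ S)
    (hsw : cj x E1 = E2) : x ∉ E1 ⊔ E2 ∧ cj x E2 = E1 := by
  have xA : x ∉ E1 ⊔ E2 := fun k => h.n1 (hsw ▸ (mem_normalizer_iff_cj.1 (h.nm1 k)).ge h.m1)
  exact ⟨xA, by rw [← hsw, ← cj_mul, mem_normalizer_iff_cj.1 (h.nm1 (h.al.mul hx hx xA xA))]⟩

theorem M2.YZ {S E1 E2 Y A1 : Subgroup G} {e1 e2 z x : G} (h : M2 S E1 E2 e1 e2 z) (hx : x ∈ S)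
    (hsw : cj x E1 = E2) (hY : YA S (E1 ⊔ E2) Y A1 z x) {y : G} (hy : y ∈ Y) (h0 : y ∈ E1 ⊓ E2) :
    ∃ v ∈ E1 ⊓ E2, y = ⁅v, x⁆ ∨ y = ⁅v, x⁆ * z := by
  obtain ⟨xA, hsw'⟩ := h.ma_x hx hsw
  obtain ⟨a, ha, e⟩ := (hY.memY y).1 hy
  have h1 : a * (x * a⁻¹ * x⁻¹) ∈ E1 ⊓ E2 := by
    rw [show a * (x * a⁻¹ * x⁻¹) = ⁅a, x⁆ by rw [commutatorElement_def]; group]
    rcases e with rfl | rfl
    exacts [h0, (mul_mem_cancel_right h.z0).1 h0]
  obtain ⟨v, hv, rfl | rfl | rfl | rfl⟩ := h.dec a ha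
  · exact ⟨a, hv, e⟩
  · have : x * (e1 * v)⁻¹ * x⁻¹ ∈ E2 := hsw ▸ conj_mem_cj.2 (inv_mem (mul_mem h.m1 hv.1))
    exact absurd ((mul_mem_cancel_right (mem_inf.1 hv).2).1 ((mul_mem_cancel_right this).1 h1.2)) h.n1
  · have : x * (e2 * v)⁻¹ * x⁻¹ ∈ E1 := hsw' ▸ conj_mem_cj.2 (inv_mem (mul_mem h.m2 hv.2))
    exact absurd ((mul_mem_cancel_right (mem_inf.1 hv).1).1 ((mul_mem_cancel_right this).1 h1.1)) h.n2
  have p2 : x * e1 * x⁻¹ ∈ E2 := hsw ▸ conj_mem_cj.2 h.m1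
  have hu := (h.dec2 _ p2).resolve_left fun k => h.n1 (conj_mem_cj.1 (hsw'.symm ▸ k.1 : _ ∈ cj x E2))
  obtain ⟨p, hp⟩ : ∃ p, p = x * e1 * x⁻¹ := ⟨_, rfl⟩
  rw [← hp] at p2 hu
  have e1A : e1 ∈ E1 ⊔ E2 := mem_sup_left h.m1
  have pA : p ∈ E1 ⊔ E2 := mem_sup_right p2
  have cZ : ∀ w ∈ E1 ⊓ E2, ∀ a ∈ E1 ⊔ E2, a * w = w * a := fun w hw => (h.cen w (mem_sup_left hw.1)).2 hw
  have i1 : e1⁻¹ = e1 := inv_eq_of_mul_eq_one_right (h.h1.el _ h.m1)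
  have ip : p⁻¹ = p := inv_eq_of_mul_eq_one_right (h.h2.el _ p2)
  obtain ⟨w, hw, ew⟩ : ∃ w ∈ E1 ⊓ E2, e1 * e2 * v = e1 * p * w := ⟨e2 * p * v, mul_mem hu hv, by
    rw [← mul_assoc, mul_assoc e1 p, cZ _ hu p pA, mul_assoc e2, h.h2.el _ p2, mul_one]⟩
  have wx : ⁅w, x⁆ ∈ E1 ⊓ E2 := by
    rw [show ⁅w, x⁆ = w * (x * w⁻¹ * x⁻¹) by rw [commutatorElement_def]; group]
    exact mul_mem hw ⟨hsw' ▸ conj_mem_cj.2 (inv_mem hw.2), hsw ▸ conj_mem_cj.2 (inv_mem hw.1)⟩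
  have mz : ∀ {a b : G}, a ∈ E1 ⊔ E2 → b ∈ E1 ⊔ E2 → ⁅a, b⁆ ∈ zpowers z ∧ ⁅a, b⁆ ∈ E1 ⊓ E2 := fun ha hb => by
    rcases h.al.comm ha hb with k | k <;> rw [k]
    exacts [⟨one_mem _, one_mem _⟩, ⟨mem_zpowers z, h.z0⟩]
  have xx := h.al.mul hx hx xA xA
  have key : ⁅e1 * p * w, x⁆ = ⁅w, x⁆ * (⁅x * x, e1⁆ * ⁅e1, p⁆) := by
    calc _ = e1 * p * ⁅w, x⁆ * (x * p⁻¹ * x⁻¹) * (x * e1⁻¹ * x⁻¹) := by simp only [commutatorElement_def]; group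
      _ = e1 * p * (⁅w, x⁆ * ⁅x * x, e1⁆) * (e1 * p) := by
        rw [ip, i1, ← hp]
        nth_rewrite 2 [hp]
        simp only [commutatorElement_def]; group
      _ = _ := by
        rw [cZ _ (mul_mem wx (mz xx e1A).2) _ (mul_mem e1A pA), commutatorElement_def e1, i1, ip]
        simp only [mul_assoc]
  have o := ord_two h.al.z2 h.al.z1
  have k := mul_mem (mz xx e1A).1 (mz e1A pA).1
  rw [ew, key] at e
  refine ⟨w, hw, ?_⟩
  rcases e with rfl | rfl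
  · exact (bas_zp o k).imp (fun e => by rw [e, mul_one]) fun e => by rw [e]
  · rw [mul_assoc]
    exact (bas_zp o (mul_mem k (mem_zpowers z))).imp (fun e => by rw [e, mul_one]) fun e => by rw [e]

theorem M2.caseA {S E1 E2 : Subgroup G} {e1 e2 z x : G} (h : M2 S E1 E2 e1 e2 z) (hx : x ∈ S)
    (hsw : cj x E1 = E2) : False := by
  obtain ⟨xA, hsw'⟩ := h.ma_x hx hsw
  have hy := h.al.hy
  obtain ⟨Y, A1, hY⟩ := h.al.exists_YA hx xA
  have ne : E1 ≠ E2 := fun e => h.n1 (e ▸ h.m1)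
  have sw : ∀ s ∈ S, s ∉ E1 ⊔ E2 → cj s E1 = E2 ∧ cj s E2 = E1 := fun s hs sA => by
    have := h.al.mul hs (inv_mem hx) sA fun k => xA (inv_mem_iff.1 k)
    rw [← inv_mul_cancel_right s x, cj_mul, cj_mul _ x, hsw, hsw']
    exact ⟨mem_normalizer_iff_cj.1 (h.nm2 this), mem_normalizer_iff_cj.1 (h.nm1 this)⟩
  have ZA : E1 ⊓ E2 ≤ E1 ⊔ E2 := inf_le_sup
  have cZ : E1 ⊓ E2 ≤ Ct (E1 ⊔ E2) := fun w hw => (h.cen w (ZA hw)).2 hw
  have el : El (E1 ⊓ E2) := fun w hw => h.h1.el w hw.1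
  have xZ : x ∈ Nm (E1 ⊓ E2) := by rw [mem_normalizer_iff_cj, cj_inf, hsw, hsw', inf_comm]
  have fin : ∀ N0 R : Subgroup G, N0 ≤ Nm (E1 ⊓ E2) → N0 ≤ Cx z → (∀ n ∈ N0, ∃ m : ℕ, Odd m ∧ n ^ m ∈ Ct (E1 ⊓ E2)) →
      x ∈ Nm N0 → R ≤ S → R ≤ Ct (E1 ⊓ E2) → (∀ g, cj g R ≤ S → g ∈ N0 ∨ x⁻¹ * g ∈ N0) → False :=
    fun N0 R h1 h2 h3 h4 h5 h6 h7 => by
      obtain ⟨f, fZ, fN, fx, hf⟩ := exists_f hy.n7 el h.c0 h.z0 h.al.z1 h1 h2 h3 xZ (h.al.cen x hx)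
        (le_ct_comm.1 cZ (h.al.mul hx hx xA xA)) h4
      obtain ⟨g, -, g1, g2⟩ := hy.t2 hY.der (h.al.le (ZA fZ)) (fun k => by
        obtain ⟨v, hv, e | e⟩ := h.YZ hx hsw hY k fZ
        exacts [(hf v hv).1 e, (hf v hv).2 e]) (el f fZ) (hy.two.to_le h5)
        fun r hr => mem_centralizer_singleton_iff.2 (h6 hr f fZ).symm
      apply g2
      rcases h7 g g1 with k | k
      · rw [fN g k, mul_inv_cancel_right, inv_mul_cancel]; exact one_mem _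
      · have : f⁻¹ * (g * f * g⁻¹) = ⁅f, x⁆ := by
          calc _ = f⁻¹ * x * (x⁻¹ * g * f * (x⁻¹ * g)⁻¹) * x⁻¹ := by group
            _ = _ := by
              rw [fN _ k, mul_inv_cancel_right, commutatorElement_def, inv_eq_of_mul_eq_one_right (el f fZ)]
        rw [this]
        rcases fx with e | e <;> rw [e]
        exacts [one_mem _, hY.zY]
  by_cases hall : ∀ E, E32 S E → E ≤ E1 ⊔ E2
  · have pair : ∀ k, cj k (E1 ⊔ E2) ≤ S → (cj k E1 = E1 ∧ cj k E2 = E2) ∨ (cj k E1 = E2 ∧ cj k E2 = E1) :=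
      fun k hk => by
        have t : ∀ E, E32 S E → E ≤ E1 ⊔ E2 → cj k E = E1 ∨ cj k E = E2 := fun E hE le => by
          have : E32 S (cj k E) := ⟨(cj_mono k le).trans hk, by
            rintro _ ⟨a, ha, rfl⟩
            rw [← map_mul, hE.el a ha, map_one], (card_cj k E).trans hE.card⟩
          exact h.two _ this (hall _ this)
        rcases t E1 h.h1 le_sup_left with a | a <;> rcases t E2 h.h2 le_sup_right with b | b
        exacts [absurd (cj_injective k (a.trans b.symm)) ne, Or.inl ⟨a, b⟩, Or.inr ⟨a, b⟩,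
          absurd (cj_injective k (a.trans b.symm)) ne]
    have NA : Nm E1 ⊓ Nm E2 ≤ Nm (E1 ⊔ E2) := fun n hn => by
      rw [mem_normalizer_iff_cj, cj_sup, mem_normalizer_iff_cj.1 hn.1, mem_normalizer_iff_cj.1 hn.2]
    refine fin (Nm E1 ⊓ Nm E2) (E1 ⊔ E2) (fun n hn => bas_nm_inf hn.1 hn.2) (fun n hn => ?_) (fun n hn => ?_) ?_
      h.al.le (le_ct_comm.1 cZ) fun g hg => ?_
    · have e : z = e1 * e2 * (e1 * e2) := by
        rw [← h.ze, commutatorElement_def, inv_eq_of_mul_eq_one_right (h.h1.el _ h.m1),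
          inv_eq_of_mul_eq_one_right (h.h2.el _ h.m2), mul_assoc]
      have := h.al.sq _ (conj_mem_of_mem_normalizer (NA hn) (mul_mem (mem_sup_left h.m1) (mem_sup_right h.m2)))
      rw [conj_mul, ← e, conj_eq_one_iff] at this
      exact mem_centralizer_singleton_iff.2 (mul_inv_eq_iff_eq_mul.1 (this.resolve_left h.al.z1))
    · obtain ⟨m, om, tw⟩ := exists_two_part n
      refine ⟨m, om, le_ct_comm.1 cZ ?_⟩
      have hm := pow_mem hn m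
      generalize n ^ m = r at tw hm
      obtain ⟨k, hk⟩ := hy.conj_le (two_sup (hy.two.to_le h.al.le) tw.zpowers (zpowers_le.2 (NA hm)))
      have rS : k * r * k⁻¹ ∈ S := cj_le_iff.1 hk r (mem_sup_right (mem_zpowers r))
      have e : cj (k * r * k⁻¹) (cj k E1) = cj k E1 := by
        rw [← cj_mul, inv_mul_cancel_right, cj_mul, mem_normalizer_iff_cj.1 hm.1]
      have eA : cj k (E1 ⊔ E2) = E1 ⊔ E2 := by
        rcases pair k ((cj_mono k le_sup_left).trans hk) with a | a <;> rw [cj_sup, a.1, a.2]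
        exact sup_comm _ _
      rw [← conj_mem_cj (g := k), eA]
      by_contra rA
      rcases pair k ((cj_mono k le_sup_left).trans hk) with a | a <;> rw [a.1] at e
      exacts [ne (e.symm.trans (sw _ rS rA).1), ne ((sw _ rS rA).2.symm.trans e)]
    · rw [mem_normalizer_iff_cj, cj_inf, cj_normalizer, cj_normalizer, hsw, hsw', inf_comm]
    · refine (pair g hg).imp (fun a => ⟨mem_normalizer_iff_cj.2 a.1, mem_normalizer_iff_cj.2 a.2⟩) fun a =>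
        ⟨mem_normalizer_iff_cj.2 ?_, mem_normalizer_iff_cj.2 ?_⟩
      · rw [cj_mul, a.1, ← hsw, cj_inv_cj]
      · rw [cj_mul, a.2, ← hsw', cj_inv_cj]
  · push Not at hall
    obtain ⟨E, hE, hn⟩ := hall
    obtain ⟨s, sE, sA⟩ := SetLike.not_le_iff_exists.1 hn
    obtain ⟨s1, s2⟩ := sw s (hE.le sE) sA
    have e : E ⊓ (E1 ⊔ E2) = E1 ⊓ E2 := eq_of_le_of_card_ge (fun a ha => by
      have c : s * a * s⁻¹ = a := by rw [hE.el.ab s sE a ha.1, mul_inv_cancel_right]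
      rcases h.inv a ha.2 (hE.el a ha.1) with k | k
      exacts [⟨k, c ▸ s1 ▸ conj_mem_cj.2 k⟩, ⟨c ▸ s2 ▸ conj_mem_cj.2 k, k⟩]) (by
        have := card_le_two_mul (A := E ⊓ (E1 ⊔ E2)) inf_le_left fun a ha b hb h1 h2 =>
          ⟨mul_mem ha hb, h.al.mul (hE.le ha) (hE.le hb) (fun k => h1 ⟨ha, k⟩) fun k => h2 ⟨hb, k⟩⟩
        rw [hE.card] at this
        rw [h.c0]; omega)
    have SZ : S ≤ Ct (E1 ⊓ E2) := fun r hr => by
      by_cases rA : r ∈ E1 ⊔ E2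
      · exact le_ct_comm.1 cZ rA
      · have k : s ∈ Ct (E1 ⊓ E2) := fun w hw => hE.el.ab w (e.ge hw).1 s sE
        exact (mul_mem_cancel_right k).1 (le_ct_comm.1 cZ (h.al.mul hr (hE.le sE) rA sA))
    have eZ : E1 ⊓ E2 = S ⊓ Ct S := le_antisymm (le_inf (ZA.trans h.al.le) (le_ct_comm.1 SZ)) fun c hc => by
      have cA : c ∈ E1 ⊔ E2 := by
        by_contra k
        exact ne ((mem_normalizer_iff_cj.1 (ct_le_nm E1 (centralizer_le h.h1.le hc.2))).symm.trans (sw c hc.1 k).1)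
      exact (h.cen c cA).1 (centralizer_le h.al.le hc.2)
    refine fin (Nm S) S (fun n hn => ?_)
      (fun n hn => mem_centralizer_singleton_iff.2 (mul_inv_eq_iff_eq_mul.1 (h.al.nfix hn)))
      (fun n hn => (hy.odd_pow hn).imp fun m hm => ⟨hm.1, SZ hm.2⟩) (le_normalizer (le_normalizer hx)) le_rfl SZ
      fun g hg => Or.inl (mem_normalizer_of_cj_le hg)
    rw [eZ, mem_normalizer_iff_cj, cj_inf, cj_centralizer, mem_normalizer_iff_cj.1 hn]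

end CfsgLib.J3O
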