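import Cfsg.Agent.Lib.J3O.Bas

/-! TV.  Transvections.  For `g ∈ N(E)` write `s_g = g s g⁻¹`, `w_g = g w g⁻¹`, `Y_g = cj g Y`: `Tv E Y_g s_g w_g` (cj).
`Y` has index 2 in `E` (mul).  eq_of_mem: let `w' ∈ Y`.  If `w ∈ Y'` then `s, s'` commute on `E`, their squares centralise `E`, so (One) they act alike:
`Y = Y'` (fixed points) and `w = w'`.  If `w ∉ Y'` then `s'' = s s' s⁻¹` has centre `w'` and axis `cj s Y'`; `w'` lies on both axes, so by the first case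
`cj s Y' = Y'`; take `e ∉ Y`, one of `e, e w` lies in `Y'` and is not in `Y`; its `s`-conjugate gives `w ∈ Y'`.
third: `w' = w_g ∉ Y`, `w'' = n w' n⁻¹ = w_(ng) ∉ Y`.  `w'' ∈ Y_g`: eq_of_mem.  Else `w ∉ Y_g` (otherwise eq_of_mem gives `w = w' `), so
`s w'' s⁻¹ = w'' w ∈ Y_g` is the centre of `s_(sng)`, so it is `w'`.
odd_comm: `w_g ∈ Y`: K, `Y_g = Y`.  Else `r` fixes `w` and maps `w_g` to `w_g` or `w_g w`; odd, so it fixes `w_g` (induction on the power, or coset2 with `⊥ ≤ zpowers w`);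
K for `Y_g`: `r` normalises `Y_g`, so `v ∈ Y_g ↔ r v r⁻¹ ∈ Y_g`, and `v⁻¹ r v r⁻¹ ∈ Y_g` (mul), which `s_g` centralises. -/

set_option autoImplicit false
set_option linter.unusedSectionVars false
set_option linter.unusedVariables false

namespace CfsgLib.J3O
open Subgroup Cfsg CfsgLib.Tech CfsgLib.ACT
open scoped commutatorElement

variable {G : Type*} [Group G] [Finite G]

theorem Tv.mul {E Y : Subgroup G} {s w : G} (h : Tv E Y s w) {a b : G} (ha : a ∈ E) (hb : b ∈ E)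
    (haY : a ∉ Y) (hbY : b ∉ Y) : a * b ∈ Y := by
  by_contra hn
  have e1 := h.mov _ (mul_mem ha hb) hn
  have wE := h.le h.wY
  rw [show s * (a * b) * s⁻¹ = (s * a * s⁻¹) * (s * b * s⁻¹) by group, h.mov a ha haY, h.mov b hb hbY, mul_assoc a,
    ← mul_assoc w, h.el.ab w wE b hb, mul_assoc b, h.el w wE, mul_one] at e1
  exact h.w1 (left_eq_mul.1 e1)

theorem Tv.cj {E Y : Subgroup G} {s w : G} (h : Tv E Y s w) {g : G} (hg : g ∈ Nm E) :
    Tv E (cj g Y) (g * s * g⁻¹) (g * w * g⁻¹) := by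
  refine ⟨h.el, cj_le_iff.2 fun x hx => conj_mem_of_mem_normalizer hg (h.le hx),
    mul_mem (mul_mem hg h.nm) (inv_mem hg), conj_mem_cj.2 h.wY, fun e => h.w1 (conj_eq_one_iff.1 e),
    fun e he => ?_, fun e he hn => ?_, ?_, h.one⟩
  · calc _ = g * (s * (g⁻¹ * e * g) * s⁻¹) * g⁻¹ := by group
      _ = e := by rw [h.fix _ (mem_cj.1 he)]; group
  · calc _ = g * (s * (g⁻¹ * e * g) * s⁻¹) * g⁻¹ := by group
      _ = _ := by rw [h.mov _ (conj_mem_of_mem_normalizer' hg he) fun k => hn (mem_cj.2 k)]; group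
  · obtain ⟨e, he, hn⟩ := h.ne
    exact ⟨_, conj_mem_of_mem_normalizer hg he, fun k => hn (conj_mem_cj.1 k)⟩

theorem Tv.mem_iff {E Y : Subgroup G} {s w : G} (h : Tv E Y s w) {e : G} (he : e ∈ E) :
    e ∈ Y ↔ s * e * s⁻¹ = e :=
  ⟨h.fix e, fun k => by_contra fun hn => h.w1 (left_eq_mul.1 (k.symm.trans (h.mov e he hn)))⟩

theorem Tv.ct {E : Subgroup G} {a : G} : a ∈ Ct E ↔ ∀ e ∈ E, a * e * a⁻¹ = e :=
  mem_centralizer_iff.trans (forall₂_congr fun _ _ => by rw [mul_inv_eq_iff_eq_mul, eq_comm])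

theorem Tv.ct_conj {E : Subgroup G} {g c : G} (hg : g ∈ Nm E) (hc : c ∈ Ct E) : g⁻¹ * c * g ∈ Ct E :=
  Tv.ct.2 fun e he => by
    calc _ = g⁻¹ * (c * (g * e * g⁻¹) * c⁻¹) * g := by group
      _ = e := by rw [Tv.ct.1 hc _ (conj_mem_of_mem_normalizer hg he)]; group

theorem Tv.not_ct {E Y : Subgroup G} {s w : G} (h : Tv E Y s w) : s ∉ Ct E := fun k => by
  obtain ⟨e, he, hn⟩ := h.ne
  exact hn ((h.mem_iff he).2 (Tv.ct.1 k e he))

theorem Tv.sq_ct {E Y : Subgroup G} {s w : G} (h : Tv E Y s w) : s * s ∈ Ct E := Tv.ct.2 fun e he => by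
  rw [show s * s * e * (s * s)⁻¹ = s * (s * e * s⁻¹) * s⁻¹ by group]
  by_cases hY : e ∈ Y
  · rw [h.fix e hY, h.fix e hY]
  · rw [h.mov e he hY, show s * (e * w) * s⁻¹ = (s * e * s⁻¹) * (s * w * s⁻¹) by group, h.mov e he hY, h.fix w h.wY,
      mul_assoc, h.el w (h.le h.wY), mul_one]

theorem Tv.delta {E Y : Subgroup G} {s w : G} (h : Tv E Y s w) {e : G} (he : e ∈ E) :
    ∃ d, (d = 1 ∨ d = w) ∧ s * e * s⁻¹ = e * d := by
  by_cases hY : e ∈ Y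
  · exact ⟨1, .inl rfl, by rw [h.fix e hY, mul_one]⟩
  · exact ⟨w, .inr rfl, h.mov e he hY⟩

theorem Tv.eq_of_mem2 {E Y Y' : Subgroup G} {s w s' w' : G} (h : Tv E Y s w) (h' : Tv E Y' s' w')
    (hw : w' ∈ Y) (hw' : w ∈ Y') : w' = w ∧ Y' = Y := by
  have c : ∀ e ∈ E, s * s' * e * (s * s')⁻¹ = s' * s * e * (s' * s)⁻¹ := fun e he => by
    obtain ⟨d, hd, e1⟩ := h.delta he
    obtain ⟨d', hd', e2⟩ := h'.delta he
    have d1 : d ∈ Y' := by rcases hd with rfl | rfl; exacts [one_mem _, hw']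
    have d2 : d' ∈ Y := by rcases hd' with rfl | rfl; exacts [one_mem _, hw]
    calc _ = s * (s' * e * s'⁻¹) * s⁻¹ := by group
      _ = (s * e * s⁻¹) * (s * d' * s⁻¹) := by rw [e2]; group
      _ = (s' * e * s'⁻¹) * (s' * d * s'⁻¹) := by
        rw [e1, e2, h.fix d' d2, h'.fix d d1, mul_assoc, mul_assoc, h.el.ab d (h'.le d1) d' (h.le d2)]
      _ = s' * (s * e * s⁻¹) * s'⁻¹ := by rw [e1]; group
      _ = _ := by group
  have k := h.one s h.nm s' h'.nm h.not_ct h'.not_ct h.sq_ct h'.sq_ct (Tv.ct.2 fun e he => by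
    calc _ = s * s' * ((s' * s)⁻¹ * e * (s' * s)) * (s * s')⁻¹ := by rw [commutatorElement_def]; group
      _ = e := by rw [c _ (conj_mem_of_mem_normalizer' (mul_mem h'.nm h.nm) he)]; group)
  have a : ∀ e ∈ E, s' * e * s'⁻¹ = s * e * s⁻¹ := fun e he => by
    conv_rhs => rw [← Tv.ct.1 k e he]
    group
  have eY : Y' = Y := le_antisymm (fun e he => (h.mem_iff (h'.le he)).2 ((a e (h'.le he)).symm.trans (h'.fix e he)))
    fun e he => (h'.mem_iff (h.le he)).2 ((a e (h.le he)).trans (h.fix e he))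
  obtain ⟨e, he, hn⟩ := h.ne
  exact ⟨mul_left_cancel ((h'.mov e he (eY ▸ hn)).symm.trans ((a e he).trans (h.mov e he hn))), eY⟩

theorem Tv.eq_of_mem {E Y Y' : Subgroup G} {s w s' w' : G} (h : Tv E Y s w) (h' : Tv E Y' s' w')
    (hw : w' ∈ Y) : w' = w ∧ Y' = Y := by
  by_cases hw' : w ∈ Y'
  · exact h.eq_of_mem2 h' hw hw'
  exfalso
  have h'' := h'.cj h.nm
  rw [h.fix w' hw] at h''
  have eY := (h'.eq_of_mem2 h'' h'.wY h''.wY).2
  have k : ∀ e ∈ Y', e ∉ Y → False := fun e he hn => by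
    have := (conj_mem_cj (g := s)).2 he
    rw [eY, h.mov e (h'.le he) hn] at this
    exact hw' ((mul_mem_cancel_left he).1 this)
  obtain ⟨e, he, hn⟩ := h.ne
  by_cases hY : e ∈ Y'
  · exact k e hY hn
  · exact k _ (h'.mul he (h.le h.wY) hY hw') fun m => hn ((mul_mem_cancel_right h.wY).1 m)

theorem Tv.K {E Y : Subgroup G} {s w : G} (h : Tv E Y s w) {g : G} (hg : g ∈ Nm E)
    (hw : g * w * g⁻¹ ∈ Y) : g * w * g⁻¹ = w ∧ g ∈ Nm Y := by
  obtain ⟨e1, e2⟩ := h.eq_of_mem (h.cj hg) hw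
  exact ⟨e1, mem_normalizer_iff_cj.2 e2⟩

theorem Tv.third {E Y : Subgroup G} {s w : G} (h : Tv E Y s w) {g n : G} (hg : g ∈ Nm E)
    (hw : g * w * g⁻¹ ∉ Y) (hn : n ∈ Nm E) (hnw : n * w * n⁻¹ = w) (hnY : n ∈ Nm Y) :
    n * (g * w * g⁻¹) * n⁻¹ = g * w * g⁻¹ ∨ n * (g * w * g⁻¹) * n⁻¹ = g * w * g⁻¹ * w := by
  have h1 := h.cj hg
  have h2 := h1.cj hn
  by_cases k : n * (g * w * g⁻¹) * n⁻¹ ∈ Tech.cj g Y
  · exact .inl (h1.eq_of_mem h2 k).1
  have k' : w ∉ Tech.cj g Y := fun m => hw ((h1.eq_of_mem h m).1 ▸ h.wY)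
  have wE := h.le h.wY
  have h3 := h2.cj h.nm
  rw [h.mov _ (h2.le h2.wY) fun m => hw ((mem_normalizer_iff.1 hnY _).2 m)] at h3
  right
  rw [← (h1.eq_of_mem h3 (h1.mul (h2.le h2.wY) wE k k')).1, mul_assoc _ w w, h.el w wE, mul_one,
    (h1.eq_of_mem h3 (h1.mul (h2.le h2.wY) wE k k')).1]

theorem Tv.odd_comm {E Y : Subgroup G} {s w : G} (h : Tv E Y s w) {g r : G} (hg : g ∈ Nm E)
    (hr : r ∈ Nm E) (hrw : r * w * r⁻¹ = w) (hrY : r ∈ Nm Y) (ho : Odd (orderOf r)) {v : G} (hv : v ∈ Y) :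
    v⁻¹ * (r * v * r⁻¹) ∈ Cx (g * s * g⁻¹) := by
  have h1 := h.cj hg
  have key : r ∈ Nm (Tech.cj g Y) := by
    by_cases hw : g * w * g⁻¹ ∈ Y
    · rwa [mem_normalizer_iff_cj.1 (h.K hg hw).2]
    refine (h1.K hr ?_).2
    have t := h.third hg hw hr hrw hrY
    have m := h1.wY
    generalize g * w * g⁻¹ = u at t m
    rcases t with t | t
    · rwa [t]
    · have c : Commute (r * r) u := mul_inv_eq_iff_eq_mul.1 (by
        calc _ = r * (r * u * r⁻¹) * r⁻¹ := by group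
          _ = (r * u * r⁻¹) * (r * w * r⁻¹) := by nth_rewrite 1 [t]; group
          _ = u := by rw [t, hrw, mul_assoc, h.el w (h.le h.wY), mul_one])
      obtain ⟨k, hk⟩ := ho
      have e : (r * r) ^ (k + 1) = r := by
        rw [← pow_two, ← pow_mul, show 2 * (k + 1) = 2 * k + 1 + 1 by ring, pow_succ, ← hk, pow_orderOf_eq_one, one_mul]
      have c' := c.pow_left (k + 1)
      rw [e] at c'
      rwa [c'.eq, mul_inv_cancel_right]
  have m : v⁻¹ * (r * v * r⁻¹) ∈ Tech.cj g Y := by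
    by_cases hv' : v ∈ Tech.cj g Y
    · exact mul_mem (inv_mem hv') (conj_mem_of_mem_normalizer key hv')
    · exact h1.mul (inv_mem (h.le hv)) (conj_mem_of_mem_normalizer hr (h.le hv)) (fun m => hv' (inv_mem_iff.1 m))
        fun m => hv' ((mem_normalizer_iff.1 key _).2 m)
  exact mem_centralizer_singleton_iff.2 (mul_inv_eq_iff_eq_mul.1 (h1.fix _ m)).symm

/-- If `T C(E) / C(E)` has order two, a 2-element of `N(E)` acts trivially or as a conjugate of `s`. -/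
theorem two_act {E T : Subgroup G} (hT : IsSylowIn 2 T (Nm E)) {s : G} (hs : s ∈ T) (hsC : s ∉ Ct E)
    (h : ∀ a ∈ T, ∀ b ∈ T, a ∉ Ct E → b ∉ Ct E → a⁻¹ * b ∈ Ct E) {y : G} (hy : y ∈ Nm E) (h2 : Two y) :
    y ∈ Ct E ∨ ∃ g ∈ Nm E, y⁻¹ * (g * s * g⁻¹) ∈ Ct E := by
  obtain ⟨g, hg, hm⟩ := hT.exists_conj_mem hy h2.zpowers
  by_cases k : g * y * g⁻¹ ∈ Ct E
  · left
    simpa [mul_assoc] using Tv.ct_conj hg k
  · refine .inr ⟨g⁻¹, inv_mem hg, ?_⟩
    simpa [mul_assoc] using Tv.ct_conj hg (h _ hm s hs k hsC)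

end CfsgLib.J3O
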