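import Cfsg.Agent.Lib.J3O.M2
import Cfsg.Agent.Lib.J3O.Tv
import Cfsg.Agent.Lib.J3O.Tr

/-! MB.  All `E₃₂` are normal.  `A = E1 ⊔ E2`, `Z0 = E1 ⊓ E2`, `x ∈ S - A`.
der: comm_le with `Y = Z0` (`x e1 x⁻¹ ∈ E1 - Z0`, dec).  So `Z0 ≰ C(S)` (not_cen) and no element of `S - A` centralises `Z0`.
only: `E3 ≰ A`: inf16 gives `|E3 ⊓ Ei| = 16`, `E3 ⊓ A` is proper in `E3`, so `E3 ⊓ E1 = E3 ⊓ A = E3 ⊓ E2 = Z0` is centralised by an element outside `A`.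
sq: if `x² ∈ E1` then `y = ⁅e, x⁆ ∈ Z0` commutes with `x` for all `e ∈ E1` (`x e x⁻¹ = e y`, conjugate twice).  If `x² ∈ E1 ⊓ E2` all `⁅a, x⁆` are central; comm_le, not_cen with `Y = Z0 ⊓ C(S)`.
core (`x² ∉ E1`): `S ⊓ C(E1) = E1`.  `a ∈ S`, `a² ∈ C(E1)` forces `a ∈ A` (`a = b x`, `b ∈ A`: `a² = b (x b x⁻¹) x²`, `b (x b x⁻¹) ∈ E1` by Al.mul-like index 2 of `E1` in `A`);
so one_of_syl with `T = S`, and `Tv E1 Z0 e2 z`.  `N(E1) ≤ N(Z0)`: if `w' = g z g⁻¹ ∈ Z0`, K.  Else third with `n = x`: `x` maps `w'` into `{w', w' z}`, so `x²` fixes `w'`;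
but `x² ∈ A - E1` acts on `E1` as `e2`.  t2 with `Y = Z0`, `u = e1`, `R = E1`: `cj g E1 ∈ {E1, E2}`.  `E1`: `g e1 g⁻¹ ∈ E1 - Z0`, so `e1⁻¹ g e1 g⁻¹ ∈ Z0`.
`E2`: conj_norm gives `n ∈ N(S)` with `cj n E1 = E2`, `cj n E2 = E1` (only); `n^m ∈ S`, `m` odd, swaps them. -/

set_option autoImplicit false
set_option linter.unusedSectionVars false
set_option linter.unusedVariables false

namespace CfsgLib.J3O
open Subgroup Cfsg CfsgLib.Tech CfsgLib.ACT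
open scoped commutatorElement

variable {G : Type*} [Group G] [Finite G]

/-- the elements whose commutator with `x` lies in the normal subgroup `Y` -/
theorem mb_comm {S E1 E2 Y : Subgroup G} {x : G} (l1 : E1 ≤ S) (l2 : E2 ≤ S) (hn : ∀ s ∈ S, ∀ y ∈ Y, s * y * s⁻¹ ∈ Y)
    (h1 : ∀ a ∈ E1, ⁅a, x⁆ ∈ Y) (h2 : ∀ a ∈ E2, ⁅a, x⁆ ∈ Y) : ∀ a ∈ E1 ⊔ E2, ⁅a, x⁆ ∈ Y := by
  let K : Subgroup G :=
    { carrier := {a | a ∈ S ∧ ⁅a, x⁆ ∈ Y}
      one_mem' := ⟨one_mem _, by simp⟩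
      mul_mem' := fun {a b} ha hb => ⟨mul_mem ha.1 hb.1, by
        have := mul_mem (hn a ha.1 _ hb.2) ha.2
        convert this using 1
        simp only [commutatorElement_def]; group⟩
      inv_mem' := fun {a} ha => ⟨inv_mem ha.1, by
        have := hn _ (inv_mem ha.1) _ (inv_mem ha.2)
        convert this using 1
        simp only [commutatorElement_def]; group⟩ }
  exact fun a ha => ((sup_le (fun a ha => ⟨l1 ha, h1 a ha⟩) fun a ha => ⟨l2 ha, h2 a ha⟩ : E1 ⊔ E2 ≤ K) ha).2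

theorem mb_e32 {S E : Subgroup G} (h : E32 S E) {g : G} (hg : cj g E ≤ S) : E32 S (cj g E) :=
  ⟨hg, fun a ha => by
    have := h.el _ (mem_cj.1 ha)
    calc a * a = g * (g⁻¹ * a * g * (g⁻¹ * a * g)) * g⁻¹ := by group
      _ = 1 := by rw [this]; group, (card_cj g E).trans h.card⟩

namespace M2

variable {S E1 E2 : Subgroup G} {e1 e2 z : G} (h : M2 S E1 E2 e1 e2 z)
include h

theorem mb_x : ∃ x ∈ S, x ∉ E1 ⊔ E2 := by
  by_contra k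
  push Not at k
  have := card_le_of_le (show S ≤ E1 ⊔ E2 from k)
  rw [h.al.card, h.al.hy.card] at this
  omega

theorem mb_idx : Nat.card S ≤ 2 * Nat.card (E1 ⊔ E2 : Subgroup G) := by
  rw [h.al.card, h.al.hy.card]

theorem mb_mul0 {a b : G} (ha : a ∈ E1) (hb : b ∈ E1) (na : a ∉ E1 ⊓ E2) (nb : b ∉ E1 ⊓ E2) : a * b ∈ E1 ⊓ E2 :=
  idx2_mul inf_le_left (by rw [h.c0, h.h1.card]) ha hb na nb

theorem mb_mul1 {a b : G} (ha : a ∈ E1 ⊔ E2) (hb : b ∈ E1 ⊔ E2) (na : a ∉ E1) (nb : b ∉ E1) : a * b ∈ E1 :=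
  idx2_mul le_sup_left (by rw [h.al.card, h.h1.card]) ha hb na nb

variable (hn : ∀ E, E32 S E → S ≤ Nm E)
include hn

theorem mb_n0 : S ≤ Nm (E1 ⊓ E2) := fun _ hs => bas_nm_inf (hn _ h.h1 hs) (hn _ h.h2 hs)

theorem mb_c1 {a x : G} (ha : a ∈ E1) (hx : x ∈ S) : ⁅a, x⁆ ∈ E1 ⊓ E2 := by
  rw [commutatorElement_def, mul_assoc, mul_assoc, ← mul_assoc x]
  by_cases k : a ∈ E1 ⊓ E2
  · exact mul_mem k (conj_mem_of_mem_normalizer (h.mb_n0 hn hx) (inv_mem k))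
  · exact h.mb_mul0 ha (conj_mem_of_mem_normalizer (hn _ h.h1 hx) (inv_mem ha)) k fun k' =>
      k (inv_mem_iff.1 ((mem_normalizer_iff.1 (h.mb_n0 hn hx) _).2 k'))

end M2

theorem M2.der {S E1 E2 : Subgroup G} {e1 e2 z : G} (h : M2 S E1 E2 e1 e2 z)
    (hn : ∀ E, E32 S E → S ≤ Nm E) : ∀ a ∈ S, ∀ b ∈ S, ⁅a, b⁆ ∈ E1 ⊓ E2 := by
  obtain ⟨x, hx, hxA⟩ := h.mb_x
  have n0 : ∀ s ∈ S, ∀ y ∈ E1 ⊓ E2, s * y * s⁻¹ ∈ E1 ⊓ E2 := fun s hs y hy =>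
    conj_mem_of_mem_normalizer (h.mb_n0 hn hs) hy
  refine comm_le h.al.le h.mb_idx hx hxA n0 (fun a ha b hb => ?_) (mb_comm h.h1.le h.h2.le n0
    (fun a ha => h.mb_c1 hn ha hx) fun a ha => inf_comm E2 E1 ▸ h.symm.mb_c1 hn ha hx)
  rcases h.al.comm ha hb with e | e <;> rw [e]
  exacts [one_mem _, h.z0]

namespace M2

variable {S E1 E2 : Subgroup G} {e1 e2 z x : G} (h : M2 S E1 E2 e1 e2 z)
include h

theorem mb_cenS {y : G} (hx : x ∈ S) (hxA : x ∉ E1 ⊔ E2) (hy : y ∈ E1 ⊓ E2) (e : x * y = y * x) : y ∈ Ct S := by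
  have c := mem_centralizer_iff.1 ((h.cen y (mem_sup_left hy.1)).2 hy)
  refine mem_centralizer_iff.2 fun s hs => ?_
  by_cases k : s ∈ E1 ⊔ E2
  · exact c s k
  · have := c _ (h.al.mul hs hx k hxA)
    rw [mul_assoc, e, ← mul_assoc, ← mul_assoc] at this
    exact mul_right_cancel this

variable (hn : ∀ E, E32 S E → S ≤ Nm E)
include hn

theorem mb_ncen (hx : x ∈ S) (hxA : x ∉ E1 ⊔ E2) (hc : ∀ y ∈ E1 ⊓ E2, x * y = y * x) : False :=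
  h.al.hy.not_cen (h.der hn) fun y hy => h.mb_cenS hx hxA hy (hc y hy)

theorem mb_le {E : Subgroup G} (hE : E32 S E) (hx : x ∈ E) (hxA : x ∉ E1 ⊔ E2) :
    Nat.card (E ⊓ E1 : Subgroup G) = 16 ∧ E ⊓ (E1 ⊔ E2) ≤ E1 := by
  have c := h.al.hy.inf16 hE h.h1 (hn _ hE) (hn _ h.h1) fun e => hxA (mem_sup_left (e ▸ hx))
  refine ⟨c, fun y hy => by_contra fun k => hxA ?_⟩
  have := idx2_mul (A := E ⊓ E1) inf_le_left (by rw [c, hE.card]) hy.1 hx (fun e => k e.2)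
    fun e => hxA (mem_sup_left e.2)
  exact (mul_mem_cancel_left (mem_inf.1 hy).2).1 (mem_sup_left this.2)

/-- `E1` is its own centraliser in `S` -/
theorem mb_self {s : G} (hs : s ∈ S) (hc : s ∈ Ct E1) : s ∈ E1 := by
  have c := mem_centralizer_iff.1 hc
  by_contra k
  by_cases hA : s ∈ E1 ⊔ E2
  · have e := h.h1.el.ab _ h.m1 _ (h.mb_mul1 hA (mem_sup_right h.m2) k h.n2)
    rw [← mul_assoc, c _ h.m1, mul_assoc, mul_assoc] at e
    exact h.al.z1 (h.ze ▸ commutatorElement_eq_one_iff_mul_comm.2 (mul_left_cancel e))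
  · exact h.mb_ncen hn hs hA fun y hy => (c y hy.1).symm

theorem mb_sq (hx : x ∈ S) (hxA : x ∉ E1 ⊔ E2) (hx2 : x * x ∈ E1) {a : G} (ha : a ∈ E1) :
    ⁅a, x⁆ ∈ E1 ⊓ E2 ⊓ Ct S := by
  have k := h.mb_c1 hn ha hx
  refine ⟨k, h.mb_cenS hx hxA k (mul_inv_eq_iff_eq_mul.1 ?_)⟩
  refine Eq.trans ?_ (inv_eq_of_mul_eq_one_right (h.h1.el _ k.1))
  rw [commutatorElement_inv, commutatorElement_def, commutatorElement_def]
  calc _ = x * a * x⁻¹ * (x * x * a⁻¹ * (x * x)⁻¹) := by group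
    _ = _ := by rw [h.h1.el.ab _ hx2 _ (inv_mem ha), mul_inv_cancel_right]

end M2

theorem M2.only {S E1 E2 : Subgroup G} {e1 e2 z : G} (h : M2 S E1 E2 e1 e2 z)
    (hn : ∀ E, E32 S E → S ≤ Nm E) {E : Subgroup G} (hE : E32 S E) : E = E1 ∨ E = E2 := by
  refine h.two E hE fun x hx => by_contra fun hxA => ?_
  obtain ⟨c1, l1⟩ := h.mb_le hn hE hx hxA
  obtain ⟨-, l2⟩ := h.symm.mb_le hn hE hx (sup_comm E1 E2 ▸ hxA)
  have e : E ⊓ E1 = E1 ⊓ E2 := eq_of_le_of_card_ge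
    (le_inf inf_le_right ((inf_le_inf_left E le_sup_right).trans l2)) (by rw [c1, h.c0])
  exact h.mb_ncen hn (hE.le hx) hxA fun y hy => hE.el.ab _ hx _ (e.ge hy).1

theorem M2.core {S E1 E2 : Subgroup G} {e1 e2 z x : G} (h : M2 S E1 E2 e1 e2 z)
    (hn : ∀ E, E32 S E → S ≤ Nm E) (hx : x ∈ S) (hxA : x ∉ E1 ⊔ E2) (hx2 : x * x ∉ E1) : False := by
  have ab := h.h1.el.ab
  have n1 := hn _ h.h1
  have le : E1 ≤ Ct E1 := fun a ha => mem_centralizer_iff.2 fun b hb => ab b hb a ha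
  have inA : ∀ a ∈ S, a * a ∈ Ct E1 → a ∈ E1 ⊔ E2 := fun a ha hc => by_contra fun k => hx2 (by
    have hb := h.al.mul ha (inv_mem hx) k (by simpa using hxA)
    have e : a * a = a * x⁻¹ * (x * (a * x⁻¹) * x⁻¹) * (x * x) := by group
    refine (mul_mem_cancel_left ?_).1 (e ▸ h.mb_self hn (mul_mem ha ha) hc)
    by_cases k' : a * x⁻¹ ∈ E1
    · exact mul_mem k' (conj_mem_of_mem_normalizer (n1 hx) k')
    · exact h.mb_mul1 hb (conj_mem_of_mem_normalizer (h.al.nm hx) hb) k' fun k'' =>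
        k' ((mem_normalizer_iff.1 (n1 hx) _).2 k''))
  have one : One E1 := one_of_syl (h.al.hy.syl.of_le n1 le_top) fun a ha b hb na nb sa sb =>
    le (h.mb_mul1 (inv_mem (inA a ha sa)) (inA b hb sb) (fun k => na (le (inv_mem_iff.1 k))) fun k => nb (le k))
  have n0 : e1 ∉ E1 ⊓ E2 := fun k => h.n1 k.2
  have fix : ∀ e ∈ E1 ⊓ E2, e2 * e * e2⁻¹ = e := fun e he => by
    rw [h.h2.el.ab _ h.m2 _ he.2, mul_inv_cancel_right]
  have tv : Tv E1 (E1 ⊓ E2) e2 z := by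
    refine ⟨h.h1.el, inf_le_left, h.nm1 (mem_sup_right h.m2), h.z0, h.al.z1, fix, fun e he ne => ?_,
      ⟨e1, h.m1, n0⟩, one⟩
    have k := fix _ (h.mb_mul0 h.m1 he n0 ne)
    calc _ = e2 * e1⁻¹ * e2⁻¹ * (e2 * (e1 * e) * e2⁻¹) := by group
      _ = e1⁻¹ * (z * (e1 * e)) := by rw [k, ← h.ze, commutatorElement_def]; group
      _ = _ := by rw [ab _ h.z0.1 _ (mul_mem h.m1 he)]; group
  have xz : x * z * x⁻¹ = z := by rw [mem_centralizer_iff.1 h.al.cen x hx, mul_inv_cancel_right]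
  have nZ : ∀ g ∈ Nm E1, g ∈ Nm (E1 ⊓ E2) := fun g hg => by
    by_cases k : g * z * g⁻¹ ∈ E1 ⊓ E2
    · exact (tv.K hg k).2
    exfalso
    have wE := conj_mem_of_mem_normalizer hg h.z0.1
    have k1 := tv.third hg k (n1 hx) xz (h.mb_n0 hn hx)
    have k2 := tv.mov _ wE k
    generalize g * z * g⁻¹ = w at *
    have k3 : x * x * w * (x * x)⁻¹ = w := by
      have e : x * x * w * (x * x)⁻¹ = x * (x * w * x⁻¹) * x⁻¹ := by group
      rcases k1 with k1 | k1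
      · rw [e, k1, k1]
      · rw [e, k1, ← conj_mul, k1, xz, mul_assoc, h.al.z2, mul_one]
    have k4 := ab _ (h.mb_mul1 (inv_mem (mem_sup_right h.m2)) (h.al.mul hx hx hxA hxA) (by simpa using h.n2) hx2) _ wE
    refine h.al.z1 (mul_left_cancel (a := w) ?_)
    rw [← k2, mul_one]
    calc _ = e2 * (w * (e2⁻¹ * (x * x))) * (x * x)⁻¹ := by group
      _ = x * x * w * (x * x)⁻¹ := by rw [← k4]; group
      _ = w := k3
  obtain ⟨g, -, hg, ng⟩ := h.al.hy.t2 (h.der hn) (h.h1.le h.m1) n0 (h.h1.el _ h.m1) h.h1.el.two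
    (R := E1) fun a ha => mem_centralizer_singleton_iff.2 (ab _ ha _ h.m1)
  have ne : E1 ≠ E2 := fun e => h.n1 (e ▸ h.m1)
  rcases h.only hn (mb_e32 h.h1 hg) with e | e
  · have gN := mem_normalizer_iff_cj.2 e
    exact ng (h.mb_mul0 (inv_mem h.m1) (conj_mem_of_mem_normalizer gN h.m1) (by simpa using n0) fun k =>
      n0 ((mem_normalizer_iff.1 (nZ g gN) _).2 k))
  · obtain ⟨n, nS, en⟩ := h.al.hy.conj_norm n1 (e ▸ hn _ h.h2 : S ≤ Nm (cj g E1))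
    rw [e] at en
    have e2 : cj n E2 = E1 := (h.only hn (mb_e32 h.h2 (mem_normalizer_iff_cj.1 nS ▸ cj_mono n h.h2.le))).resolve_right
      fun k => ne (cj_injective n (en.trans k.symm))
    obtain ⟨m, ⟨k, rfl⟩, hm⟩ := h.al.hy.odd_pow nS
    have n2 : n ^ 2 ∈ Nm E2 := mem_normalizer_iff_cj.2 (by rw [pow_two, cj_mul, e2, en])
    have := mem_normalizer_iff_cj.1 (n1 hm)
    rw [pow_succ, cj_mul, en, pow_mul, mem_normalizer_iff_cj.1 (pow_mem n2 k)] at this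
    exact ne this.symm

theorem M2.caseB {S E1 E2 : Subgroup G} {e1 e2 z : G} (h : M2 S E1 E2 e1 e2 z)
    (hn : ∀ E, E32 S E → S ≤ Nm E) : False := by
  obtain ⟨x, hx, hxA⟩ := h.mb_x
  have hxA' : x ∉ E2 ⊔ E1 := sup_comm E1 E2 ▸ hxA
  have k1 : x * x ∈ E1 := by_contra (h.core hn hx hxA)
  have k2 : x * x ∈ E2 := by_contra (h.symm.core hn hx hxA')
  have n0 : ∀ s ∈ S, ∀ y ∈ E1 ⊓ E2 ⊓ Ct S, s * y * s⁻¹ ∈ E1 ⊓ E2 ⊓ Ct S := fun s hs y hy => by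
    rwa [mem_centralizer_iff.1 hy.2 s hs, mul_inv_cancel_right]
  refine h.al.hy.not_cen (comm_le h.al.le h.mb_idx hx hxA n0 (fun a ha b hb => ?_) (mb_comm h.h1.le h.h2.le n0
    (fun a ha => h.mb_sq hn hx hxA k1 ha) fun a ha => inf_comm E2 E1 ▸ h.symm.mb_sq hn hx hxA' k2 ha)) inf_le_right
  rcases h.al.comm ha hb with e | e <;> rw [e]
  exacts [one_mem _, ⟨h.z0, h.al.cen⟩]

end CfsgLib.J3O
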