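import Cfsg.Agent.Lib.J3O.Al

/-! N1.  No `E₃₂`.  Let `t = g0 z g0⁻¹ ≠ z`, `g` extremal (`g t g⁻¹ = z`, `C_S(t)^g ≤ S`), `z' = g z g⁻¹ ∈ S`, `z' ≠ z`, `D = A ⊓ C(t)`.
key: `d ∈ D` with `g d g⁻¹ ∈ A` has `d² = 1` (`d² ∈ {1, z}`, `(g d g⁻¹)² ∈ {1, z}`).  So `B = D ⊓ cj g⁻¹ A` is elementary of index `≤ 2` in `D` (Al.mul).
n1: `t ∈ Z(A)`: `D = A`, `|B| ≥ 32`, le16.
n2: suppose no conjugate `≠ z` lies in `A`; zstar gives `t ∈ S - A`; `z' ∉ A`.  `D` is elementary (if `g d g⁻¹ ∉ A` then `g (d z) g⁻¹ ∈ A`), `D ⟨t⟩` too, so `|D| ≤ 8`.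
`Y, A1` for `x = t`: `|A1| ≥ 16`, `|A1| ≤ 2 |A1 ⊓ C(t)| ≤ 2 |D|` so `|A1| = 16`, `|Y| = 8`, and some `a1 ∈ A1` has `⁅a1, t⁆ = z`: `a1 t a1⁻¹ = z t`.
`|Y ⊓ C(t)| ≥ 4` (card_cent): `y ∈ Y ⊓ C(t)`, `y ∉ ⟨z⟩`, replacing `y` by `y z`: `y = ⁅a, t⁆`.  `z t, y t = a t a⁻¹, y z t = a (z t) a⁻¹` are conjugate to `z`.
`g z g⁻¹, g y g⁻¹ ∈ S`, `g z g⁻¹ ∉ A`, so `g d g⁻¹ ∈ A` for `d = y` or `d = y z`; `g (d t) g⁻¹ = g d g⁻¹ z ∈ A` is conjugate to `z`, so it is `z`, `d = 1`.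
n3: `t ∈ A`, `t ≠ z` (n2), not central in `A` (n1); `|D| ≥ 32` (card_cent), `|B| ≤ 16`, so `|B| = 16`, `B ≠ D`, `D` is not elementary (le16), `z ∈ B` (else `D` is elementary as in n2),
`t ∈ B`.  New data: `B' = cj g B ≤ A`, `t' = z' ∈ A`, `x = g d g⁻¹` with `d ∈ D - B`; `t'` is not central in `A` (n1), Al.comm gives `s`. -/

set_option autoImplicit false
set_option linter.unusedSectionVars false
set_option linter.unusedVariables false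

namespace CfsgLib.J3O
open Subgroup Cfsg CfsgLib.Tech CfsgLib.ACT
open scoped commutatorElement

variable {G : Type*} [Group G] [Finite G]

namespace N1

variable {S A D : Subgroup G} {z t g : G}

theorem zc (h : Al S A z) {s : G} (hs : s ∈ S) : s * z = z * s := h.cen s hs

theorem cm (g a b : G) : g * (a * b) * g⁻¹ = g * a * g⁻¹ * (g * b * g⁻¹) := by group

theorem key (h : Al S A z) (hz : g * z * g⁻¹ ≠ z) {d : G} (hd : d ∈ A) (hd' : g * d * g⁻¹ ∈ A) : d * d = 1 := by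
  refine (h.sq d hd).resolve_right fun e => ?_
  rcases h.sq _ hd' with k | k <;> rw [← cm, e] at k
  · exact h.z1 (by simpa using k)
  · exact hz k

/-- the elements of `D` which `g` conjugates into `A` -/
def pull (A D : Subgroup G) (g : G) : Subgroup G := D ⊓ A.comap (MulAut.conj g).toMonoidHom

theorem mem_pull {d : G} : d ∈ pull A D g ↔ d ∈ D ∧ g * d * g⁻¹ ∈ A := Iff.rfl

theorem core (h : Al S A z) (hno : ∀ E, ¬ E32 S E) (hz : g * z * g⁻¹ ≠ z) (hD : D ≤ A)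
    (hg : ∀ d ∈ D, g * d * g⁻¹ ∈ S) :
    El (pull A D g) ∧ Nat.card (pull A D g) ≤ 16 ∧ Nat.card D ≤ 2 * Nat.card (pull A D g) := by
  have e : El (pull A D g) := fun d hd => key h hz (hD hd.1) hd.2
  refine ⟨e, h.hy.le16 hno (inf_le_left.trans (hD.trans h.le)) e, card_le_two_mul inf_le_left fun x hx y hy kx ky =>
    mem_pull.2 ⟨mul_mem hx hy, ?_⟩⟩
  rw [cm]
  exact h.mul (hg x hx) (hg y hy) (fun k => kx ⟨hx, k⟩) fun k => ky ⟨hy, k⟩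

theorem elD (h : Al S A z) (hS : g * z * g⁻¹ ∈ S) (hA : g * z * g⁻¹ ∉ A) (hD : D ≤ A)
    (hg : ∀ d ∈ D, g * d * g⁻¹ ∈ S) : El D := fun d hd => by
  have hz : g * z * g⁻¹ ≠ z := fun e => hA (e.symm ▸ h.zA)
  by_cases k : g * d * g⁻¹ ∈ A
  · exact key h hz (hD hd) k
  · have := key h hz (mul_mem (hD hd) h.zA) (cm g d z ▸ h.mul (hg d hd) hS k hA)
    rwa [mul_assoc, ← mul_assoc z, ← zc h (h.le (hD hd)), mul_assoc, h.z2, mul_one] at this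

theorem ext (h : Al S A z) {g0 : G} (ht : t = g0 * z * g0⁻¹) (hS : t ∈ S) (hne : t ≠ z) :
    ∃ g : G, g * t * g⁻¹ = z ∧ g * z * g⁻¹ ≠ z ∧ g * z * g⁻¹ ∈ S ∧ ∀ d ∈ A ⊓ Cx t, g * d * g⁻¹ ∈ S := by
  obtain ⟨g, h1, h2⟩ := h.hy.extremal (h.le h.zA) h.cen ht
  exact ⟨g, h1, fun e => hne (by simpa using h1.trans e.symm), h2 z (h.le h.zA) (zc h hS).symm,
    fun d hd => h2 d (h.le hd.1) (mem_centralizer_singleton_iff.1 hd.2)⟩

end N1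

open N1

theorem Al.n1 {S A : Subgroup G} {z : G} (h : Al S A z) (hno : ∀ E, ¬ E32 S E) {g0 : G}
    (hA : g0 * z * g0⁻¹ ∈ A) (hc : g0 * z * g0⁻¹ ∈ Ct A) : g0 * z * g0⁻¹ = z := by
  by_contra hne
  obtain ⟨g, -, h2, -, h4⟩ := ext h rfl (h.le hA) hne
  obtain ⟨-, k1, k2⟩ := core h hno h2 le_rfl fun d hd => h4 d ⟨hd, mem_centralizer_singleton_iff.2 (hc d hd)⟩
  rw [h.card] at k2
  omega

theorem Al.n2 {S A : Subgroup G} {z : G} (h : Al S A z) (hno : ∀ E, ¬ E32 S E) :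
    ∃ g0 : G, g0 * z * g0⁻¹ ∈ A ∧ g0 * z * g0⁻¹ ≠ z := by
  by_contra hcon
  have hc : ∀ g0 : G, g0 * z * g0⁻¹ ∈ A → g0 * z * g0⁻¹ = z := fun g0 k => by_contra fun k' => hcon ⟨g0, k, k'⟩
  obtain ⟨g0, tS, hne⟩ := h.hy.zstar (h.le h.zA) h.z1 h.z2
  obtain ⟨t, ht⟩ : ∃ t, t = g0 * z * g0⁻¹ := ⟨_, rfl⟩
  have tA : t ∉ A := fun k => hne (hc g0 (ht ▸ k))
  rw [← ht] at tS hne
  have t2 : t * t = 1 := by rw [ht, ← cm, h.z2, mul_one, mul_inv_cancel]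
  obtain ⟨g, h1, h2, h3, h4⟩ := ext h ht tS hne
  have zA : g * z * g⁻¹ ∉ A := fun k => h2 (hc g k)
  have tC : t ∈ Ct (A ⊓ Cx t) := fun d hd => mem_centralizer_singleton_iff.1 hd.2
  have c1 := h.hy.le16 hno (sup_le (inf_le_left.trans h.le) (zpowers_le.2 tS))
    (el_sup_zp (elD h h3 zA inf_le_left h4) tC t2)
  rw [(card_sup_zp (ct_le_nm _ tC) (fun k => tA k.1) (t2 ▸ one_mem _)).1] at c1
  obtain ⟨Y, A1, ya⟩ := h.exists_YA tS tA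
  have c2 := h.card_cent ya.A1A (t := t) fun d hd => (ya.mem1 d (ya.A1A hd)).1 hd
  have c3 := h.card_cent (ya.YA1.trans ya.A1A) (t := t) fun d hd => ya.cen d hd t tS
  have c4 : Nat.card (A1 ⊓ Cx t : Subgroup G) ≤ Nat.card (A ⊓ Cx t : Subgroup G) :=
    card_le_of_le (inf_le_inf_right _ ya.A1A)
  have c5 := ya.card
  have c6 := ya.le8
  have c7 : 16 ≤ Nat.card A1 := by nlinarith
  have c8 : 8 ≤ Nat.card Y := by nlinarith
  obtain ⟨a1, ha1, e1⟩ : ∃ a1 ∈ A, ⁅a1, t⁆ = z := by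
    by_contra k
    have : A1 ≤ A ⊓ Cx t := fun a ha => ⟨ya.A1A ha, mem_centralizer_singleton_iff.2
      (commutatorElement_eq_one_iff_mul_comm.1 (((ya.mem1 a (ya.A1A ha)).1 ha).resolve_right fun e =>
        k ⟨a, ya.A1A ha, e⟩))⟩
    have := card_le_of_le this
    omega
  obtain ⟨y, hy, yz⟩ : ∃ y ∈ Y ⊓ Cx t, y ∉ zpowers z := by
    by_contra k
    have := card_le_of_le (show Y ⊓ Cx t ≤ zpowers z from fun y hy => by_contra fun k' => k ⟨y, hy, k'⟩)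
    rw [Nat.card_zpowers, ord_two h.z2 h.z1] at this
    omega
  have zt : z ∈ Y ⊓ Cx t := ⟨ya.zY, mem_centralizer_singleton_iff.2 (zc h tS).symm⟩
  obtain ⟨a, ha, hy, yz⟩ : ∃ a ∈ A, ⁅a, t⁆ ∈ Y ⊓ Cx t ∧ ⁅a, t⁆ ∉ zpowers z := by
    obtain ⟨a, ha, rfl | rfl⟩ := (ya.memY y).1 hy.1
    · exact ⟨a, ha, hy, yz⟩
    · exact ⟨a, ha, (mul_mem_cancel_right zt).1 hy, fun k => yz (mul_mem k (mem_zpowers z))⟩
  have fin : ∀ d k : G, g * d * g⁻¹ ∈ A → d * t = k * t * k⁻¹ → d = 1 := fun d k k1 k2 => by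
    have e : g * k * g0 * z * (g * k * g0)⁻¹ = g * d * g⁻¹ * z := by
      conv_rhs => rw [← h1, ← cm, k2, ht]
      group
    have := hc (g * k * g0) (e ▸ mul_mem k1 h.zA)
    rw [e] at this
    simpa using this
  have yS := h4 _ ⟨ya.A1A (ya.YA1 hy.1), hy.2⟩
  by_cases k : g * ⁅a, t⁆ * g⁻¹ ∈ A
  · exact yz (fin _ a k (by rw [commutatorElement_def]; group) ▸ one_mem _)
  · have := fin (⁅a, t⁆ * z) (a * a1) (cm g _ z ▸ h.mul yS h3 k zA) (by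
      have e2 : a1 * t * a1⁻¹ = z * t := by rw [← e1, commutatorElement_def]; group
      calc ⁅a, t⁆ * z * t = a * (t * (a⁻¹ * z)) := by
            rw [mul_assoc, ← zc h tS, commutatorElement_def]; group
        _ = a * (z * t) * a⁻¹ := by rw [zc h (inv_mem (h.le ha)), ← zc h tS]; group
        _ = _ := by rw [← e2]; group)
    exact yz (eq_inv_of_mul_eq_one_left this ▸ inv_mem (mem_zpowers z))

theorem Al.n3 {S A : Subgroup G} {z : G} (h : Al S A z) (hno : ∀ E, ¬ E32 S E) :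
    ∃ B t x s, N3 S A B z t x s := by
  obtain ⟨g0, tA, hne⟩ := h.n2 hno
  obtain ⟨t, ht⟩ : ∃ t, t = g0 * z * g0⁻¹ := ⟨_, rfl⟩
  rw [← ht] at tA hne
  obtain ⟨g, h1, h2, h3, h4⟩ := ext h ht (h.le tA) hne
  obtain ⟨e, c1, c2⟩ := core h hno h2 inf_le_left h4
  have c3 := h.card_cent le_rfl (t := t) fun d hd => h.comm hd tA
  rw [h.card] at c3
  have zA : g * z * g⁻¹ ∈ A := by
    by_contra k
    have := h.hy.le16 hno (inf_le_left.trans h.le) (elD h h3 k inf_le_left h4)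
    omega
  obtain ⟨d, hd, dB⟩ : ∃ d ∈ A ⊓ Cx t, d ∉ pull A (A ⊓ Cx t) g := by
    by_contra k
    have := card_le_of_le (show A ⊓ Cx t ≤ pull A (A ⊓ Cx t) g from fun y hy => by_contra fun k' => k ⟨y, hy, k'⟩)
    omega
  obtain ⟨s, hs, st⟩ : ∃ s ∈ A, s * (g * z * g⁻¹) ≠ g * z * g⁻¹ * s := by
    by_contra k
    exact h2 (h.n1 hno zA fun s hs => by_contra fun k' => k ⟨s, hs, k'⟩)
  refine ⟨cj g (pull A (A ⊓ Cx t) g), g * z * g⁻¹, g * d * g⁻¹, s, h, hno, cj_le_iff.2 fun b hb => hb.2, ?_,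
    by rw [card_cj]; omega, conj_mem_cj.2 ⟨⟨h.zA, mem_centralizer_singleton_iff.2 (zc h (h.le tA)).symm⟩, zA⟩,
    h1 ▸ conj_mem_cj.2 ⟨⟨tA, mem_centralizer_singleton_iff.2 rfl⟩, (h1.symm ▸ h.zA : g * t * g⁻¹ ∈ A)⟩, h4 d hd,
    fun k => dB ⟨hd, k⟩, ?_, by rw [← cm, ← cm, zc h (h.le hd.1)], ?_, hs,
    (h.comm hs zA).resolve_left fun k => st (commutatorElement_eq_one_iff_mul_comm.1 k)⟩
  · rintro _ ⟨b, hb, rfl⟩
    change g * b * g⁻¹ * (g * b * g⁻¹) = 1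
    rw [← cm, e b hb, mul_one, mul_inv_cancel]
  · rw [← cm]
    exact (h.sq d hd.1).imp (fun k => by rw [k, mul_one, mul_inv_cancel]) fun k => by rw [k]
  · rintro _ ⟨b, hb, rfl⟩
    change ⁅g * b * g⁻¹, g * d * g⁻¹⁆ = 1 ∨ ⁅g * b * g⁻¹, g * d * g⁻¹⁆ = _
    rw [← conjugate_commutatorElement]
    exact (h.comm hb.1.1 hd.1).imp (fun k => by rw [k, mul_one, mul_inv_cancel]) fun k => by rw [k]

end CfsgLib.J3O
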