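import Cfsg.Agent.Lib.J3O.Al
import Cfsg.Agent.Lib.J3O.Tr
import Cfsg.Agent.Lib.SzS.Gen

/-! N2b.  The case where `x` centralises `B`; see the header of `N2.lean`. -/

set_option autoImplicit false
set_option linter.unusedSectionVars false
set_option linter.unusedVariables false

namespace CfsgLib.J3O
open Subgroup Cfsg CfsgLib.Tech CfsgLib.ACT
open scoped commutatorElement

variable {G : Type*} [Group G] [Finite G]

theorem N3.cy {S A B : Subgroup G} {z t x s : G} (h : N3 S A B z t x s) (hx : x ∈ Ct B) :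
    ∃ Z1 c, Cy S Z1 c := by
  have hy := h.al.hy
  have AS := h.al.le
  have BS := h.BA.trans AS
  have sS := AS h.sA
  have zc : ∀ y ∈ S, y * z = z * y := fun y hy => mem_centralizer_iff.1 h.al.cen y hy
  have inv : ∀ y ∈ S, y ∈ Ct B → y * y = 1 → y ∈ B := fun y yS yc yy => by
    by_contra k
    have := hy.le16 h.no (sup_le BS (zpowers_le.2 yS)) (el_sup_zp h.el yc yy)
    rw [(card_sup_zp (ct_le_nm _ yc) k (by rw [yy]; exact one_mem _)).1, h.cB] at this
    omega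
  have xx : x * x = t := h.x2.resolve_left fun e => h.xA (h.BA (inv x h.xS hx e))
  obtain ⟨c, hc⟩ : ∃ c, c = s * x * s⁻¹ * x⁻¹ := ⟨_, rfl⟩
  have cA : c ∈ A := by
    rw [hc, show s * x * s⁻¹ * x⁻¹ = s * (x * s⁻¹ * x⁻¹) by group]
    exact A.mul_mem h.sA (conj_mem_of_mem_normalizer (h.al.nm h.xS) (A.inv_mem h.sA))
  have ez : c * (x * c * x⁻¹) = z := by
    rw [← h.st, ← xx, commutatorElement_def, hc]; group
  have cB : c ∈ Ct B := mem_centralizer_iff.2 fun b hb => by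
    have xb : b * x = x * b := mem_centralizer_iff.1 hx b hb
    obtain ⟨w, hw, wc⟩ : ∃ w, s * b * s⁻¹ = w * b ∧ ∀ y ∈ S, y * w = w * y := by
      refine ⟨⁅s, b⁆, by rw [commutatorElement_def]; group, ?_⟩
      rcases h.al.comm h.sA (h.BA hb) with e | e <;> rw [e]
      · simp
      · exact zc
    have e1 : c * (x * (s * b * s⁻¹) * x⁻¹) * c⁻¹ = s * b * s⁻¹ := by
      calc _ = s * (x * b * x⁻¹) * s⁻¹ := by rw [hc]; group
        _ = _ := by rw [← xb, mul_inv_cancel_right]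
    rw [hw, ← mul_assoc x, wc x h.xS, mul_assoc w, ← xb, ← mul_assoc w, mul_inv_cancel_right, ← mul_assoc c,
      wc c (AS cA), mul_assoc w, mul_assoc w, mul_right_inj, mul_inv_eq_iff_eq_mul] at e1
    exact e1.symm
  have cB' : c ∉ B := fun k => h.al.z1 (by
    rw [← ez, ← mem_centralizer_iff.1 hx c k, mul_inv_cancel_right, h.el c k])
  have cc : c * c = z := (h.al.sq c cA).resolve_left fun e => cB' (inv c (AS cA) cB e)
  have xc : x * c = c * x := mul_inv_eq_iff_eq_mul.1 (mul_left_cancel (ez.trans cc.symm))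
  have c4 : orderOf c = 4 := orderOf_eq_prime_pow (p := 2) (n := 1) (by simpa [sq, cc] using h.al.z1)
    (by rw [show 2 ^ (1 + 1) = 2 * 2 from rfl, pow_mul, sq, sq, cc, h.al.z2])
  have zp : ∀ y : G, Ab (zpowers y) := by
    rintro y _ ⟨i, rfl⟩ _ ⟨j, rfl⟩
    exact zpow_mul_comm y i j
  obtain ⟨k1, -⟩ := card_sup_zp (ct_le_nm _ cB) cB' (cc ▸ h.zB)
  have ab1 : Ab (B ⊔ zpowers c) := h.el.ab.sup (zp c) (le_ct_comm.1 (zpowers_le.2 cB))
  have CA : B ⊔ zpowers c ≤ A := sup_le h.BA (zpowers_le.2 cA)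
  have cC : c ∈ B ⊔ zpowers c := mem_sup_right (mem_zpowers c)
  have xC : x ∈ Ct (B ⊔ zpowers c) := zpowers_le.1 (le_ct_comm.1 (sup_le (le_ct_comm.1 (zpowers_le.2 hx))
    (le_ct_comm.1 (zpowers_le.2 (le_ct_comm.1 (zpowers_le.2 (show c ∈ Ct (zpowers x) from ?_)) (mem_zpowers x))))))
  swap
  · refine mem_centralizer_iff.2 ?_
    rintro _ ⟨i, rfl⟩
    exact (Commute.zpow_left xc i).eq
  obtain ⟨k2, m2⟩ := card_sup_zp (ct_le_nm _ xC) (fun k => h.xA (CA k)) (xx ▸ mem_sup_left h.tB)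
  have ab2 : Ab (B ⊔ zpowers c ⊔ zpowers x) := ab1.sup (zp x) (le_ct_comm.1 (zpowers_le.2 xC))
  rw [k1, h.cB] at k2
  have CM : B ⊔ zpowers c ≤ B ⊔ zpowers c ⊔ zpowers x := le_sup_left
  have xM : x ∈ B ⊔ zpowers c ⊔ zpowers x := mem_sup_right (mem_zpowers x)
  have MS : B ⊔ zpowers c ⊔ zpowers x ≤ S := sup_le (CA.trans AS) (zpowers_le.2 h.xS)
  generalize B ⊔ zpowers c ⊔ zpowers x = M at k2 m2 ab2 CM xM MS
  have BM : B ≤ M := le_sup_left.trans CM
  have st : ¬ s * t = t * s := fun e => h.al.z1 (by rw [← h.st]; exact commutatorElement_eq_one_iff_mul_comm.2 e)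
  have sM : s ∉ M := fun k => st (ab2 s k t (BM h.tB))
  have i2 : Nat.card S ≤ 2 * Nat.card M := by rw [hy.card, k2]
  have gen : ∀ X : Subgroup G, M ≤ X → s ∈ X → S ≤ X := fun X h1 h2 y hy => by
    by_cases k : y ∈ M
    · exact h1 k
    · exact (X.mul_mem_cancel_right h2).1 (h1 (idx2_mul MS i2 hy sS k sM))
  have zY : z ∈ zpowers c := cc ▸ mul_mem (mem_zpowers c) (mem_zpowers c)
  have cmA : ∀ a ∈ A, ∀ b ∈ A, ⁅a, b⁆ ∈ zpowers c := fun a ha b hb => by
    rcases h.al.comm ha hb with e | e <;> rw [e]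
    exacts [one_mem _, zY]
  have nY : S ≤ Nm (zpowers c) := by
    refine gen _ (fun m hm => ct_le_nm _ (mem_centralizer_iff.2 fun y hy =>
      ab2 y (zpowers_le.2 (CM cC) hy) m hm)) (mem_normalizer_of_cj_le ?_)
    rw [cj_zpowers, zpowers_le, show s * c * s⁻¹ = ⁅s, c⁆ * c by rw [commutatorElement_def]; group]
    exact mul_mem (cmA s h.sA c cA) (mem_zpowers c)
  have cs : ∀ a ∈ M, ⁅a, s⁆ ∈ zpowers c := fun a ha => by
    rcases (m2 a).1 ha with k | k
    · exact cmA a (CA k) s h.sA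
    · rw [show ⁅a, s⁆ = a * (x * c⁻¹ * x⁻¹)⁻¹ * a⁻¹ * ⁅a * x, s⁆ by
        simp only [inv_inv, commutatorElement_def]
        rw [show (x * c⁻¹ * x⁻¹)⁻¹ = x * c * x⁻¹ by group, xc, mul_inv_cancel_right, hc]
        group]
      exact mul_mem (conj_mem_of_mem_normalizer (nY (MS ha)) (inv_mem (conj_mem_of_mem_normalizer (nY h.xS)
        (by simp)))) (cmA _ (CA k) s h.sA)
  have der := comm_le MS i2 sS sM (fun y hy v hv => conj_mem_of_mem_normalizer (nY hy) hv)
    (fun a ha b hb => by rw [commutatorElement_eq_one_iff_mul_comm.2 (ab2 a ha b hb)]; exact one_mem _) cs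
  have MZ : M ⊓ Cx s ≤ S ⊓ Ct S := fun m hm => mem_inf.2 ⟨MS hm.1, (le_ct_comm (A := S) (B := zpowers m)).1 (gen _
    (fun y hy => mem_centralizer_iff.2 fun v hv => ab2 v (zpowers_le.2 hm.1 hv) y hy)
    (mem_centralizer_iff.2 (by
      rintro _ ⟨i, rfl⟩
      exact (Commute.zpow_left (mem_centralizer_singleton_iff.1 hm.2) i).eq))) (mem_zpowers m)⟩
  have ZM : S ⊓ Ct S ≤ M := fun v hv => by
    by_contra k
    have e1 := ab2 _ (idx2_mul MS i2 hv.1 sS k sM) t (BM h.tB)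
    rw [← mul_assoc, mem_centralizer_iff.1 hv.2 t (BS h.tB), mul_assoc, mul_assoc, mul_right_inj] at e1
    exact st e1
  have tZ : t ∉ Cx s := fun k => st (mem_centralizer_singleton_iff.1 k).symm
  refine ⟨B ⊓ Cx s, c, hy, h.no, AS cA, c4, der, ?_, ?_, fun v => ⟨fun hv => ?_, fun hv => ?_⟩⟩
  · have l1 := SzS.card_le_of_comm cs
    have l2 := card_le_of_le MZ
    rw [k2, Nat.card_zpowers, c4] at l1
    have l3 : ¬ Nat.card M ≤ 2 * Nat.card (S ⊓ Ct S : Subgroup G) := fun k => by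
      have : t ∈ S ⊓ Ct S := by
        rw [← xx]
        by_cases e : x ∈ S ⊓ Ct S
        · exact mul_mem e e
        · exact idx2_mul ZM k xM xM e e
      exact st (mem_centralizer_iff.1 this.2 s sS)
    have := hy.card_cases (A := S ⊓ Ct S) inf_le_left
    change 2 * (2 * 16) ≤ Nat.card (M ⊓ Cx s : Subgroup G) * 4 at l1
    omega
  · have l1 := h.al.card_cent h.BA (t := s) fun d hd => h.al.comm (h.BA hd) h.sA
    have l2 : ¬ Nat.card B ≤ Nat.card (B ⊓ Cx s : Subgroup G) := fun k =>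
      tZ ((eq_of_le_of_card_ge inf_le_left k).ge h.tB).2
    have := hy.card_cases (A := B ⊓ Cx s) (inf_le_left.trans BS)
    rw [h.cB] at l1 l2
    omega
  · have := MZ (mem_inf.2 ⟨BM hv.1, hv.2⟩)
    exact ⟨this.1, this.2, h.el v hv.1⟩
  · exact mem_inf.2 ⟨inv v hv.1 (centralizer_le BS hv.2.1) hv.2.2,
      mem_centralizer_singleton_iff.2 (mem_centralizer_iff.1 hv.2.1 s sS).symm⟩

end CfsgLib.J3O
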