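import Cfsg.Agent.Lib.J3O.N2a
import Cfsg.Agent.Lib.J3O.N2b

/-! N2.  See `N2a.lean` and `N2b.lean`. -/
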