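import Cfsg.Agent.Lib.J3O.Al
import Cfsg.Agent.Lib.J3O.Tr

/-! N2a.  The element `x` centralises `B` (the proof is described in `N2.lean`). -/

set_option autoImplicit false
set_option linter.unusedSectionVars false
set_option linter.unusedVariables false

namespace CfsgLib.J3O
open Subgroup Cfsg CfsgLib.Tech CfsgLib.ACT
open scoped commutatorElement

variable {G : Type*} [Group G] [Finite G]

/-- an involution of `S` that centralises an elementary subgroup of order 16 lies in it -/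
theorem Hy.mem16 {S B : Subgroup G} (h : Hy S) (hno : ∀ E, ¬ E32 S E) (hB : B ≤ S) (he : El B)
    (hc : Nat.card B = 16) {u : G} (hu : u ∈ S) (uu : u * u = 1) (c : u ∈ Ct B) : u ∈ B := by
  by_contra n
  have h1 := (card_sup_zp (ct_le_nm B c) n (by rw [uu]; exact one_mem _)).1
  have h2 := h.le16 hno (sup_le hB (zpowers_le.2 hu)) (el_sup_zp he c uu)
  omega

theorem N3.fixB {S A B : Subgroup G} {z t x s : G} (h : N3 S A B z t x s) : x ∈ Ct B := by
  have al := h.al
  have hy := al.hy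
  have zc : ∀ g ∈ S, g * z = z * g := mem_centralizer_iff.1 al.cen
  have cc : ∀ {y : G}, y = 1 ∨ y = z → ∀ g ∈ S, g * y * g⁻¹ = y := fun e g hg => by
    rcases e with rfl | rfl
    · group
    · rw [zc g hg, mul_inv_cancel_right]
  have sS := al.le h.sA
  have st : s * t ≠ t * s := fun e => al.z1 (by
    rw [← h.st]; exact commutatorElement_eq_one_iff_mul_comm.2 e)
  have conjx : ∀ b ∈ B, ⁅b, x⁆ = t → x * b * x⁻¹ = b * t := fun b hb e => by
    rw [← e, commutatorElement_def, inv_eq_of_mul_eq_one_right (h.el b hb)]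
    calc x * b * x⁻¹ = b * b * x * b * x⁻¹ := by rw [h.el b hb, one_mul]
      _ = _ := by group
  by_contra hx
  obtain ⟨b, hb, eb⟩ : ∃ b ∈ B, ⁅b, x⁆ = t := by
    by_contra n
    push Not at n
    exact hx (mem_centralizer_iff.2 fun b hb =>
      commutatorElement_eq_one_iff_mul_comm.1 ((h.xB b hb).resolve_right (n b hb)))
  obtain ⟨Y, A1, ya⟩ := al.exists_YA h.xS h.xA
  have tY : t ∈ Y := (ya.memY t).2 ⟨b, h.BA hb, Or.inl eb.symm⟩
  have cY : ⁅s, x⁆ ∈ Y := (ya.memY _).2 ⟨s, h.sA, Or.inl rfl⟩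
  have cB : ⁅s, x⁆ ∉ B := fun cB => by
    have btB : b * t ∈ B := mul_mem hb h.tB
    have e1 : x * s * x⁻¹ = ⁅s, x⁆⁻¹ * s := by rw [commutatorElement_def]; group
    have e2 := cc (al.comm h.sA (h.BA hb)) x h.xS
    rw [conjugate_commutatorElement, e1, conjx b hb eb] at e2
    have e3 : ⁅s, b * t⁆ = ⁅s, b⁆ * z := by
      calc ⁅s, b * t⁆ = ⁅s, b⁆ * (b * ⁅s, t⁆ * b⁻¹) := by simp only [commutatorElement_def]; group
        _ = _ := by rw [h.st, cc (Or.inr rfl) b (al.le (h.BA hb))]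
    have e4 : ⁅⁅s, x⁆⁻¹ * s, b * t⁆ = ⁅s, b * t⁆ := by
      generalize ⁅s, x⁆ = c at cB
      calc ⁅c⁻¹ * s, b * t⁆ = c⁻¹ * ⁅s, b * t⁆ * c⁻¹⁻¹ * ⁅c⁻¹, b * t⁆ := by
            simp only [commutatorElement_def]; group
        _ = _ := by
          rw [cc (al.comm h.sA (h.BA btB)) _ (al.le (h.BA (inv_mem cB))),
            commutatorElement_eq_one_iff_mul_comm.2 (h.el.ab _ (inv_mem cB) _ btB), mul_one]
    rw [e4, e3] at e2
    exact al.z1 (by simpa using e2)
  have oz : orderOf z = 2 := ord_two al.z2 al.z1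
  have t1 : t ≠ 1 := fun e => st (by rw [e]; simp)
  have ot : orderOf t = 2 := ord_two (h.el t h.tB) t1
  have zt : z ≠ t := fun e => st (by rw [← e]; exact zc s sS)
  obtain ⟨-, c4, m4⟩ := bas_four oz ot zt (h.el.ab z h.zB t h.tB)
  have YB : Y ⊓ B = zpowers z ⊔ zpowers t := by
    refine (eq_of_le_of_card_ge (sup_le (zpowers_le.2 (mem_inf.2 ⟨ya.zY, h.zB⟩))
      (zpowers_le.2 (mem_inf.2 ⟨tY, h.tB⟩))) ?_).symm
    have h1 := ya.le8
    obtain ⟨k, hk⟩ := card_dvd_of_le (inf_le_left : Y ⊓ B ≤ Y)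
    have h2 : k ≠ 1 := fun e => cB ((eq_of_le_of_card_ge (inf_le_left : Y ⊓ B ≤ Y)
      (by rw [hk, e, mul_one])).ge cY).2
    have h3 : k ≠ 0 := fun e => Nat.card_pos.ne' (by rw [hk, e, mul_zero])
    have := Nat.mul_le_mul_left (Nat.card (Y ⊓ B : Subgroup G)) (show 2 ≤ k by omega)
    omega
  have sB : s ∉ B := fun e => st (h.el.ab s e t h.tB)
  have zz : ∀ {y : G}, y = 1 ∨ y = z → y ∈ B := fun e => by
    rcases e with rfl | rfl
    exacts [one_mem _, h.zB]
  have sn : s ∈ Nm B := mem_normalizer_of_forall fun y hy => by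
    rw [show s * y * s⁻¹ = ⁅s, y⁆ * y by rw [commutatorElement_def]; group]
    exact mul_mem (zz (al.comm h.sA (h.BA hy))) hy
  have c32 := (card_sup_zp sn sB (zz (al.sq s h.sA))).1
  have le1 : B ⊔ zpowers s ≤ A := sup_le h.BA (zpowers_le.2 h.sA)
  obtain ⟨r, rA, rn⟩ := SetLike.not_le_iff_exists.1 fun e : A ≤ B ⊔ zpowers s => by
    have := card_le_of_le e
    rw [c32, h.cB, al.card] at this
    omega
  have k1 := al.card_cent h.BA (t := s) fun d hd => al.comm (h.BA hd) h.sA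
  have k2 := al.card_cent (D := B ⊓ Cx s) (inf_le_left.trans h.BA) (t := r)
    fun d hd => al.comm (h.BA hd.1) rA
  have le2 : B ⊓ Cx s ⊓ Cx r ≤ B ⊓ Ct A := fun v hv => ⟨hv.1.1, mem_centralizer_iff.2 fun a ha => by
    have l : B ⊔ zpowers s ≤ Cx v := sup_le
      (fun y hy => mem_centralizer_singleton_iff.2 (h.el.ab y hy v hv.1.1))
      (zpowers_le.2 (mem_centralizer_singleton_iff.2
        (mem_centralizer_singleton_iff.1 hv.1.2).symm))
    have rv : r ∈ Cx v := mem_centralizer_singleton_iff.2 (mem_centralizer_singleton_iff.1 hv.2).symm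
    refine mem_centralizer_singleton_iff.1 ?_
    by_cases e : a ∈ B ⊔ zpowers s
    · exact l e
    · simpa using mul_mem (l (idx2_mul le1 (by rw [c32, h.cB, al.card]) ha (inv_mem rA) e
        (by rwa [inv_mem_iff]))) rv⟩
  have k3 := card_le_of_le le2
  have tZ : t ∉ Ct A := fun e => st (mem_centralizer_iff.1 e s h.sA)
  have xZ : ∀ v ∈ B ⊓ Ct A, v * x = x * v := fun v hv => by
    refine commutatorElement_eq_one_iff_mul_comm.1 ((h.xB v hv.1).resolve_right fun e => tZ ?_)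
    have h1 : x * v * x⁻¹ ∈ Ct A := mem_centralizer_iff.2 fun a ha => by
      have := mem_centralizer_iff.1 hv.2 _ (conj_mem_of_mem_normalizer' (al.nm h.xS) ha)
      calc a * (x * v * x⁻¹) = x * (x⁻¹ * a * x * v) * x⁻¹ := by group
        _ = _ := by rw [this]; group
    rwa [conjx v hv.1 e, mul_mem_cancel_left (mem_inf.1 hv).2] at h1
  have ZS : B ⊓ Ct A ≤ Ct S := fun v hv => mem_centralizer_iff.2 fun g hg => by
    by_cases e : g ∈ A
    · exact mem_centralizer_iff.1 hv.2 g e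
    · have := mem_centralizer_iff.1 hv.2 _ (al.mul hg (inv_mem h.xS) e (by
        rw [inv_mem_iff]; exact h.xA))
      calc g * v = g * x⁻¹ * (x * v) := by group
        _ = g * x⁻¹ * v * x := by rw [← xZ v hv]; group
        _ = v * g := by rw [this]; group
  have k4 : Nat.card (B ⊓ Ct A : Subgroup G) ≤ 4 := by
    by_contra lt
    have h1 := (card_sup_zp (A := B ⊓ Ct A) (x := t) (ct_le_nm _ (mem_centralizer_iff.2 fun v hv =>
      h.el.ab v hv.1 t h.tB)) (fun e => tZ e.2) (by rw [h.el t h.tB]; exact one_mem _)).1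
    have h2 := hy.card_cases ((inf_le_left : B ⊓ Ct A ≤ B).trans (h.BA.trans al.le))
    have h3 : B ⊓ Ct A ⊔ zpowers t = B :=
      eq_of_le_of_card_ge (sup_le inf_le_left (zpowers_le.2 h.tB)) (by rw [h1, h.cB]; omega)
    refine hx (le_ct_comm.1 (?_ : B ≤ Ct (zpowers x)) (mem_zpowers x))
    rw [← h3]
    refine sup_le (fun v hv => ?_) (zpowers_le.2 ?_) <;> refine mem_centralizer_iff.2 ?_ <;>
      rintro _ ⟨i, rfl⟩
    · exact (Commute.zpow_left (xZ v hv).symm i).eq
    · exact (Commute.zpow_left h.xt i).eq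
  obtain ⟨u, hu, un⟩ := SetLike.not_le_iff_exists.1 fun e : B ⊓ Ct A ≤ zpowers z => by
    have := card_le_of_le e
    rw [Nat.card_zpowers, oz] at this
    rw [h.cB] at k1
    omega
  have u1 : u ≠ 1 := fun e => un (e ▸ one_mem _)
  have uz : u ≠ z := fun e => un (e ▸ mem_zpowers _)
  have uu := h.el u hu.1
  have zZ : z ∈ B ⊓ Ct A := ⟨h.zB, mem_centralizer_iff.2 fun a ha => zc a (al.le ha)⟩
  obtain ⟨-, d4, n4⟩ := bas_four (ord_two uu u1) oz uz (h.el.ab u hu.1 z h.zB)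
  have eZ : zpowers u ⊔ zpowers z = B ⊓ Ct A :=
    eq_of_le_of_card_ge (sup_le (zpowers_le.2 hu) (zpowers_le.2 zZ)) (by rw [d4]; exact k4)
  have uY : u ∉ Y := fun e => by
    rcases m4 u (YB ▸ ⟨e, hu.1⟩) with e1 | e1 | e1 | e1
    · exact u1 e1
    · exact uz e1
    · exact tZ (e1 ▸ hu.2)
    · exact tZ ((mul_mem_cancel_left (mem_inf.1 zZ).2).1 (e1 ▸ (mem_inf.1 hu).2))
  obtain ⟨g, g1, g2, g3⟩ := hy.t2 ya.der (al.le (h.BA hu.1)) uY uu hy.two fun a ha =>
    mem_centralizer_singleton_iff.2 (mem_centralizer_iff.1 (ZS hu) a ha)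
  have gn : g ∈ Nm S := mem_normalizer_of_cj_le g2
  have g4 : ∀ a ∈ S, a * (g * u * g⁻¹) = g * u * g⁻¹ * a := fun a ha => by
    have := mem_centralizer_iff.1 (ZS hu) _ (conj_mem_of_mem_normalizer' gn ha)
    calc a * (g * u * g⁻¹) = g * (g⁻¹ * a * g * u) * g⁻¹ := by group
      _ = _ := by rw [this]; group
  have g5 : g * u * g⁻¹ ∈ B ⊓ Ct A :=
    ⟨hy.mem16 h.no (h.BA.trans al.le) h.el h.cB g1 (by rw [conj_mul, uu]; group)
      (mem_centralizer_iff.2 fun a ha => g4 a (al.le (h.BA ha))),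
      mem_centralizer_iff.2 fun a ha => g4 a (al.le ha)⟩
  rcases n4 _ (eZ ▸ g5) with e | e | e | e
  · exact u1 (by simpa using e)
  · exact g3 (by rw [e]; simp)
  · rw [← al.nfix gn] at e
    exact uz (by simpa using e)
  · exact g3 (by rw [e]; simpa using ya.zY)

end CfsgLib.J3O
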