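import Cfsg.Agent.Lib.J3O.L1
import Cfsg.Agent.Lib.J3O.N1
import Cfsg.Agent.Lib.J3O.N2
import Cfsg.Agent.Lib.J3O.Cy
import Cfsg.Agent.Lib.J3O.MA
import Cfsg.Agent.Lib.J3O.MB
import Cfsg.Agent.Lib.J3O.B4

/-! The sectional rank is at most four. -/

set_option autoImplicit false
set_option linter.unusedSectionVars false
set_option linter.unusedVariables false

namespace CfsgLib.J3O
open Subgroup Cfsg CfsgLib.Tech CfsgLib.ACT
open scoped commutatorElement

variable {G : Type*} [Group G] [Finite G]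

theorem Hy.sr {S : Subgroup G} (h : Hy S) : Sect.SR 16 S := by
  by_contra hs
  by_cases hE : ∃ E, E32 S E
  · obtain ⟨E1, h1⟩ := hE
    by_cases hn : ∀ E, E32 S E → S ≤ Nm E
    · by_cases hu : ∀ E', E32 S E' → E' = E1
      · exact Un.false ⟨h, h1, hu⟩
      · push Not at hu
        obtain ⟨E2, h2, hne⟩ := hu
        obtain ⟨e1, e2, z, hM⟩ := h.exists_M2 h1 h2 (h2.le.trans (hn _ h1))
          (h.inf16 h1 h2 (hn _ h1) (hn _ h2) hne.symm)
        exact hM.caseB hn
    · push Not at hn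
      obtain ⟨E, hE, hn⟩ := hn
      obtain ⟨x, hx, hle, hc⟩ := h.swap hE hn
      have h2 : E32 S (cj x E) := by
        refine ⟨cj_le_iff.2 fun e he => S.mul_mem (S.mul_mem hx (hE.le he)) (S.inv_mem hx), ?_,
          (card_cj _ _).trans hE.card⟩
        intro y hy
        have := hE.el _ (mem_cj.1 hy)
        calc y * y = x * (x⁻¹ * y * x * (x⁻¹ * y * x)) * x⁻¹ := by group
          _ = 1 := by rw [this]; group
      obtain ⟨e1, e2, z, hM⟩ := h.exists_M2 hE h2 hle hc
      exact hM.caseA hx rfl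
  · have hno : ∀ E, ¬ E32 S E := fun E he => hE ⟨E, he⟩
    obtain ⟨A, z, hA⟩ := (h.l1 hs).resolve_left hE
    obtain ⟨B, t, x, s, h3⟩ := hA.n3 hno
    obtain ⟨Z1, c, hc⟩ := h3.cy h3.fixB
    exact hc.false

end CfsgLib.J3O
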